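import Mathlib

/-!
# A Klein four Sylow subgroup with small involution centralizers

`M` finite, `A` central of odd order, `E` a Sylow `2`-subgroup, Klein four, with `C_M(s) ≤ E A` for all `s ∈ E^#`.
If `N_M(E) = C_M(E)`, then `M = E A`.
-/

set_option autoImplicit false
set_option linter.style.haveILetI false
set_option linter.unusedSectionVars false

namespace Cfsg.Agent.Lib.JT.Cit

open Subgroup
open scoped Pointwise

universe u

variable {K : Type u} [Group K] [Finite K]

/-- An automorphism `φ` of order `2` (given by `s`): if `C_K(s) = A` is central of odd order then every element is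
`c x` with `c ∈ A`, `x` inverted. -/
theorem exists_decomp (hodd : Odd (Nat.card K)) (φ : K →* K) (hφ : ∀ k, φ (φ k) = k) (A : Subgroup K)
    (hAc : ∀ c ∈ A, ∀ k, c * k = k * c) (hfix : ∀ k, φ k = k ↔ k ∈ A) (k : K) :
    ∃ c ∈ A, ∃ x, φ x = x⁻¹ ∧ k = c * x := by
  classical
  haveI : Fintype K := Fintype.ofFinite K
  -- `I` = inverted elements
  let I : Set K := {x | φ x = x⁻¹}
  -- squares are injective
  have hsq : ∀ d : K, d * d = 1 → d = 1 := by
    intro d hd
    have h1 : orderOf d ∣ 2 := orderOf_dvd_of_pow_eq_one (by rwa [pow_two])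
    have h2 : orderOf d ∣ Nat.card K := orderOf_dvd_natCard d
    have h3 : Nat.Coprime 2 (Nat.card K) := Nat.coprime_two_left.2 hodd
    have h4 := Nat.dvd_gcd h1 h2
    rw [h3.gcd_eq_one, Nat.dvd_one] at h4
    exact orderOf_eq_one_iff.1 h4
  let f : K → I := fun k => ⟨k⁻¹ * φ k, by
    change φ (k⁻¹ * φ k) = (k⁻¹ * φ k)⁻¹
    rw [map_mul, map_inv, hφ]
    group⟩
  -- fibres of `f`
  let g : A × I → K := fun p => (p.1 : K) * (p.2 : K)
  have hfixA : ∀ c : A, φ (c : K) = c := fun c => (hfix _).2 c.2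
  have hg : Function.Injective g := by
    rintro ⟨c, x⟩ ⟨c', x'⟩ h
    have h1 : (c : K) * x = c' * x' := h
    have h2 : (c : K) * (x : K)⁻¹ = c' * (x' : K)⁻¹ := by
      have := congrArg φ h1
      rw [map_mul, map_mul, hfixA, hfixA, x.2, x'.2] at this
      exact this
    set d : K := (c' : K)⁻¹ * c with hd
    have hdA : d ∈ A := A.mul_mem (A.inv_mem c'.2) c.2
    have h3 : (x' : K) = d * x := by
      rw [hd, mul_assoc, h1]
      group
    have h4 : (x' : K)⁻¹ = d * (x : K)⁻¹ := by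
      rw [hd, mul_assoc, h2]
      group
    have h5 : d * d = 1 := by
      have h6 : (x' : K)⁻¹ * x' = 1 := inv_mul_cancel _
      rw [h4, h3] at h6
      have h7 : d * (x : K)⁻¹ * (d * x) = d * d := by
        rw [mul_assoc d, ← mul_assoc (x : K)⁻¹ d, ← hAc d hdA]
        group
      rw [h7] at h6
      exact h6
    have h6 : d = 1 := hsq d h5
    have h7 : (c : K) = c' := by
      rw [hd, inv_mul_eq_one] at h6
      exact h6.symm
    have h8 : (x' : K) = x := by
      rw [h3, h6, one_mul]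
    exact Prod.ext (Subtype.ext h7) (Subtype.ext h8.symm)
  have hcard : Nat.card K ≤ Nat.card A * Nat.card I := by
    -- `|K| = Σ fibres of f`, each fibre has size `|A|`
    have hfib : ∀ y : I, Nat.card {k // f k = y} ≤ Nat.card A := by
      intro y
      by_cases hy : ∃ k₀, f k₀ = y
      · obtain ⟨k₀, hk₀⟩ := hy
        refine Nat.card_le_card_of_injective (fun k : {k // f k = y} =>
            (⟨(k : K) * k₀⁻¹, ?_⟩ : A)) ?_
        · rw [← hfix]
          have h1 : (k : K)⁻¹ * φ k = k₀⁻¹ * φ k₀ :=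
            congrArg Subtype.val (k.2.trans hk₀.symm)
          rw [map_mul, map_inv]
          have h2 : φ k = k * (k₀⁻¹ * φ k₀) := by
            rw [← h1]
            group
          rw [h2]
          group
        · intro a b hab
          have h1 : (a : K) * k₀⁻¹ = b * k₀⁻¹ := congrArg Subtype.val hab
          exact Subtype.ext (mul_right_cancel h1)
      · have : IsEmpty {k // f k = y} := ⟨fun k => hy ⟨k.1, k.2⟩⟩
        rw [Nat.card_of_isEmpty]
        exact Nat.zero_le _
    letI : Fintype I := Fintype.ofFinite I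
    letI : Fintype A := Fintype.ofFinite A
    have h1 : Nat.card K = ∑ y : I, Nat.card {k // f k = y} := by
      rw [Nat.card_congr (Equiv.sigmaFiberEquiv f).symm, Nat.card_sigma]
    rw [h1]
    calc ∑ y : I, Nat.card {k // f k = y} ≤ ∑ _y : I, Nat.card A := Finset.sum_le_sum (fun y _ => hfib y)
      _ = Nat.card A * Nat.card I := by
        rw [Finset.sum_const, Finset.card_univ, smul_eq_mul, mul_comm, Nat.card_eq_fintype_card (α := I)]
  have hsurj : Function.Surjective g := by
    have hbij := (Function.Injective.bijective_of_nat_card_le hg (by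
      rw [Nat.card_prod]
      exact hcard))
    exact hbij.2
  obtain ⟨⟨c, x⟩, hcx⟩ := hsurj k
  exact ⟨c, c.2, x, x.2, hcx.symm⟩

/-- Two commuting automorphisms of order `2` whose fixed points (and those of the product) are the central
subgroup `A`, on a group of odd order: `K = A`. -/
theorem eq_of_klein (hodd : Odd (Nat.card K)) (φ ψ : K →* K) (hφ : ∀ k, φ (φ k) = k) (hψ : ∀ k, ψ (ψ k) = k)
    (hφψ : ∀ k, φ (ψ k) = ψ (φ k)) (A : Subgroup K) (hAc : ∀ c ∈ A, ∀ k, c * k = k * c)
    (hfix : ∀ k, φ k = k ↔ k ∈ A) (hfix2 : ∀ k, ψ k = k ↔ k ∈ A) (hfix3 : ∀ k, φ (ψ k) = k ↔ k ∈ A) (k : K) :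
    k ∈ A := by
  obtain ⟨c, hc, x, hx, rfl⟩ := exists_decomp hodd φ hφ A hAc hfix k
  refine A.mul_mem hc ?_
  obtain ⟨c', hc', x', hx', hxx⟩ := exists_decomp hodd ψ hψ A hAc hfix2 x
  -- `φ ψ x = c'^2 x`
  have h1 : φ (c' : K) = c' := (hfix _).2 hc'
  have h2 : ψ (c' : K) = c' := (hfix2 _).2 hc'
  have h3 : ψ x = c' * x'⁻¹ := by
    rw [hxx, map_mul, h2, hx']
  have h3' : x'⁻¹ = c'⁻¹ * ψ x := by
    rw [h3]; group
  have h4 : φ x' = c'⁻¹ * x⁻¹ := by
    have : x' = c'⁻¹ * x := by rw [hxx]; group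
    rw [this, map_mul, map_inv, h1, hx]
  have h5 : φ (ψ x) = (c' * c') * x := by
    rw [h3, map_mul, h1, map_inv, h4]
    have hcomm := hAc c' hc' x
    calc c' * (c'⁻¹ * x⁻¹)⁻¹ = c' * (x * c') := by group
      _ = c' * (c' * x) := by rw [hcomm]
      _ = c' * c' * x := by group
  -- apply twice
  have hA2 : ∀ y, φ (ψ ((c' * c') * y)) = (c' * c') * φ (ψ y) := by
    intro y
    simp only [map_mul, h2, h1]
  have h6 : φ (ψ (φ (ψ x))) = (c' * c') * ((c' * c') * x) := by
    rw [h5, hA2, h5]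
  have h7 : φ (ψ (φ (ψ x))) = x := by
    rw [← hφψ (ψ x), hφ, hψ]
  rw [h7] at h6
  have h8 : (c' * c') * (c' * c') = 1 := by
    apply mul_right_cancel (b := x)
    rw [one_mul, mul_assoc]
    exact h6.symm
  -- `c'` has odd order
  have h9 : c' = 1 := by
    have h40 : c' ^ 4 = 1 := by
      have : c' ^ 4 = (c' * c') * (c' * c') := by
        simp only [pow_succ, pow_zero, one_mul, mul_assoc]
      rw [this, h8]
    have h10 : orderOf c' ∣ 4 := orderOf_dvd_of_pow_eq_one h40
    have h11 : orderOf c' ∣ Nat.card K := orderOf_dvd_natCard c'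
    have h12 : Nat.Coprime 4 (Nat.card K) := by
      have : Nat.Coprime 2 (Nat.card K) := Nat.coprime_two_left.2 hodd
      exact Nat.Coprime.pow_left 2 this
    have h13 := Nat.dvd_gcd h10 h11
    rw [h12.gcd_eq_one, Nat.dvd_one] at h13
    exact orderOf_eq_one_iff.1 h13
  rw [h9] at h5
  simp only [mul_one, one_mul] at h5
  exact (hfix3 x).1 h5

/-- Burnside plus `eq_of_klein`. -/
theorem eq_mul_of_norm {M : Type u} [Group M] [Finite M] (P : Sylow 2 M) (A : Subgroup M)
    (hAc : ∀ c ∈ A, ∀ k, c * k = k * c) (hAodd : Odd (Nat.card A))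
    (s₁ s₂ : M) (hs₁ : s₁ ∈ (P : Subgroup M)) (hs₂ : s₂ ∈ (P : Subgroup M)) (h1 : s₁ ≠ 1) (h2 : s₂ ≠ 1) (h12 : s₁ ≠ s₂)
    (hs₁2 : s₁ * s₁ = 1) (hs₂2 : s₂ * s₂ = 1) (hc12 : s₁ * s₂ = s₂ * s₁)
    (hC : ∀ s ∈ (P : Subgroup M), s ≠ 1 → ∀ g, g * s = s * g → ∃ e ∈ (P : Subgroup M), ∃ c ∈ A, g = e * c)
    (hN : Subgroup.normalizer ((P : Subgroup M) : Set M) ≤ Subgroup.centralizer ((P : Subgroup M) : Set M))
    (g : M) : ∃ e ∈ (P : Subgroup M), ∃ c ∈ A, g = e * c := by
  classical
  haveI : Fact (Nat.Prime 2) := ⟨Nat.prime_two⟩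
  have hcomp := MonoidHom.ker_transferSylow_isComplement' P hN
  set K : Subgroup M := (MonoidHom.transferSylow P hN).ker with hK
  haveI hKn : K.Normal := MonoidHom.normal_ker _
  have hKP : K ⊓ (P : Subgroup M) = ⊥ := hcomp.isCompl.inf_eq_bot
  have hKodd : Odd (Nat.card K) := by
    have h3 : Nat.card K = (P : Subgroup M).index := hcomp.index_eq_card.symm
    rw [h3, ← Nat.not_even_iff_odd, even_iff_two_dvd]
    exact P.not_dvd_index
  have hAK : A ≤ K := by
    intro c hc
    rw [hK, MonoidHom.mem_ker]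
    set y := MonoidHom.transferSylow P hN c with hy
    have h3 : orderOf y ∣ Nat.card (P : Subgroup M) := orderOf_dvd_natCard y
    have h4 : orderOf y ∣ orderOf c := orderOf_map_dvd _ _
    have h5 : orderOf c ∣ Nat.card A := by
      have := orderOf_dvd_natCard (⟨c, hc⟩ : A)
      rwa [Subgroup.orderOf_mk] at this
    have h6 : Nat.Coprime (Nat.card A) (Nat.card (P : Subgroup M)) := by
      obtain ⟨n, hn⟩ := IsPGroup.iff_card.1 P.isPGroup'
      rw [hn]
      exact Nat.Coprime.pow_right n (Nat.coprime_two_right.2 hAodd)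
    have h7 := Nat.dvd_gcd (h4.trans h5) h3
    rw [h6.gcd_eq_one, Nat.dvd_one] at h7
    exact orderOf_eq_one_iff.1 h7
  -- fixed points
  let AK : Subgroup K := A.subgroupOf K
  have hfixgen : ∀ s ∈ (P : Subgroup M), s ≠ 1 → ∀ k : K, s * (k : M) * s⁻¹ = k ↔ k ∈ AK := by
    intro s hs hs1 k
    constructor
    · intro hk
      have h3 : (k : M) * s = s * k := (mul_inv_eq_iff_eq_mul.1 hk).symm
      obtain ⟨e, he, c, hc, hec⟩ := hC s hs hs1 k h3
      have h4 : e = (k : M) * c⁻¹ := by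
        rw [hec]
        group
      have h5 : e ∈ K := by
        rw [h4]
        exact K.mul_mem k.2 (K.inv_mem (hAK hc))
      have h6 : e ∈ K ⊓ (P : Subgroup M) := ⟨h5, he⟩
      rw [hKP, Subgroup.mem_bot] at h6
      rw [Subgroup.mem_subgroupOf, hec, h6, one_mul]
      exact hc
    · intro hk
      have h3 := hAc k hk s
      rw [← h3]
      group
  let conjK : M → (K →* K) := fun s => (MulAut.conjNormal s).toMonoidHom
  have hconj : ∀ s (k : K), ((conjK s k : K) : M) = s * k * s⁻¹ := fun s k => MulAut.conjNormal_apply s k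
  have hinv : ∀ s, s * s = 1 → ∀ k, conjK s (conjK s k) = k := by
    intro s hs k
    apply Subtype.ext
    rw [hconj, hconj]
    have h3 : s⁻¹ = s := inv_eq_of_mul_eq_one_left hs
    rw [h3]
    calc s * (s * (k : M) * s) * s = (s * s) * k * (s * s) := by group
      _ = k := by rw [hs]; group
  have hs3 : s₁ * s₂ ≠ 1 := by
    intro h
    apply h12
    have := eq_inv_of_mul_eq_one_left h
    rw [this, inv_eq_of_mul_eq_one_left hs₂2]
  have hfin := fun k => eq_of_klein hKodd (conjK s₁) (conjK s₂) (hinv s₁ hs₁2) (hinv s₂ hs₂2)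
    (by
      intro k
      apply Subtype.ext
      rw [hconj, hconj, hconj, hconj]
      have h3 : s₂ * s₁ = s₁ * s₂ := hc12.symm
      calc s₁ * (s₂ * (k : M) * s₂⁻¹) * s₁⁻¹ = (s₁ * s₂) * k * (s₁ * s₂)⁻¹ := by group
        _ = (s₂ * s₁) * k * (s₂ * s₁)⁻¹ := by rw [h3]
        _ = s₂ * (s₁ * (k : M) * s₁⁻¹) * s₂⁻¹ := by group)
    AK (by
      intro c hc k
      apply Subtype.ext
      exact hAc c hc k)
    (by
      intro k
      rw [← hfixgen s₁ hs₁ h1 k, ← hconj]
      exact ⟨fun h => by rw [h], fun h => Subtype.ext h⟩)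
    (by
      intro k
      rw [← hfixgen s₂ hs₂ h2 k, ← hconj]
      exact ⟨fun h => by rw [h], fun h => Subtype.ext h⟩)
    (by
      intro k
      rw [← hfixgen (s₁ * s₂) ((P : Subgroup M).mul_mem hs₁ hs₂) hs3 k]
      constructor
      · intro h
        have h3 := congrArg Subtype.val h
        rw [hconj, hconj] at h3
        calc (s₁ * s₂) * (k : M) * (s₁ * s₂)⁻¹ = s₁ * (s₂ * (k : M) * s₂⁻¹) * s₁⁻¹ := by group
          _ = k := h3
      · intro h
        apply Subtype.ext
        rw [hconj, hconj]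
        calc s₁ * (s₂ * (k : M) * s₂⁻¹) * s₁⁻¹ = (s₁ * s₂) * (k : M) * (s₁ * s₂)⁻¹ := by group
          _ = k := h)
    k
  -- conclusion
  have hsup : (K : Set M) * ((P : Subgroup M) : Set M) = Set.univ := by
    have := hcomp.mul_eq
    exact this
  have hg : g ∈ (K : Set M) * ((P : Subgroup M) : Set M) := by
    rw [hsup]
    trivial
  obtain ⟨k, hk, e, he, rfl⟩ := hg
  have h3 := hfin ⟨k, hk⟩
  refine ⟨e, he, k, h3, ?_⟩
  exact hAc k h3 e

end Cfsg.Agent.Lib.JT.Cit
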