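/-
Janko-Thompson, case `q` even: from a simple group with abelian Sylow `2`-subgroups and
`C(t) = C₂ × PSL₂(F)`, `|F| = q` even, we extract the action of `N(S)/S` on the Sylow subgroup
`S = ⟨t⟩ × R ≅ ZMod 2 × F`: it is of odd order, the stabiliser of `t = (1, 0)` is the group of
the scalars `(e, x) ↦ (e, a x)`, and there are no nonzero fixed vectors.
-/
import Cfsg.Agent.Lib.PLocal.BorelTwo
import Mathlib.GroupTheory.Transfer
import Mathlib.GroupTheory.Sylow
import Mathlib.FieldTheory.Finite.Basic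
import Mathlib.Algebra.Group.End
import Mathlib.Algebra.CharP.Two

set_option autoImplicit false
set_option linter.style.haveILetI false
set_option linter.unusedSectionVars false
set_option linter.unusedVariables false

namespace Cfsg.Agent.Lib.JT.EvenLocal

open Subgroup Matrix
open Cfsg.Agent.Lib.PLocal.BorelTwo
open scoped MatrixGroups

section SL

variable {F : Type*} [Field F] [CharP F 2]

lemma two_eq : (2 : F) = 0 := CharTwo.two_eq_zero

lemma sq_one {a : F} (h : a ^ 2 = 1) : a = 1 := by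
  have h2 : (2 : F) = 0 := two_eq
  have h3 : (a - 1) ^ 2 = 0 := by linear_combination h + (1 - a) * h2
  have h4 := pow_eq_zero_iff (two_ne_zero) |>.1 h3
  exact sub_eq_zero.1 h4

lemma center_bot : Subgroup.center SL(2, F) = ⊥ := by
  rw [eq_bot_iff]
  intro g hg
  obtain ⟨r, hr2, hr⟩ := (Matrix.SpecialLinearGroup.mem_center_iff).1 hg
  have hr1 : r ^ 2 = 1 := by simpa using hr2
  have h1 := sq_one hr1
  rw [Subgroup.mem_bot]
  apply Subtype.ext
  rw [← hr, h1]
  simp

lemma pr_inj {g h : SL(2, F)} (e : pr F g = pr F h) : g = h := by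
  have h1 := pr_eq_iff.1 e
  rw [center_bot, Subgroup.mem_bot] at h1
  exact (inv_mul_eq_one.1 h1)

lemma uu_zero : uu (0 : F) = 1 := by
  apply sl_ext <;> simp [uu]

lemma uu_inj {x y : F} (e : uu x = uu y) : x = y := by
  have := congrArg (fun g : SL(2, F) => g.1 0 1) e
  simpa [uu] using this

lemma uu_one_ne : uu (1 : F) ≠ 1 := by
  intro h
  have := congrArg (fun g : SL(2, F) => g.1 0 1) h
  simp [uu] at this

/-- An element commuting with `uu 1` is in the root group. -/
lemma eq_uu_of_comm {h : SL(2, F)} (e : h * uu 1 = uu 1 * h) : h = uu (h.1 0 1) := by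
  have e1 := congrArg (fun g : SL(2, F) => g.1 0 1) e
  have e0 := congrArg (fun g : SL(2, F) => g.1 0 0) e
  simp only [ent_mul] at e1 e0
  simp [uu] at e1 e0
  have hd := det_eq h
  have h10 : h.1 1 0 = 0 := e0
  have h2 : h.1 0 0 = h.1 1 1 := by linear_combination e1
  rw [h10, mul_zero, sub_zero, ← h2] at hd
  have h3 : h.1 0 0 = 1 := sq_one (by rw [sq]; exact hd)
  have h4 : h.1 1 1 = 1 := by rw [← h2, h3]
  exact uu_ent h ⟨h10, h3, h4⟩

lemma conj_uu {h : SL(2, F)} (hb : h ∈ bT F) (y : F) :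
    h * uu y * h⁻¹ = uu ((h.1 0 0) ^ 2 * y) := by
  have hd := det_eq h
  have h10 : h.1 1 0 = 0 := hb
  rw [h10, mul_zero, sub_zero] at hd
  obtain ⟨i1, i2, i3, i4⟩ := inv_ent h
  apply sl_ext
  · rw [ent_mul, ent_mul, ent_mul, i1, i3]
    simp [uu, h10]
    linear_combination hd
  · rw [ent_mul, ent_mul, ent_mul, i2, i4]
    simp [uu]
    ring
  · rw [ent_mul, ent_mul, ent_mul, i1, i3]
    simp [uu, h10]
  · rw [ent_mul, ent_mul, ent_mul, i2, i4]
    simp [uu, h10]
    linear_combination hd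

lemma mem_bT_of_conj {h : SL(2, F)} {y : F} (e : h * uu 1 * h⁻¹ = uu y) : h ∈ bT F := by
  by_contra hk
  have h1 : h * uu 1 * h⁻¹ ∈ bT F := by
    rw [e]
    exact uT_le_bT (uu_mem y)
  exact uu_one_ne (uT_conj h (uu 1) hk (uu_mem 1) h1)

lemma dd_ent (s : F) (hs : s ≠ 0) : (dd s hs).1 0 0 = s := by
  simp [dd]

end SL

section Beta

variable {G : Type*} [Group G] {F : Type*} [Field F] [CharP F 2]
  (t : G)
  (ι : Subgroup.centralizer ({t} : Set G) ≃* Multiplicative (ZMod 2) × PSL(2, F))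

/-- The elements of `⟨t⟩ × R` in the centraliser. -/
noncomputable def gam (v : ZMod 2 × F) : Subgroup.centralizer ({t} : Set G) :=
  ι.symm (Multiplicative.ofAdd v.1, pr F (uu v.2))

/-- The elements of `⟨t⟩ × R` in `G`. -/
noncomputable def bet (v : ZMod 2 × F) : G := (gam t ι v : G)

lemma iota_gam (v : ZMod 2 × F) : ι (gam t ι v) = (Multiplicative.ofAdd v.1, pr F (uu v.2)) := by
  simp [gam]

lemma gam_add (v w : ZMod 2 × F) : gam t ι (v + w) = gam t ι v * gam t ι w := by
  apply ι.injective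
  rw [map_mul, iota_gam, iota_gam, iota_gam]
  simp only [Prod.fst_add, Prod.snd_add, Prod.mk_mul_mk, ofAdd_add, ← map_mul, uu_mul]

lemma bet_add (v w : ZMod 2 × F) : bet t ι (v + w) = bet t ι v * bet t ι w := by
  simp [bet, gam_add]

lemma gam_zero : gam t ι (0 : ZMod 2 × F) = 1 := by
  apply ι.injective
  rw [iota_gam]
  simp [uu_zero]

lemma bet_zero : bet t ι (0 : ZMod 2 × F) = 1 := by
  simp [bet, gam_zero]

lemma gam_inj {v w : ZMod 2 × F} (e : gam t ι v = gam t ι w) : v = w := by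
  have e1 := congrArg ι e
  rw [iota_gam, iota_gam] at e1
  have e2 := congrArg Prod.fst e1
  have e3 := congrArg Prod.snd e1
  simp only at e2 e3
  exact Prod.ext (Multiplicative.ofAdd.injective e2) (uu_inj (pr_inj e3))

lemma bet_inj {v w : ZMod 2 × F} (e : bet t ι v = bet t ι w) : v = w :=
  gam_inj t ι (Subtype.ext e)

lemma add_self_V (v : ZMod 2 × F) : v + v = 0 := by
  apply Prod.ext
  · exact CharTwo.add_self_eq_zero _
  · exact CharTwo.add_self_eq_zero _

lemma bet_sq (v : ZMod 2 × F) : bet t ι v * bet t ι v = 1 := by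
  rw [← bet_add, add_self_V, bet_zero]

lemma bet_comm (v w : ZMod 2 × F) : bet t ι v * bet t ι w = bet t ι w * bet t ι v := by
  rw [← bet_add, ← bet_add, add_comm]

/-- The subgroup `⟨t⟩ × R` of `G`. -/
noncomputable def betHom : Multiplicative (ZMod 2 × F) →* G where
  toFun v := bet t ι (Multiplicative.toAdd v)
  map_one' := bet_zero t ι
  map_mul' x y := bet_add t ι _ _

/-- The subgroup `⟨t⟩ × R` of `G`. -/
noncomputable def sS : Subgroup G := (betHom t ι).range

lemma mem_sS {x : G} : x ∈ sS t ι ↔ ∃ v, bet t ι v = x := by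
  constructor
  · rintro ⟨v, rfl⟩
    exact ⟨Multiplicative.toAdd v, rfl⟩
  · rintro ⟨v, rfl⟩
    exact ⟨Multiplicative.ofAdd v, rfl⟩

lemma bet_mem (v : ZMod 2 × F) : bet t ι v ∈ sS t ι := (mem_sS t ι).2 ⟨v, rfl⟩

lemma sS_isPGroup : IsPGroup 2 (sS t ι) := by
  rintro ⟨x, hx⟩
  obtain ⟨v, rfl⟩ := (mem_sS t ι).1 hx
  refine ⟨1, ?_⟩
  apply Subtype.ext
  simp only [pow_one, Subgroup.coe_one, sq]
  exact bet_sq t ι v

lemma mem_cent {g : G} (h : g * t = t * g) : g ∈ Subgroup.centralizer ({t} : Set G) := by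
  rw [Subgroup.mem_centralizer_iff]
  rintro _ rfl
  exact h.symm

/-- The image of `t`. -/
lemma iota_t (ht : t ≠ 1) :
    ι ⟨t, mem_cent t rfl⟩ = (Multiplicative.ofAdd (1 : ZMod 2), (1 : PSL(2, F))) := by
  set T : Subgroup.centralizer ({t} : Set G) := ⟨t, mem_cent t rfl⟩ with hT
  have hcen : ∀ y, y * T = T * y := by
    rintro ⟨y, hy⟩
    apply Subtype.ext
    have := Subgroup.mem_centralizer_iff.1 hy t rfl
    exact this.symm
  rcases hι : ι T with ⟨c, x⟩
  have hx : x = 1 := by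
    obtain ⟨h, rfl⟩ := pr_surj x
    have h1 : ∀ g : SL(2, F), g * h = h * g := by
      intro g
      apply pr_inj
      have h2 := hcen (ι.symm (1, pr F g))
      have h3 := congrArg ι h2
      rw [map_mul, map_mul, MulEquiv.apply_symm_apply, hι] at h3
      have h4 := congrArg Prod.snd h3
      simpa using h4
    have h2 : h ∈ Subgroup.center SL(2, F) := by
      rw [Subgroup.mem_center_iff]
      exact h1
    rw [center_bot, Subgroup.mem_bot] at h2
    rw [h2, map_one]
  have hc : c = Multiplicative.ofAdd (1 : ZMod 2) := by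
    have h1 : c ≠ 1 := by
      rintro rfl
      have h2 : ι T = 1 := by
        rw [hι, hx]
        rfl
      have h3 : T = 1 := by simpa using h2
      exact ht (congrArg Subtype.val h3)
    revert h1
    generalize c = c'
    intro h1
    have h2 : ∀ z : ZMod 2, z ≠ 0 → z = 1 := by decide
    have h3 := h2 (Multiplicative.toAdd c') (fun h => h1 (by
      change Multiplicative.ofAdd (Multiplicative.toAdd c') = 1
      rw [h]
      rfl))
    rw [← h3]
    rfl
  rw [hx, hc]

lemma bet_t (ht : t ≠ 1) : bet t ι ((1, 0) : ZMod 2 × F) = t := by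
  have h1 : gam t ι ((1, 0) : ZMod 2 × F) = ⟨t, mem_cent t rfl⟩ := by
    apply ι.injective
    rw [iota_gam, iota_t t ι ht]
    simp [uu_zero]
  exact congrArg Subtype.val h1

/-- `C_G(S) ≤ S`. -/
lemma cent_le (ht : t ≠ 1) {g : G} (hg : ∀ v, g * bet t ι v = bet t ι v * g) :
    ∃ v, g = bet t ι v := by
  have h1 : g * t = t * g := by
    have := hg (1, 0)
    rwa [bet_t t ι ht] at this
  set g' : Subgroup.centralizer ({t} : Set G) := ⟨g, mem_cent t h1⟩ with hg'
  rcases hι : ι g' with ⟨c, x⟩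
  obtain ⟨h, rfl⟩ := pr_surj x
  have h2 : h * uu 1 = uu 1 * h := by
    apply pr_inj
    have h3 : g' * gam t ι (0, 1) = gam t ι (0, 1) * g' := Subtype.ext (hg (0, 1))
    have h4 := congrArg ι h3
    rw [map_mul, map_mul, iota_gam, hι] at h4
    have h5 := congrArg Prod.snd h4
    simpa using h5
  have h3 := eq_uu_of_comm h2
  refine ⟨(Multiplicative.toAdd c, h.1 0 1), ?_⟩
  have h4 : g' = gam t ι (Multiplicative.toAdd c, h.1 0 1) := by
    apply ι.injective
    rw [iota_gam, hι]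
    simp only [ofAdd_toAdd]
    rw [← h3]
  exact congrArg Subtype.val h4

/-- Elements fixing `t` act as scalars. -/
lemma scalar_of_fix (ht : t ≠ 1) {g : G} {φ : ZMod 2 × F → ZMod 2 × F}
    (hφ : ∀ v, g * bet t ι v * g⁻¹ = bet t ι (φ v)) (h1 : φ (1, 0) = (1, 0)) :
    ∃ a : F, a ≠ 0 ∧ ∀ v, φ v = (v.1, a * v.2) := by
  have h2 : g * t * g⁻¹ = t := by
    have := hφ (1, 0)
    rwa [h1, bet_t t ι ht] at this
  have h3 : g * t = t * g := by
    calc g * t = g * t * g⁻¹ * g := by group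
      _ = t * g := by rw [h2]
  set g' : Subgroup.centralizer ({t} : Set G) := ⟨g, mem_cent t h3⟩ with hg'
  rcases hι : ι g' with ⟨c, x⟩
  obtain ⟨h, rfl⟩ := pr_surj x
  have key : ∀ v, (Multiplicative.ofAdd v.1, pr F (h * uu v.2 * h⁻¹)) =
      (Multiplicative.ofAdd (φ v).1, pr F (uu (φ v).2)) := by
    intro v
    have h4 : g' * gam t ι v * g'⁻¹ = gam t ι (φ v) := Subtype.ext (hφ v)
    have h5 := congrArg ι h4
    rw [map_mul, map_mul, map_inv, iota_gam, iota_gam, hι] at h5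
    rw [← h5]
    simp only [Prod.mk_mul_mk, Prod.inv_mk, map_mul, map_inv]
    congr 1
    rw [mul_comm c, mul_inv_cancel_right]
  have k1 : ∀ v, (φ v).1 = v.1 := fun v => by
    have := congrArg Prod.fst (key v)
    exact (Multiplicative.ofAdd.injective this).symm
  have k2 : ∀ v, h * uu v.2 * h⁻¹ = uu (φ v).2 := fun v => by
    have := congrArg Prod.snd (key v)
    exact pr_inj this
  have hb : h ∈ bT F := mem_bT_of_conj (k2 (0, 1))
  have hd := det_eq h
  have h10 : h.1 1 0 = 0 := hb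
  rw [h10, mul_zero, sub_zero] at hd
  have ha : h.1 0 0 ≠ 0 := left_ne_zero_of_mul_eq_one hd
  refine ⟨(h.1 0 0) ^ 2, pow_ne_zero 2 ha, fun v => ?_⟩
  apply Prod.ext
  · exact k1 v
  · have := k2 v
    rw [conj_uu hb] at this
    exact (uu_inj this).symm

/-- The scalars are realised. -/
lemma exists_of_scalar [Finite F] {a : F} (ha : a ≠ 0) :
    ∃ g : G, ∀ v : ZMod 2 × F, g * bet t ι v * g⁻¹ = bet t ι (v.1, a * v.2) := by
  classical
  haveI : Fintype F := Fintype.ofFinite F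
  have hchar : ringChar F = 2 := ringChar.eq F 2
  obtain ⟨s, hs⟩ := FiniteField.isSquare_of_char_two hchar a
  have hs0 : s ≠ 0 := by
    rintro rfl
    exact ha (by simpa using hs)
  refine ⟨((ι.symm (1, pr F (dd s hs0)) : Subgroup.centralizer ({t} : Set G)) : G), fun v => ?_⟩
  have h1 : ι.symm (1, pr F (dd s hs0)) * gam t ι v * (ι.symm (1, pr F (dd s hs0)))⁻¹ =
      gam t ι (v.1, a * v.2) := by
    apply ι.injective
    rw [map_mul, map_mul, map_inv, MulEquiv.apply_symm_apply, iota_gam, iota_gam]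
    simp only [Prod.mk_mul_mk, Prod.inv_mk, one_mul, inv_one, mul_one]
    congr 1
    rw [← map_inv, ← map_mul, ← map_mul, conj_uu (dd_mem s hs0), dd_ent, hs]
    congr 2
    ring
  exact congrArg Subtype.val h1

end Beta

section Main

variable {G : Type*} [Group G] [Finite G] {F : Type*} [Field F] [Fintype F] [CharP F 2]
  (t : G)
  (ι : Subgroup.centralizer ({t} : Set G) ≃* Multiplicative (ZMod 2) × PSL(2, F))

/-- The group of automorphisms of `V = ZMod 2 × F` induced by elements of `G`. -/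
noncomputable def aA : Subgroup (Equiv.Perm (ZMod 2 × F)) where
  carrier := {φ | ∃ g : G, ∀ v, g * bet t ι v * g⁻¹ = bet t ι (φ v)}
  one_mem' := ⟨1, fun v => by simp⟩
  mul_mem' := by
    rintro φ φ' ⟨g, hg⟩ ⟨g', hg'⟩
    refine ⟨g * g', fun v => ?_⟩
    have h1 : (φ * φ') v = φ (φ' v) := rfl
    rw [h1, ← hg, ← hg']
    group
  inv_mem' := by
    rintro φ ⟨g, hg⟩
    refine ⟨g⁻¹, fun v => ?_⟩
    have h1 : φ (φ⁻¹ v) = v := by
      have : (φ * φ⁻¹) v = v := by rw [mul_inv_cancel]; rfl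
      exact this
    have h2 := hg (φ⁻¹ v)
    rw [h1] at h2
    rw [← h2]
    group

/-- Elements of the normaliser of `S` induce automorphisms. -/
lemma exists_aut {n : G} (hn : n ∈ Subgroup.normalizer ((sS t ι : Subgroup G) : Set G)) :
    ∃ φ : Equiv.Perm (ZMod 2 × F), ∀ v, n * bet t ι v * n⁻¹ = bet t ι (φ v) := by
  have h1 : ∀ v, ∃ w, n * bet t ι v * n⁻¹ = bet t ι w := by
    intro v
    have h2 := (Subgroup.mem_normalizer_iff.1 hn (bet t ι v)).1 (bet_mem t ι v)
    obtain ⟨w, hw⟩ := (mem_sS t ι).1 h2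
    exact ⟨w, hw.symm⟩
  choose f hf using h1
  have hinj : Function.Injective f := by
    intro v w e
    apply bet_inj t ι
    have h2 : n * bet t ι v * n⁻¹ = n * bet t ι w * n⁻¹ := by rw [hf, hf, e]
    simpa using h2
  have hbij : Function.Bijective f := Finite.injective_iff_bijective.1 hinj
  exact ⟨Equiv.ofBijective f hbij, fun v => hf v⟩

end Main

section Final

variable {G : Type*} [Group G] [Finite G] [IsSimpleGroup G]
  {F : Type*} [Field F] [Fintype F] [CharP F 2]
  (t : G)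
  (ι : Subgroup.centralizer ({t} : Set G) ≃* Multiplicative (ZMod 2) × PSL(2, F))

/-- `S` is a Sylow subgroup. -/
lemma exists_sylow (hab : ∀ P : Sylow 2 G, ∀ a b : P, a * b = b * a) (ht : t ≠ 1) :
    ∃ P : Sylow 2 G, (P : Subgroup G) = sS t ι := by
  obtain ⟨Q, hQ⟩ := (sS_isPGroup t ι).exists_le_sylow
  refine ⟨Q, le_antisymm ?_ hQ⟩
  intro x hx
  obtain ⟨v, rfl⟩ := cent_le t ι ht (g := x) (fun v => by
    have := hab Q ⟨x, hx⟩ ⟨bet t ι v, hQ (bet_mem t ι v)⟩
    exact congrArg Subtype.val this)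
  exact bet_mem t ι v

/-- An element inducing an automorphism normalises `S`. -/
lemma mem_normalizer_of {g : G} {φ : Equiv.Perm (ZMod 2 × F)}
    (hg : ∀ v, g * bet t ι v * g⁻¹ = bet t ι (φ v)) :
    g ∈ Subgroup.normalizer ((sS t ι : Subgroup G) : Set G) := by
  rw [Subgroup.mem_normalizer_iff]
  intro x
  constructor
  · intro hx
    obtain ⟨v, rfl⟩ := (mem_sS t ι).1 hx
    rw [hg]
    exact bet_mem t ι _
  · intro hx
    obtain ⟨w, hw⟩ := (mem_sS t ι).1 hx
    have h1 := hg (φ.symm w)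
    rw [Equiv.apply_symm_apply, hw] at h1
    have h2 : x = bet t ι (φ.symm w) := by
      have : g * x * g⁻¹ = g * bet t ι (φ.symm w) * g⁻¹ := h1.symm
      simpa using this
    rw [h2]
    exact bet_mem t ι _

lemma aA_odd (hab : ∀ P : Sylow 2 G, ∀ a b : P, a * b = b * a) (ht : t ≠ 1) :
    Odd (Nat.card (aA t ι)) := by
  classical
  haveI : Finite (Equiv.Perm (ZMod 2 × F)) :=
    Finite.of_injective (fun φ : Equiv.Perm (ZMod 2 × F) => (φ : ZMod 2 × F → ZMod 2 × F))
      DFunLike.coe_injective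
  by_contra hodd
  rw [Nat.not_odd_iff_even] at hodd
  haveI : Fact (Nat.Prime 2) := ⟨Nat.prime_two⟩
  obtain ⟨⟨φ, hφ⟩, hord⟩ := exists_prime_orderOf_dvd_card' (G := aA t ι) 2 hodd.two_dvd
  obtain ⟨g, hg⟩ := hφ
  have hφ2 : φ * φ = 1 := by
    have := pow_orderOf_eq_one (⟨φ, ⟨g, hg⟩⟩ : aA t ι)
    rw [hord, sq] at this
    exact congrArg Subtype.val this
  have hφ1 : φ ≠ 1 := by
    rintro rfl
    have h0 : orderOf (⟨1, ⟨g, hg⟩⟩ : aA t ι) = 1 := by
      rw [orderOf_eq_one_iff]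
      rfl
    rw [h0] at hord
    omega
  obtain ⟨P, hP⟩ := exists_sylow t ι hab ht
  have hn := mem_normalizer_of t ι hg
  -- `g²` centralises `S`
  have h2 : ∀ v, g * g * bet t ι v = bet t ι v * (g * g) := by
    intro v
    have h3 : φ (φ v) = v := by
      have : (φ * φ) v = v := by rw [hφ2]; rfl
      exact this
    have h4 := hg (φ v)
    rw [h3, ← hg v] at h4
    have h5 : g * (g * bet t ι v * g⁻¹) * g⁻¹ = bet t ι v := h4
    calc g * g * bet t ι v = g * (g * bet t ι v * g⁻¹) * g⁻¹ * (g * g) := by group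
      _ = bet t ι v * (g * g) := by rw [h5]
  obtain ⟨w, hw⟩ := cent_le t ι ht h2
  have h4 : g ^ 4 = 1 := by
    have : g ^ 4 = (g * g) * (g * g) := by
      simp only [pow_succ, pow_zero, one_mul, mul_assoc]
    rw [this, hw, bet_sq]
  have hp : IsPGroup 2 (Subgroup.zpowers g) := by
    have h5 : orderOf g ∣ 2 ^ 2 := orderOf_dvd_of_pow_eq_one (by simpa using h4)
    obtain ⟨k, -, hk⟩ := (Nat.dvd_prime_pow Nat.prime_two).1 h5
    exact IsPGroup.of_card (n := k) (by rw [Nat.card_zpowers]; exact hk)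
  have hle : Subgroup.zpowers g ≤ Subgroup.normalizer ((P : Subgroup G) : Set G) := by
    rw [hP, Subgroup.zpowers_le]
    exact hn
  have hsup := hp.to_sup_of_normal_right' P.isPGroup' hle
  have hmax := P.is_maximal' hsup le_sup_right
  have hgP : g ∈ (P : Subgroup G) := by
    have h5 : g ∈ Subgroup.zpowers g ⊔ (P : Subgroup G) :=
      Subgroup.mem_sup_left (Subgroup.mem_zpowers g)
    rwa [hmax] at h5
  rw [hP] at hgP
  obtain ⟨u, rfl⟩ := (mem_sS t ι).1 hgP
  apply hφ1
  ext1 v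
  apply bet_inj t ι
  rw [← hg v, bet_comm]
  simp

include t ι in
lemma not_comm_of (h8 : 3 ≤ Fintype.card F) : ∃ a b : G, a * b ≠ b * a := by
  classical
  have hs : ∃ s : F, s ≠ 0 ∧ s ≠ 1 := by
    by_contra hcon
    push Not at hcon
    have h1 : (Finset.univ : Finset F) ⊆ {0, 1} := by
      intro s _
      by_cases h0 : s = 0
      · simp [h0]
      · simp [hcon s h0]
    have h2 := Finset.card_le_card h1
    have h3 : ({0, 1} : Finset F).card ≤ 2 := Finset.card_le_two
    rw [Finset.card_univ] at h2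
    omega
  obtain ⟨s, hs0, hs1⟩ := hs
  refine ⟨((ι.symm (1, pr F (dd s hs0)) : Subgroup.centralizer ({t} : Set G)) : G),
    ((ι.symm (1, pr F (uu 1)) : Subgroup.centralizer ({t} : Set G)) : G), ?_⟩
  intro e
  have h1 : ι.symm (1, pr F (dd s hs0)) * ι.symm (1, pr F (uu 1)) =
      ι.symm (1, pr F (uu 1)) * ι.symm (1, pr F (dd s hs0)) := Subtype.ext e
  have h2 := congrArg ι h1
  rw [map_mul, map_mul, MulEquiv.apply_symm_apply, MulEquiv.apply_symm_apply] at h2
  have h3 := congrArg Prod.snd h2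
  simp only [Prod.mk_mul_mk, ← map_mul] at h3
  have h4 := pr_inj h3
  have h5 := conj_uu (dd_mem s hs0) (1 : F)
  rw [h4, mul_inv_cancel_right, dd_ent, mul_one] at h5
  have h6 := uu_inj h5
  exact hs1 (sq_one h6.symm)

lemma no_fixed (hab : ∀ P : Sylow 2 G, ∀ a b : P, a * b = b * a) (ht : t ≠ 1)
    (hnab : ∃ a b : G, a * b ≠ b * a) (v : ZMod 2 × F)
    (hv : ∀ φ ∈ aA t ι, φ v = v) : v = 0 := by
  classical
  by_contra hv0
  haveI : Fact (Nat.Prime 2) := ⟨Nat.prime_two⟩
  obtain ⟨P, hP⟩ := exists_sylow t ι hab ht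
  have hs1 : bet t ι v ≠ 1 := by
    intro h
    rw [← bet_zero t ι] at h
    exact hv0 (bet_inj t ι h)
  have hcen : ∀ n ∈ Subgroup.normalizer ((sS t ι : Subgroup G) : Set G),
      n * bet t ι v * n⁻¹ = bet t ι v := by
    intro n hn
    obtain ⟨φ, hφ⟩ := exists_aut t ι hn
    rw [hφ, hv φ ⟨n, hφ⟩]
  haveI hcomm : IsMulCommutative (P : Subgroup G) := IsMulCommutative.of_comm (hab P)
  have key : ∀ (k : ℕ) (g₀ : G), g₀⁻¹ * bet t ι v ^ k * g₀ ∈ (P : Subgroup G) →
      g₀⁻¹ * bet t ι v ^ k * g₀ = bet t ι v ^ k := by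
    intro k g₀ h
    have hmem : bet t ι v ^ k ∈ (P : Subgroup G) := by
      rw [hP]
      exact pow_mem (bet_mem t ι v) k
    haveI : IsMulCommutative (P : Subgroup G) := hcomm
    obtain ⟨n, hn, e⟩ := P.conj_eq_normalizer_conj_of_mem (bet t ι v ^ k) g₀ hmem h
    rw [e]
    have hn' : n⁻¹ ∈ Subgroup.normalizer ((sS t ι : Subgroup G) : Set G) := by
      rw [← hP]
      exact inv_mem hn
    have h1 := hcen _ hn'
    have h2 := conj_pow (a := n⁻¹) (b := bet t ι v) (i := k)
    rw [h1, inv_inv] at h2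
    exact h2.symm
  letI : CommGroup (P : Subgroup G) :=
    { (inferInstance : Group (P : Subgroup G)) with mul_comm := hab P }
  let τ : G →* (P : Subgroup G) := MonoidHom.transfer (MonoidHom.id (P : Subgroup G))
  have hτ : (τ (bet t ι v) : G) = bet t ι v := by
    have h1 := MonoidHom.transfer_eq_pow (MonoidHom.id (P : Subgroup G)) (bet t ι v) key
    have h2 : (τ (bet t ι v) : G) = bet t ι v ^ (P : Subgroup G).index := by
      change ((MonoidHom.transfer (MonoidHom.id (P : Subgroup G))) (bet t ι v) : G) = _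
      rw [h1]
      rfl
    rw [h2]
    have h3 : Odd (P : Subgroup G).index := by
      rw [Nat.odd_iff, ← Nat.two_dvd_ne_zero]
      exact P.not_dvd_index
    obtain ⟨m, hm⟩ := h3
    rw [hm, pow_succ, pow_mul, sq, bet_sq, one_pow, one_mul]
  have hne : τ (bet t ι v) ≠ 1 := by
    intro h
    rw [h] at hτ
    exact hs1 hτ.symm
  rcases IsSimpleGroup.eq_bot_or_eq_top_of_normal τ.ker inferInstance with h | h
  · obtain ⟨a, b, hab'⟩ := hnab
    apply hab'
    have hinj : Function.Injective τ := (MonoidHom.ker_eq_bot_iff τ).1 h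
    apply hinj
    rw [map_mul, map_mul, mul_comm]
  · apply hne
    have : bet t ι v ∈ τ.ker := by rw [h]; exact Subgroup.mem_top _
    exact this

end Final

/-- The interface for the even case of the Janko-Thompson theorem. -/
theorem even_local {G : Type*} [Group G] [Finite G] [IsSimpleGroup G]
    (hab : ∀ P : Sylow 2 G, ∀ a b : P, a * b = b * a)
    {F : Type*} [Field F] [Fintype F] (h2 : Even (Fintype.card F)) (h8 : 8 ≤ Fintype.card F)
    (t : G) (ht : orderOf t = 2)
    (hC : Nonempty (Subgroup.centralizer ({t} : Set G) ≃*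
      Multiplicative (ZMod 2) × Matrix.ProjectiveSpecialLinearGroup (Fin 2) F)) :
    ∃ A : Subgroup (Equiv.Perm (ZMod 2 × F)), Odd (Nat.card A) ∧
      (∀ φ ∈ A, ∀ v w, φ (v + w) = φ v + φ w) ∧
      (∀ φ : Equiv.Perm (ZMod 2 × F), (φ ∈ A ∧ φ (1, 0) = (1, 0)) ↔
        ∃ a : F, a ≠ 0 ∧ ∀ v, φ v = (v.1, a * v.2)) ∧
      (∀ v, (∀ φ ∈ A, φ v = v) → v = 0) := by
  obtain ⟨ι⟩ := hC
  obtain ⟨p, hp⟩ := CharP.exists F
  obtain ⟨n, hpp, hn⟩ := FiniteField.card F p
  have hp2 : p = 2 := by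
    have h3 : 2 ∣ p ^ (n : ℕ) := by
      rw [← hn]
      exact h2.two_dvd
    exact ((Nat.prime_dvd_prime_iff_eq Nat.prime_two hpp).1
      (Nat.prime_two.dvd_of_dvd_pow h3)).symm
  subst hp2
  have ht1 : t ≠ 1 := by
    rintro rfl
    simp at ht
  refine ⟨aA t ι, aA_odd t ι hab ht1, ?_, fun φ => ⟨?_, ?_⟩,
    no_fixed t ι hab ht1 (not_comm_of t ι (by omega))⟩
  · rintro φ ⟨g, hg⟩ v w
    apply bet_inj t ι
    rw [bet_add, ← hg, ← hg, ← hg, bet_add]
    group
  · rintro ⟨⟨g, hg⟩, h1⟩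
    exact scalar_of_fix t ι ht1 (φ := φ) hg h1
  · rintro ⟨a, ha, hφ⟩
    refine ⟨?_, by rw [hφ]; simp⟩
    obtain ⟨g, hg⟩ := exists_of_scalar t ι ha
    exact ⟨g, fun v => by rw [hg, hφ]⟩

end Cfsg.Agent.Lib.JT.EvenLocal
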