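import Cfsg.Agent.Lib.Char.Induced

/-! # Block H: the general TI induction formula (HB2).
`H ≤ G`, `Hs ⊆ H`, `w k` (`k < n`) normalize `H` and `Hs`, the cosets `H w k` are distinct, and every conjugation between elements
of `Hs` lies in `⋃ H w k`.  For class functions `ψ, ψ'` on `H` vanishing off `Hs`:
`ψ^G(x) = ∑ₖ ψ(wₖ x wₖ⁻¹)` on `Hs`, and `⟨ψ^G, ψ'^G⟩ = ∑ₖ ⟨ψ, ψ'^{wₖ}⟩`. -/

set_option autoImplicit false

namespace Cfsg.Agent.Lib.JT.HB2TI

open Cfsg Cfsg.Agent.Lib.Char.Induced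
open scoped ComplexConjugate

universe u

variable {G : Type u} [Group G]

/-- The TI data. -/
structure TIData (H : Subgroup G) {n : ℕ} (w : Fin n → G) (Hs : Set G) : Prop where
  hsub : ∀ x ∈ Hs, x ∈ H
  hnorm : ∀ k, ∀ x ∈ H, w k * x * (w k)⁻¹ ∈ H
  hnorm' : ∀ k, ∀ x ∈ H, (w k)⁻¹ * x * w k ∈ H
  hstar : ∀ k, ∀ x ∈ Hs, w k * x * (w k)⁻¹ ∈ Hs
  hTI : ∀ x ∈ Hs, ∀ g : G, g * x * g⁻¹ ∈ Hs → ∃ h ∈ H, ∃ k, g = h * w k
  hdisj : ∀ k l, ∀ h ∈ H, ∀ h' ∈ H, h * w k = h' * w l → k = l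

variable [Fintype G] {H : Subgroup G} {n : ℕ} {w : Fin n → G} {Hs : Set G}

/-- The value of an induced function on `Hs`. -/
theorem ind_apply (D : TIData H w Hs) (ψ : H → ℂ) (hψ : IsClassFunction H ψ)
    (h0 : ∀ x : H, (x : G) ∉ Hs → ψ x = 0) {x : G} (hx : x ∈ Hs) :
    indFun H ψ x = ∑ k, extendByZero H ψ (w k * x * (w k)⁻¹) := by
  classical
  rw [indFun_apply]
  have hne : (Nat.card H : ℂ) ≠ 0 := card_subgroup_ne_zero H
  haveI : Fintype H := Fintype.ofFinite H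
  -- the sum over `G` is concentrated on `(h * w k)⁻¹`
  have key : ∑ y : G, extendByZero H ψ (y⁻¹ * x * y) =
      ∑ p : Fin n × H, extendByZero H ψ (((p.2 : G) * w p.1) * x * ((p.2 : G) * w p.1)⁻¹) := by
    symm
    refine Finset.sum_of_injOn (fun p : Fin n × H => ((p.2 : G) * w p.1)⁻¹) ?_ (fun _ _ => Finset.mem_univ _) ?_ ?_
    · rintro ⟨k, h⟩ - ⟨l, h'⟩ - hEq
      have h1 : (h : G) * w k = (h' : G) * w l := inv_injective hEq
      have hkl : k = l := D.hdisj k l h h.2 h' h'.2 h1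
      subst hkl
      have h2 : (h : G) = h' := mul_right_cancel h1
      exact Prod.ext rfl (Subtype.ext h2)
    · intro y _ hy
      by_contra hne0
      have hm : y⁻¹ * x * y ∈ H := by
        by_contra hm
        exact hne0 (extendByZero_of_not_mem H ψ hm)
      rw [extendByZero_of_mem H ψ hm] at hne0
      have hs : y⁻¹ * x * y ∈ Hs := by
        by_contra hs
        exact hne0 (h0 ⟨_, hm⟩ hs)
      obtain ⟨h, hh, k, hk⟩ := D.hTI x hx y⁻¹ (by simpa using hs)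
      apply hy
      refine ⟨(k, ⟨h, hh⟩), Finset.mem_coe.2 (Finset.mem_univ _), ?_⟩
      simp only
      rw [← hk, inv_inv]
    · rintro ⟨k, h⟩ -
      simp only [inv_inv]
  rw [key, Fintype.sum_prod_type]
  have h2 : ∀ (k : Fin n) (h : H), extendByZero H ψ (((h : G) * w k) * x * ((h : G) * w k)⁻¹) =
      extendByZero H ψ (w k * x * (w k)⁻¹) := by
    intro k h
    have hmem : w k * x * (w k)⁻¹ ∈ H := D.hnorm k x (D.hsub x hx)
    have hmem' : ((h : G) * w k) * x * ((h : G) * w k)⁻¹ ∈ H := by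
      have : ((h : G) * w k) * x * ((h : G) * w k)⁻¹ = (h : G) * (w k * x * (w k)⁻¹) * (h : G)⁻¹ := by group
      rw [this]
      exact H.mul_mem (H.mul_mem h.2 hmem) (H.inv_mem h.2)
    rw [extendByZero_of_mem H ψ hmem, extendByZero_of_mem H ψ hmem']
    have h3 := hψ ⟨_, hmem⟩ h
    rw [← h3]
    congr 1
    apply Subtype.ext
    simp only [Subgroup.coe_mul, Subgroup.coe_inv]
    group
  simp only [h2, Finset.sum_const, Finset.card_univ, nsmul_eq_mul]
  rw [Finset.mul_sum]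
  refine Finset.sum_congr rfl fun k _ => ?_
  rw [← Nat.card_eq_fintype_card, ← mul_assoc, inv_mul_cancel₀ hne, one_mul]

/-- `⟨ψ^G, ψ'^G⟩ = ∑ₖ ⟨ψ, ψ'^{wₖ}⟩`. -/
theorem ti_inner (D : TIData H w Hs) [Fintype H] (ψ ψ' : H → ℂ) (hψ : IsClassFunction H ψ)
    (hψ' : IsClassFunction H ψ') (h0 : ∀ x : H, (x : G) ∉ Hs → ψ x = 0)
    (h0' : ∀ x : H, (x : G) ∉ Hs → ψ' x = 0) :
    classInner (indFun H ψ) (indFun H ψ') =
      ∑ k, classInner ψ (fun h : H => extendByZero H ψ' (w k * h * (w k)⁻¹)) := by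
  classical
  rw [classInner_indFun_left H ψ (indFun H ψ') (isClassFunction_indFun H ψ')]
  simp only [classInner_subgroup_eq]
  rw [← Finset.mul_sum]
  congr 1
  rw [Finset.sum_comm]
  refine Finset.sum_congr rfl fun h _ => ?_
  rw [← Finset.mul_sum, ← map_sum]
  by_cases hs : (h : G) ∈ Hs
  · rw [ind_apply D ψ' hψ' h0' hs]
  · rw [h0 h hs, zero_mul, zero_mul]

/-- An induced function vanishes at elements not conjugate into the support. -/
theorem ind_zero (ψ : H → ℂ) (h0 : ∀ x : H, (x : G) ∉ Hs → ψ x = 0) {g : G}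
    (hg : ∀ y : G, y * g * y⁻¹ ∉ Hs) : indFun H ψ g = 0 := by
  rw [indFun_apply]
  have : ∀ y : G, extendByZero H ψ (y⁻¹ * g * y) = 0 := by
    intro y
    by_cases hm : y⁻¹ * g * y ∈ H
    · rw [extendByZero_of_mem H ψ hm]
      apply h0
      have := hg y⁻¹
      simpa using this
    · exact extendByZero_of_not_mem H ψ hm
  simp [this]

end Cfsg.Agent.Lib.JT.HB2TI
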