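import Cfsg.Agent.Lib.JT.RowsE

/-! # Block H, piece HB3: the class function `a` on `E4 A^#`.
`a(g) = #{(s₁, s₂) ∈ K² : s₁ s₂ = g}`.  For `g = s a`, `s ∈ E4`, `a ∈ A^#`: `s₁` inverts `g`, so inverts `a = g^{|A|+1}`; by `hTI`,
`s₁ = s' b (j'ρ)^k`; the action of `j'ρ` on `A` (`x ↦ (ρ x ρ⁻¹)⁻¹`) and `hρfix` force `k = 3`, `(j'ρ)³ = j'`.  So `s₁ ∈ E4 A j'`: `4|A|` choices, and
`s₂ = s₁ g` is determined. -/
set_option autoImplicit false
namespace Cfsg.Agent.Lib.JT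
namespace HB3a
open Cfsg RowsEAux
open scoped ComplexConjugate
universe u v

variable {G : Type u} [Group G] {F : Type v} [Field F] [Fintype F] (S : Std G F) (Lo : LocalData S)

/-- The elements of `E4`. -/
def e (x y : Bool) : G := (if x then S.t else 1) * (if y then Lo.i else 1)

theorem hti : Commute S.t Lo.i := S.comm _ Lo.hiL

theorem e_comm (x y : Bool) (z : G) (h1 : Commute S.t z) (h2 : Commute Lo.i z) : Commute (e S Lo x y) z := by
  unfold e
  cases x <;> cases y <;> simp [h1, h2, Commute.mul_left]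

theorem e_sq (x y : Bool) : e S Lo x y * e S Lo x y = 1 := by
  have h1 := tt S
  have h2 := sq_of_ord Lo.hi
  have h3 := (hti S Lo).mul_mul_mul_comm S.t Lo.i
  unfold e
  cases x <;> cases y <;> simp [h1, h2]
  rw [← h3, h1, h2, one_mul]

theorem e_comm_t (x y : Bool) : Commute (e S Lo x y) S.t :=
  e_comm S Lo x y _ (Commute.refl _) (hti S Lo).symm

theorem e_comm_i (x y : Bool) : Commute (e S Lo x y) Lo.i :=
  e_comm S Lo x y _ (hti S Lo) (Commute.refl _)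

theorem e_comm_e (x y x' y' : Bool) : Commute (e S Lo x y) (e S Lo x' y') :=
  e_comm S Lo x y _ (e_comm_t S Lo x' y').symm (e_comm_i S Lo x' y').symm

theorem e_comm_j (x y : Bool) : Commute (e S Lo x y) Lo.j' :=
  e_comm S Lo x y _ Lo.hjt.symm Lo.hji.symm

theorem e_comm_A (x y : Bool) {b : G} (hb : b ∈ Lo.A) : Commute (e S Lo x y) b :=
  e_comm S Lo x y _ (S.comm _ (Lo.hAL hb)) (Lo.hiA _ hb)

theorem aa_odd (hq : S.q % 8 = 3 ∨ S.q % 8 = 5) : aa S.q % 2 = 1 := by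
  unfold aa eps
  split_ifs <;> omega

theorem card_A_odd : Odd (Nat.card Lo.A) := by
  have h1 := aa_odd S S.q_mod
  have h2 := Lo.hAcard
  rw [← h2] at h1
  rw [Nat.odd_iff]
  omega

/-- No involutions in `A`. -/
theorem A_inv {a : G} (ha : a ∈ Lo.A) (h : a * a = 1) : a = 1 := by
  by_contra h1
  have h2 : orderOf a = 2 := ord_of_sq h h1
  have h3 : orderOf (⟨a, ha⟩ : Lo.A) = 2 := by
    rw [← Subgroup.orderOf_coe]; exact h2
  have h4 : 2 ∣ Nat.card Lo.A := by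
    rw [← h3]
    exact orderOf_dvd_natCard _
  have h5 := card_A_odd S Lo
  rw [Nat.odd_iff] at h5
  omega

theorem jj : Lo.j' * Lo.j' = 1 := sq_of_ord Lo.hj

theorem j_inv : Lo.j'⁻¹ = Lo.j' := inv_eq_of_mul_eq_one_left (jj S Lo)

/-- The elements `s₁ = e b j'` are involutions. -/
theorem s1_sq (x y : Bool) {b : G} (hb : b ∈ Lo.A) :
    (e S Lo x y * b * Lo.j') * (e S Lo x y * b * Lo.j') = 1 := by
  have h1 := e_sq S Lo x y
  have h2 : Lo.j' * e S Lo x y = e S Lo x y * Lo.j' := (e_comm_j S Lo x y).symm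
  have h3 : b * e S Lo x y = e S Lo x y * b := (e_comm_A S Lo x y hb).symm
  have h4 := Lo.hjA b hb
  rw [j_inv] at h4
  calc (e S Lo x y * b * Lo.j') * (e S Lo x y * b * Lo.j')
      = e S Lo x y * b * (Lo.j' * e S Lo x y) * b * Lo.j' := by group
    _ = e S Lo x y * (b * e S Lo x y) * Lo.j' * b * Lo.j' := by rw [h2]; group
    _ = (e S Lo x y * e S Lo x y) * b * (Lo.j' * b * Lo.j') := by rw [h3]; group
    _ = 1 := by rw [h1, h4]; group

/-- `s₁` inverts `g = s a`. -/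
theorem s1_inv (x y x₀ y₀ : Bool) {a b : G} (ha : a ∈ Lo.A) (hb : b ∈ Lo.A) (hcomm : a * b = b * a) :
    (e S Lo x y * b * Lo.j') * (e S Lo x₀ y₀ * a) * (e S Lo x y * b * Lo.j') = (e S Lo x₀ y₀ * a)⁻¹ := by
  have h4 := Lo.hjA a ha
  rw [j_inv] at h4
  have h5 := Lo.hjA b hb
  rw [j_inv] at h5
  have c1 : Lo.j' * e S Lo x₀ y₀ = e S Lo x₀ y₀ * Lo.j' := (e_comm_j S Lo x₀ y₀).symm
  have c2 : b * e S Lo x₀ y₀ = e S Lo x₀ y₀ * b := (e_comm_A S Lo x₀ y₀ hb).symm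
  have c3 : e S Lo x y * e S Lo x₀ y₀ = e S Lo x₀ y₀ * e S Lo x y := e_comm_e S Lo x y x₀ y₀
  have c4 : a⁻¹ * b = b * a⁻¹ := by
    have : Commute a b := hcomm
    exact this.inv_left
  have c5 : a⁻¹ * e S Lo x y = e S Lo x y * a⁻¹ := ((e_comm_A S Lo x y ha).inv_right).symm
  have c6 : a⁻¹ * e S Lo x₀ y₀ = e S Lo x₀ y₀ * a⁻¹ := ((e_comm_A S Lo x₀ y₀ ha).inv_right).symm
  have h1 : Lo.j' * e S Lo x y = e S Lo x y * Lo.j' := (e_comm_j S Lo x y).symm
  have hb' : b * e S Lo x y = e S Lo x y * b := (e_comm_A S Lo x y hb).symm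
  have hes := e_sq S Lo x y
  have hjb : Lo.j' * b = b⁻¹ * Lo.j' := by
    calc Lo.j' * b = (Lo.j' * b * Lo.j') * Lo.j' := by rw [mul_assoc _ Lo.j' Lo.j', jj, mul_one]
      _ = b⁻¹ * Lo.j' := by rw [h5]
  have hinv : (e S Lo x₀ y₀)⁻¹ = e S Lo x₀ y₀ := inv_eq_of_mul_eq_one_left (e_sq S Lo x₀ y₀)
  calc (e S Lo x y * b * Lo.j') * (e S Lo x₀ y₀ * a) * (e S Lo x y * b * Lo.j')
      = e S Lo x y * b * (Lo.j' * e S Lo x₀ y₀) * a * (e S Lo x y * b * Lo.j') := by group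
    _ = e S Lo x y * (b * e S Lo x₀ y₀) * Lo.j' * a * (e S Lo x y * b * Lo.j') := by rw [c1]; group
    _ = (e S Lo x y * e S Lo x₀ y₀) * b * Lo.j' * a * (e S Lo x y * b * Lo.j') := by rw [c2]; group
    _ = e S Lo x₀ y₀ * e S Lo x y * b * (Lo.j' * a * Lo.j') * Lo.j' * (e S Lo x y * b * Lo.j') := by
        have h9 : (Lo.j' * a * Lo.j') * Lo.j' = Lo.j' * a := by rw [mul_assoc, jj, mul_one]
        rw [c3, mul_assoc (e S Lo x₀ y₀ * e S Lo x y * b) (Lo.j' * a * Lo.j') Lo.j', h9]; group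
    _ = e S Lo x₀ y₀ * e S Lo x y * b * a⁻¹ * (Lo.j' * e S Lo x y) * b * Lo.j' := by rw [h4]; group
    _ = e S Lo x₀ y₀ * e S Lo x y * (b * a⁻¹) * e S Lo x y * Lo.j' * b * Lo.j' := by rw [h1]; group
    _ = e S Lo x₀ y₀ * e S Lo x y * (a⁻¹ * b) * e S Lo x y * (Lo.j' * b) * Lo.j' := by rw [c4]; group
    _ = e S Lo x₀ y₀ * e S Lo x y * a⁻¹ * (b * e S Lo x y) * b⁻¹ * (Lo.j' * Lo.j') := by rw [hjb]; group
    _ = e S Lo x₀ y₀ * (e S Lo x y * a⁻¹ * e S Lo x y) * b * b⁻¹ := by rw [hb', jj]; group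
    _ = e S Lo x₀ y₀ * (a⁻¹ * e S Lo x y * e S Lo x y) := by
        rw [← c5]; group
    _ = (e S Lo x₀ y₀ * a)⁻¹ := by
        rw [mul_assoc a⁻¹, hes, mul_one, mul_inv_rev, hinv, c6]

/-- The conjugate of `a` by a power of `c = j' ρ`: only `k = 3` inverts `a`. -/
theorem k_eq_three {a : G} (ha : a ∈ Lo.A) (ha1 : a ≠ 1) {k : ℕ} (hk : k < 6)
    (h : (Lo.j' * Lo.ρ) ^ k * a * ((Lo.j' * Lo.ρ) ^ k)⁻¹ = a⁻¹) : k = 3 := by
  have hρ3 : Lo.ρ ^ 3 = 1 := by
    have := pow_orderOf_eq_one Lo.ρ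
    rwa [Lo.hρ] at this
  set r : G → G := fun x => Lo.ρ * x * Lo.ρ⁻¹ with hr
  have hrA : ∀ x ∈ Lo.A, r x ∈ Lo.A := Lo.hρA
  have hrinv : ∀ x, r x⁻¹ = (r x)⁻¹ := by
    intro x
    simp only [hr]
    group
  have hr3 : ∀ x, r (r (r x)) = x := by
    intro x
    have h3 : Lo.ρ * Lo.ρ * Lo.ρ = 1 := by rw [← pow_three']; exact hρ3
    have : Lo.ρ * (Lo.ρ * (Lo.ρ * x * Lo.ρ⁻¹) * Lo.ρ⁻¹) * Lo.ρ⁻¹ = (Lo.ρ * Lo.ρ * Lo.ρ) * x * (Lo.ρ * Lo.ρ * Lo.ρ)⁻¹ := by group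
    simp only [hr]
    rw [this, h3]
    group
  have hconj : ∀ x ∈ Lo.A, (Lo.j' * Lo.ρ) * x * (Lo.j' * Lo.ρ)⁻¹ = (r x)⁻¹ := by
    intro x hx
    have h1 := Lo.hjA _ (hrA x hx)
    rw [← h1]
    simp only [hr]
    group
  set c := Lo.j' * Lo.ρ with hc
  have hstep : ∀ (n : ℕ) (x y : G), c ^ n * x * (c ^ n)⁻¹ = y → y ∈ Lo.A →
      c ^ (n + 1) * x * (c ^ (n + 1))⁻¹ = (r y)⁻¹ := by
    intro n x y hxy hy
    rw [← hconj y hy, ← hxy]
    group
  have hfix : r a = a → False := fun h' => ha1 (Lo.hρfix a ha h')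
  have hnone : ¬ (a * a = 1) := fun h' => ha1 (A_inv S Lo ha h')
  have hm0 : c ^ 0 * a * (c ^ 0)⁻¹ = a := by simp
  have hm1 := hstep 0 a a hm0 ha
  have hm2 := hstep 1 a _ hm1 (Lo.A.inv_mem (hrA a ha))
  rw [hrinv, inv_inv] at hm2
  have hm3 := hstep 2 a _ hm2 (hrA _ (hrA a ha))
  rw [hr3] at hm3
  have hm4 := hstep 3 a _ hm3 (Lo.A.inv_mem ha)
  rw [hrinv, inv_inv] at hm4
  have hm5 := hstep 4 a _ hm4 (hrA a ha)
  have hinv1 : ∀ x y : G, x⁻¹ = y⁻¹ → x = y := fun x y h => inv_injective h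
  interval_cases k
  · exfalso
    rw [hm0] at h
    exact hnone (by nth_rewrite 1 [h]; simp)
  · exfalso
    rw [hm1] at h
    exact hfix (hinv1 _ _ h)
  · exfalso
    rw [hm2] at h
    -- `r (r a) = a⁻¹`
    have h1 : a = (r a)⁻¹ := by
      have := congrArg r h
      rw [hr3, hrinv] at this
      exact this
    have h2 : r a = a⁻¹ := by conv_rhs => rw [h1, inv_inv]
    have h3 : r (r a) = a := by
      rw [h2, hrinv, h2, inv_inv]
    rw [h3] at h
    exact hnone (by nth_rewrite 1 [h]; simp)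
  · rfl
  · exfalso
    rw [hm4] at h
    have h3 : r (r a) = a := by
      rw [h, hrinv, h, inv_inv]
    have h4 := hr3 a
    rw [h3] at h4
    exact hfix h4
  · exfalso
    rw [hm5] at h
    have h3 : r (r a) = a := hinv1 _ _ h
    have h4 := hr3 a
    rw [h3] at h4
    exact hfix h4

theorem cube : (Lo.j' * Lo.ρ) ^ 3 = Lo.j' := by
  have hρ3 : Lo.ρ ^ 3 = 1 := by
    have := pow_orderOf_eq_one Lo.ρ
    rwa [Lo.hρ] at this
  have hc : Commute Lo.j' Lo.ρ := Lo.hρj.symm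
  rw [hc.mul_pow, hρ3, mul_one, pow_succ, pow_two, jj, one_mul]

theorem e_mem (s : G) (hs : s ∈ ({1, S.t, Lo.i, S.t * Lo.i} : Set G)) : ∃ x y, s = e S Lo x y := by
  rcases hs with rfl | rfl | rfl | hs
  · exact ⟨false, false, by simp [e]⟩
  · exact ⟨true, false, by simp [e]⟩
  · exact ⟨false, true, by simp [e]⟩
  · exact ⟨true, true, by rw [hs]; simp [e]⟩

theorem A_comm {a b : G} (ha : a ∈ Lo.A) (hb : b ∈ Lo.A) : a * b = b * a := by
  haveI := Lo.hAcyc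
  letI := IsCyclic.commGroup (α := Lo.A)
  exact congrArg Subtype.val (mul_comm (⟨a, ha⟩ : Lo.A) ⟨b, hb⟩)

/-- The count. -/
theorem count (x₀ y₀ : Bool) {a : G} (ha : a ∈ Lo.A) (ha1 : a ≠ 1) :
    Nat.card (PG S (e S Lo x₀ y₀ * a)) = 4 * Nat.card Lo.A := by
  set g := e S Lo x₀ y₀ * a with hg
  have hs1 := s1_sq S Lo
  have hgg : ¬ (g * g = 1) := by
    intro h
    have c : Commute (e S Lo x₀ y₀) a := e_comm_A S Lo x₀ y₀ ha
    have h1 : g * g = (e S Lo x₀ y₀ * e S Lo x₀ y₀) * (a * a) := c.symm.mul_mul_mul_comm _ _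
    rw [h1, e_sq, one_mul] at h
    exact ha1 (A_inv S Lo ha h)
  let m : (Bool × Bool) × Lo.A → PG S g := fun p =>
    ⟨(e S Lo p.1.1 p.1.2 * (p.2 : G) * Lo.j', e S Lo p.1.1 p.1.2 * (p.2 : G) * Lo.j' * g), by
      have h1 := hs1 p.1.1 p.1.2 p.2.2
      set z := e S Lo p.1.1 p.1.2 * (p.2 : G) * Lo.j' with hz
      have hne : z ≠ 1 := by
        intro h
        have h2 : Lo.j' = (e S Lo p.1.1 p.1.2 * (p.2 : G))⁻¹ := eq_inv_of_mul_eq_one_right h
        have h3 := Lo.hjA a ha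
        rw [h2] at h3
        have c1 : Commute (e S Lo p.1.1 p.1.2 * (p.2 : G)) a :=
          (e_comm_A S Lo p.1.1 p.1.2 ha).mul_left (A_comm S Lo p.2.2 ha)
        have h4 : (e S Lo p.1.1 p.1.2 * (p.2 : G))⁻¹ * a * (e S Lo p.1.1 p.1.2 * (p.2 : G))⁻¹⁻¹ = a := by
          rw [inv_inv, mul_assoc, ← c1.eq, inv_mul_cancel_left]
        rw [h4] at h3
        apply ha1 (A_inv S Lo ha _)
        nth_rewrite 1 [h3]
        simp
      have h5 : z * g * z = g⁻¹ := s1_inv S Lo p.1.1 p.1.2 x₀ y₀ ha p.2.2 (A_comm S Lo ha p.2.2)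
      have h6 : (z * g) * (z * g) = 1 := by
        calc (z * g) * (z * g) = (z * g * z) * g := by group
          _ = 1 := by rw [h5]; group
      have hne2 : z * g ≠ 1 := by
        intro h
        have h7 : g = z := by
          have : g = z⁻¹ := eq_inv_of_mul_eq_one_right h
          rw [this]
          exact inv_eq_of_mul_eq_one_left h1
        apply hgg
        rw [h7]
        exact h1
      refine ⟨(ord_two_iff S _).2 (ord_of_sq h1 hne), (ord_two_iff S _).2 (ord_of_sq h6 hne2), ?_⟩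
      show z * (z * g) = g
      rw [← mul_assoc, h1, one_mul]⟩
  have hm : Function.Bijective m := by
    constructor
    · rintro ⟨⟨x, y⟩, b⟩ ⟨⟨x', y'⟩, b'⟩ h
      have h1 : e S Lo x y * (b : G) * Lo.j' = e S Lo x' y' * (b' : G) * Lo.j' :=
        congrArg (fun p : PG S g => p.1.1) h
      have h2 : e S Lo x y * (b : G) = e S Lo x' y' * (b' : G) := mul_right_cancel h1
      have hb : (b : G) ∈ S.L := Lo.hAL b.2
      have hb' : (b' : G) ∈ S.L := Lo.hAL b'.2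
      have hiL := Lo.hiL
      have hA_i : Lo.i ∉ Lo.A := by
        intro h
        have h3 := A_inv S Lo h (sq_of_ord Lo.hi)
        have h4 := Lo.hi
        rw [h3] at h4
        simp at h4
      have htne : S.t ∉ S.L := S.htL
      have hbb : (b : G) * (b' : G)⁻¹ ∈ Lo.A := Lo.A.mul_mem b.2 (Lo.A.inv_mem b'.2)
      have hbb' : (b' : G) * (b : G)⁻¹ ∈ Lo.A := Lo.A.mul_mem b'.2 (Lo.A.inv_mem b.2)
      have hti' := (hti S Lo)
      have htt := tt S
      have hii := sq_of_ord Lo.hi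
      have hy0 : ∀ y : Bool, (if y then Lo.i else 1 : G) ∈ S.L := by
        intro y
        cases y
        · simpa using S.L.one_mem
        · simpa using hiL
      have hu := S.L.mul_mem (hy0 y) hb
      have hu' := S.L.mul_mem (hy0 y') hb'
      have h3 : (if x then S.t else 1 : G) * ((if y then Lo.i else 1 : G) * (b : G)) =
          (if x' then S.t else 1 : G) * ((if y' then Lo.i else 1 : G) * (b' : G)) := by
        simp only [e, mul_assoc] at h2
        exact h2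
      have hx : x = x' ∧ (if y then Lo.i else 1 : G) * (b : G) = (if y' then Lo.i else 1 : G) * (b' : G) := by
        cases x <;> cases x' <;> simp only [if_true, if_false, Bool.false_eq_true, one_mul] at h3
        · exact ⟨rfl, h3⟩
        · exfalso
          apply htne
          have : S.t = ((if y then Lo.i else 1 : G) * (b : G)) * ((if y' then Lo.i else 1 : G) * (b' : G))⁻¹ := by
            rw [h3]; group
          rw [this]
          exact S.L.mul_mem hu (S.L.inv_mem hu')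
        · exfalso
          apply htne
          have : S.t = ((if y' then Lo.i else 1 : G) * (b' : G)) * ((if y then Lo.i else 1 : G) * (b : G))⁻¹ := by
            rw [← h3]; group
          rw [this]
          exact S.L.mul_mem hu' (S.L.inv_mem hu)
        · exact ⟨rfl, mul_left_cancel h3⟩
      obtain ⟨rfl, h4⟩ := hx
      have hy : y = y' ∧ (b : G) = (b' : G) := by
        cases y <;> cases y' <;> simp only [if_true, if_false, Bool.false_eq_true, one_mul] at h4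
        · exact ⟨rfl, h4⟩
        · exfalso
          apply hA_i
          have : Lo.i = (b : G) * (b' : G)⁻¹ := by rw [h4]; group
          rw [this]
          exact hbb
        · exfalso
          apply hA_i
          have : Lo.i = (b' : G) * (b : G)⁻¹ := by rw [← h4]; group
          rw [this]
          exact hbb'
        · exact ⟨rfl, mul_left_cancel h4⟩
      obtain ⟨rfl, h5⟩ := hy
      rw [Subtype.ext h5]
    · rintro ⟨⟨s₁, s₂⟩, h₁, h₂, h₃⟩
      simp only at h₁ h₂ h₃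
      have h₁' := sq_of_ord ((ord_two_iff S _).1 h₁)
      have h₂' := sq_of_ord ((ord_two_iff S _).1 h₂)
      have hs₁i : s₁⁻¹ = s₁ := inv_eq_of_mul_eq_one_left h₁'
      have hs₂i : s₂⁻¹ = s₂ := inv_eq_of_mul_eq_one_left h₂'
      have hgi : s₁ * g * s₁⁻¹ = g⁻¹ := by
        rw [← h₃, mul_inv_rev, hs₁i, hs₂i]
        calc s₁ * (s₁ * s₂) * s₁ = (s₁ * s₁) * s₂ * s₁ := by group
          _ = s₂ * s₁ := by rw [h₁', one_mul]
      -- `a` is a power of `g`
      have hmA : a ^ Nat.card Lo.A = 1 := by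
        have h1 := pow_card_eq_one' (x := (⟨a, ha⟩ : Lo.A))
        exact congrArg Subtype.val h1
      have hpow : g ^ (Nat.card Lo.A + 1) = a := by
        obtain ⟨k, hk⟩ := card_A_odd S Lo
        have c : Commute (e S Lo x₀ y₀) a := e_comm_A S Lo x₀ y₀ ha
        have h2 : (e S Lo x₀ y₀) ^ (Nat.card Lo.A + 1) = 1 := by
          rw [hk, show 2 * k + 1 + 1 = 2 * (k + 1) by ring, pow_mul, pow_two, e_sq, one_pow]
        rw [hg, c.mul_pow, h2, one_mul, pow_succ, hmA, one_mul]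
      have hainv : s₁ * a * s₁⁻¹ = a⁻¹ := by
        rw [← hpow, ← conj_pow, hgi, inv_pow]
      obtain ⟨b, hb, s', hs', k, hk, hs₁⟩ := Lo.hTI a a⁻¹ ha (Lo.A.inv_mem ha) ha1 (inv_ne_one.2 ha1) s₁ hainv
      obtain ⟨x, y, rfl⟩ := e_mem S Lo s' hs'
      have c1 : Commute (e S Lo x y * b) a := (e_comm_A S Lo x y ha).mul_left (A_comm S Lo hb ha)
      have c2 : Commute (e S Lo x y * b) a⁻¹ := c1.inv_right
      have hck : (Lo.j' * Lo.ρ) ^ k * a * ((Lo.j' * Lo.ρ) ^ k)⁻¹ = a⁻¹ := by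
        have h1 : (e S Lo x y * b) * ((Lo.j' * Lo.ρ) ^ k * a * ((Lo.j' * Lo.ρ) ^ k)⁻¹) * (e S Lo x y * b)⁻¹ = a⁻¹ := by
          rw [← hainv, hs₁]
          group
        have h2 := c2.eq
        calc (Lo.j' * Lo.ρ) ^ k * a * ((Lo.j' * Lo.ρ) ^ k)⁻¹
            = (e S Lo x y * b)⁻¹ * ((e S Lo x y * b) * ((Lo.j' * Lo.ρ) ^ k * a * ((Lo.j' * Lo.ρ) ^ k)⁻¹) * (e S Lo x y * b)⁻¹) * (e S Lo x y * b) := by group
          _ = a⁻¹ := by rw [h1, mul_assoc, ← h2, inv_mul_cancel_left]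
      have hk3 := k_eq_three S Lo ha ha1 hk hck
      subst hk3
      rw [cube] at hs₁
      refine ⟨((x, y), ⟨b, hb⟩), Subtype.ext ?_⟩
      show (e S Lo x y * b * Lo.j', e S Lo x y * b * Lo.j' * g) = (s₁, s₂)
      rw [← hs₁, ← h₃, ← mul_assoc, h₁', one_mul]
  rw [← Nat.card_congr (Equiv.ofBijective m hm), Nat.card_prod, Nat.card_prod]
  simp

/-- The count, for `s ∈ E4` given as an element of the set. -/
theorem count' {s a : G} (hs : s ∈ ({1, S.t, Lo.i, S.t * Lo.i} : Set G)) (ha : a ∈ Lo.A) (ha1 : a ≠ 1) :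
    Nat.card (PG S (s * a)) = 4 * Nat.card Lo.A := by
  obtain ⟨x, y, rfl⟩ := e_mem S Lo s hs
  exact count S Lo x y ha ha1

section Formula

variable [Fintype G] [Fintype (IrrCharacter G)]

/-- The class formula for `a`. -/
theorem a_formula (C : LChars S.L S.q) {h : ℕ} (hh : (h : ℤ) * QQ S.q = Nat.card G) (g : G) :
    (Nat.card (PG S g) : ℂ) * (QQ S.q : ℂ) =
      (h : ℂ) * ∑ χ : IrrCharacter G, χ.1 S.t * χ.1 S.t * conj (χ.1 g) / χ.1 1 := by
  have h1 := Cfsg.Agent.Lib.Char.ClassProd.card_product_eq S.t S.t g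
  have hc : (Nat.card (Subgroup.centralizer ({S.t} : Set G)) : ℤ) = QQ S.q := by
    rw [card_cent S]
    push_cast
    exact C.card_L
  have h2 := Cfsg.Agent.Lib.Char.ClassSum.card_class_mul_card_centralizer S.t
  have hQ0 : (Nat.card (Subgroup.centralizer ({S.t} : Set G)) : ℤ) ≠ 0 :=
    Nat.cast_ne_zero.2 Nat.card_pos.ne'
  have h3 : (Nat.card {x : G // IsConj S.t x} : ℤ) = h := by
    apply mul_right_cancel₀ hQ0
    rw [hc, hh, ← h2, ← hc]
    push_cast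
    rfl
  have h3' : (Nat.card {x : G // IsConj S.t x} : ℂ) = h := by exact_mod_cast h3
  have hG : (Nat.card G : ℂ) = (h : ℂ) * (QQ S.q : ℂ) := by
    have := congrArg (Int.cast : ℤ → ℂ) hh
    push_cast at this
    exact this.symm
  have hG0 : (Nat.card G : ℂ) ≠ 0 := Nat.cast_ne_zero.2 Nat.card_pos.ne'
  have hh0 : (h : ℂ) ≠ 0 := by
    intro h0
    rw [h0, zero_mul] at hG
    exact hG0 hG
  have hQ0' : (QQ S.q : ℂ) ≠ 0 := by
    intro h0
    rw [h0, mul_zero] at hG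
    exact hG0 hG
  rw [h3', hG] at h1
  change (Nat.card (PG S g) : ℂ) = _ at h1
  rw [h1]
  field_simp

/-- Pairing with `a`: `Σ_χ ⟨Ψ, χ⟩ χ(t)²/χ(1) = (Q/h) ⟨Ψ, a⟩`. -/
theorem a_pair (C : LChars S.L S.q) {h : ℕ} (hh : (h : ℤ) * QQ S.q = Nat.card G) (Ψ : G → ℂ) :
    (h : ℂ) * ∑ χ : IrrCharacter G, classInner Ψ χ.1 * (χ.1 S.t) ^ 2 / χ.1 1 =
      (QQ S.q : ℂ) * classInner Ψ (fun g => (Nat.card (PG S g) : ℂ)) := by
  have h1 : ∀ χ : IrrCharacter G, classInner Ψ χ.1 * (χ.1 S.t) ^ 2 / χ.1 1 =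
      ∑ g : G, (Nat.card G : ℂ)⁻¹ * (Ψ g * (χ.1 S.t * χ.1 S.t * conj (χ.1 g) / χ.1 1)) := by
    intro χ
    unfold classInner
    rw [mul_assoc ((Nat.card G : ℂ)⁻¹), mul_div_assoc, Finset.sum_mul, Finset.sum_div, Finset.mul_sum]
    refine Finset.sum_congr rfl fun v _ => ?_
    rw [pow_two]
    ring
  rw [Finset.sum_congr rfl fun χ _ => h1 χ, Finset.sum_comm]
  unfold classInner
  rw [Finset.mul_sum, mul_left_comm, Finset.mul_sum, Finset.mul_sum]
  refine Finset.sum_congr rfl fun g _ => ?_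
  rw [map_natCast]
  have h2 := a_formula S C hh g
  rw [← Finset.mul_sum, ← Finset.mul_sum]
  calc (h : ℂ) * ((Nat.card G : ℂ)⁻¹ * (Ψ g * ∑ χ : IrrCharacter G, χ.1 S.t * χ.1 S.t * conj (χ.1 g) / χ.1 1))
      = (Nat.card G : ℂ)⁻¹ * (Ψ g * ((h : ℂ) * ∑ χ : IrrCharacter G, χ.1 S.t * χ.1 S.t * conj (χ.1 g) / χ.1 1)) := by ring
    _ = _ := by rw [← h2]; ring

end Formula

end HB3a
end Cfsg.Agent.Lib.JT
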