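import Cfsg.Agent.Lib.CoprimeGen.Basic
import Cfsg.Agent.Lib.Rank3Case.CaseTwo

/-!
# S0343, Block L, L3 + L4 + L7 (abstract): `hC`, `hTI` of `LocalData` from `hρfix` and two `L`-level facts.

Route (helper60): `M = C(a)`; `E4` is Sylow in `M` (`hab`, `hCt`), `N_M(E4) = C_M(E4)` (`hρfix`), Burnside gives a normal
complement `K`, four-group generation gives `K ≤ A`.  For `hTI`: `g` normalizes `E4`, the action of `g` on `E4` is
a power of `ρ` (no transpositions by `hab`), `hCE4`.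
-/

set_option autoImplicit false
set_option linter.unusedSectionVars false
set_option linter.unusedVariables false

namespace Cfsg.Agent.Lib.JT.LCent

open Subgroup

variable {G : Type*} [Group G]

/-- The four-group. -/
def e4 (t i : G) (ht : t * t = 1) (hi : i * i = 1) (hti : t * i = i * t) : Subgroup G where
  carrier := {1, t, i, t * i}
  one_mem' := Or.inl rfl
  inv_mem' := by
    intro a ha
    have ht' : t⁻¹ = t := inv_eq_of_mul_eq_one_left ht
    have hi' : i⁻¹ = i := inv_eq_of_mul_eq_one_left hi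
    rcases ha with rfl | rfl | rfl | rfl
    · simp
    · right; left; exact ht'
    · right; right; left; exact hi'
    · right; right; right
      show (t * i)⁻¹ = t * i
      rw [mul_inv_rev, ht', hi', hti]
  mul_mem' := by
    have e1 : t * (t * i) = i := by rw [← mul_assoc, ht, one_mul]
    have e2 : i * t = t * i := hti.symm
    have e3 : i * (t * i) = t := by rw [← mul_assoc, e2, mul_assoc, hi, mul_one]
    have e4 : t * i * t = i := by rw [hti, mul_assoc, ht, mul_one]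
    have e5 : t * i * i = t := by rw [mul_assoc, hi, mul_one]
    have e6 : t * i * (t * i) = 1 := by
      rw [← mul_assoc, e4, hi]
    intro a b ha hb
    rcases ha with rfl | rfl | rfl | rfl <;> rcases hb with rfl | rfl | rfl | rfl <;>
      simp [e1, e2, e3, e4, e5, e6, ht, hi]

theorem mem_e4 {t i : G} {ht : t * t = 1} {hi : i * i = 1} {hti : t * i = i * t} {x : G} :
    x ∈ e4 t i ht hi hti ↔ x = 1 ∨ x = t ∨ x = i ∨ x = t * i := Iff.rfl

theorem comm_of_conj {x y : G} (h : x * y * x⁻¹ = y) : Commute x y := by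
  show x * y = y * x
  calc x * y = x * y * x⁻¹ * x := by group
    _ = y * x := by rw [h]

/-- The hypotheses. -/
structure LHyp [Finite G] (t i j' ρ : G) (A : Subgroup G) : Prop where
  hab : ∀ P : Sylow 2 G, ∀ a b : P, a * b = b * a
  ht : orderOf t = 2
  hi : orderOf i = 2
  hne : t ≠ i
  hti : t * i = i * t
  hAodd : Odd (Nat.card A)
  hAcomm : ∀ a ∈ A, ∀ b ∈ A, a * b = b * a
  hiA : ∀ a ∈ A, i * a = a * i
  htA : ∀ a ∈ A, t * a = a * t
  hj : orderOf j' = 2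
  hjA : ∀ a ∈ A, j' * a * j'⁻¹ = a⁻¹
  hρ : orderOf ρ = 3
  hρj : ρ * j' = j' * ρ
  hρt : ρ * t * ρ⁻¹ = i
  hρi : ρ * i * ρ⁻¹ = t * i
  hρA : ∀ a ∈ A, ρ * a * ρ⁻¹ ∈ A
  hρfix : ∀ a ∈ A, ρ * a * ρ⁻¹ = a → a = 1
  hCt : ∀ a ∈ A, a ≠ 1 → ∀ g : G, g * t = t * g → g * a = a * g →
    ∃ b ∈ A, g = b ∨ g = t * b ∨ g = i * b ∨ g = t * i * b
  hCE4 : ∀ g : G, g * t = t * g → g * i = i * g →
    ∃ b ∈ A, ∃ s ∈ ({1, t, i, t * i} : Set G), g = s * b ∨ g = s * b * j'

namespace LHyp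

variable [Finite G] {t i j' ρ : G} {A : Subgroup G} (H : LHyp t i j' ρ A)

include H

theorem tt : t * t = 1 := by
  have := pow_orderOf_eq_one t; rwa [H.ht, pow_two] at this
theorem ii : i * i = 1 := by
  have := pow_orderOf_eq_one i; rwa [H.hi, pow_two] at this
theorem t1 : t ≠ 1 := by
  intro h; have := H.ht; rw [h, orderOf_one] at this; omega
theorem i1 : i ≠ 1 := by
  intro h; have := H.hi; rw [h, orderOf_one] at this; omega
theorem ρ3 : ρ * ρ * ρ = 1 := by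
  have := pow_orderOf_eq_one ρ
  rw [H.hρ] at this
  rwa [pow_succ, pow_two] at this
theorem ρinv : ρ⁻¹ = ρ * ρ := inv_eq_of_mul_eq_one_left H.ρ3

theorem ρinv2 : ρ⁻¹ * ρ⁻¹ = ρ := by
  nth_rewrite 1 [H.ρinv]
  rw [mul_inv_cancel_right]

theorem ρA' (a : G) (ha : a ∈ A) : ρ⁻¹ * a * ρ ∈ A := by
  have h1 := H.hρA _ (H.hρA a ha)
  have e : ρ * (ρ * a * ρ⁻¹) * ρ⁻¹ = ρ⁻¹ * a * ρ := by
    have h2 : ρ * (ρ * a * ρ⁻¹) * ρ⁻¹ = (ρ * ρ) * a * (ρ⁻¹ * ρ⁻¹) := by group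
    rw [h2, ← H.ρinv, H.ρinv2]
  rwa [e] at h1

/-- The four-group. -/
def E (H : LHyp t i j' ρ A) : Subgroup G := e4 t i H.tt H.ii H.hti

theorem mem_E {x : G} : x ∈ H.E ↔ x = 1 ∨ x = t ∨ x = i ∨ x = t * i := Iff.rfl

theorem E_t : t ∈ H.E := Or.inr (Or.inl rfl)
theorem E_i : i ∈ H.E := Or.inr (Or.inr (Or.inl rfl))
theorem E_sq {x : G} (hx : x ∈ H.E) : x * x = 1 := by
  rcases hx with rfl | rfl | rfl | rfl
  · simp
  · exact H.tt
  · exact H.ii
  · calc t * i * (t * i) = t * (i * t) * i := by group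
      _ = t * (t * i) * i := by rw [H.hti]
      _ = (t * t) * (i * i) := by group
      _ = 1 := by rw [H.tt, H.ii, one_mul]

theorem E_comm_A {x a : G} (hx : x ∈ H.E) (ha : a ∈ A) : Commute x a := by
  rcases hx with rfl | rfl | rfl | rfl
  · exact Commute.one_left a
  · exact H.htA a ha
  · exact H.hiA a ha
  · exact (show Commute t a from H.htA a ha).mul_left (H.hiA a ha)

theorem ρti : ρ * (t * i) * ρ⁻¹ = t := by
  have h : ρ * (t * i) * ρ⁻¹ = (ρ * t * ρ⁻¹) * (ρ * i * ρ⁻¹) := by group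
  rw [h, H.hρt, H.hρi, ← mul_assoc, ← H.hti, mul_assoc, H.ii, mul_one]

theorem ρ'i : ρ⁻¹ * i * ρ = t := by rw [← H.hρt]; group
theorem ρ'ti : ρ⁻¹ * (t * i) * ρ = i := by rw [← H.hρi]; group
theorem ρ't : ρ⁻¹ * t * ρ = t * i := by
  nth_rewrite 1 [← H.ρti]; group

theorem ρE {x : G} (hx : x ∈ H.E) : ρ * x * ρ⁻¹ ∈ H.E := by
  rcases hx with rfl | rfl | rfl | rfl
  · simp [H.E.one_mem]
  · rw [H.hρt]; exact H.E_i
  · rw [H.hρi]; exact Or.inr (Or.inr (Or.inr rfl))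
  · rw [H.ρti]; exact H.E_t

theorem ρE' {x : G} (hx : x ∈ H.E) : ρ⁻¹ * x * ρ ∈ H.E := by
  rcases hx with rfl | rfl | rfl | rfl
  · simp [H.E.one_mem]
  · rw [H.ρ't]; exact Or.inr (Or.inr (Or.inr rfl))
  · rw [H.ρ'i]; exact H.E_t
  · rw [H.ρ'ti]; exact H.E_i

theorem A_two {x : G} (hx : x ∈ A) {m : ℕ} (h : x ^ (2 ^ m) = 1) : x = 1 := by
  have h1 : orderOf x ∣ Nat.card A := Subgroup.orderOf_dvd_natCard A hx
  have h2 : orderOf x ∣ 2 ^ m := orderOf_dvd_of_pow_eq_one h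
  have h3 : Nat.Coprime 2 (Nat.card A) :=
    (Nat.Prime.coprime_iff_not_dvd Nat.prime_two).2 H.hAodd.not_two_dvd_nat
  have h4 : Nat.Coprime (Nat.card A) (2 ^ m) := (Nat.Coprime.pow_left m h3).symm
  have h5 : orderOf x = 1 := Nat.eq_one_of_dvd_coprimes h4 h1 h2
  exact orderOf_eq_one_iff.1 h5

/-- An odd-order element of `E4 A` lies in `A`. -/
theorem odd_part {e b : G} (he : e ∈ H.E) (hb : b ∈ A) (h : Odd (orderOf (e * b))) : e = 1 := by
  obtain ⟨l, hl⟩ := h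
  have hc := H.E_comm_A he hb
  have h1 : (e * b) ^ (orderOf (e * b)) = 1 := pow_orderOf_eq_one _
  rw [hc.mul_pow, hl, pow_succ, pow_mul, pow_two, H.E_sq he, one_pow, one_mul] at h1
  have h2 : e = (b ^ (2 * l + 1))⁻¹ := eq_inv_of_mul_eq_one_left h1
  have h3 : e ∈ A := by rw [h2]; exact A.inv_mem (A.pow_mem hb _)
  apply H.A_two h3 (m := 1)
  rw [pow_one, pow_two, H.E_sq he]

theorem two_part {e b : G} (he : e ∈ H.E) (hb : b ∈ A) {m : ℕ} (h : (e * b) ^ (2 ^ m) = 1) : b = 1 := by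
  have hc := H.E_comm_A he hb
  have h1 : (e * b) ^ (2 ^ (m + 1)) = 1 := by rw [pow_succ, pow_mul, h, one_pow]
  rw [hc.mul_pow, pow_succ', pow_mul, pow_two, H.E_sq he, one_pow, one_mul] at h1
  rw [← pow_succ'] at h1
  exact H.A_two hb h1

theorem cconj (g : G) {a b : G} (h : Commute a b) : Commute (g * a * g⁻¹) (g * b * g⁻¹) := by
  show g * a * g⁻¹ * (g * b * g⁻¹) = g * b * g⁻¹ * (g * a * g⁻¹)
  have h1 : g * a * g⁻¹ * (g * b * g⁻¹) = g * (a * b) * g⁻¹ := by group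
  have h2 : g * b * g⁻¹ * (g * a * g⁻¹) = g * (b * a) * g⁻¹ := by group
  rw [h1, h2, h.eq]

/-- `hCt` in the form with `E`. -/
theorem hCt' {a : G} (ha : a ∈ A) (ha1 : a ≠ 1) {g : G} (h1 : Commute g t) (h2 : Commute g a) :
    ∃ e ∈ H.E, ∃ b ∈ A, g = e * b := by
  obtain ⟨b, hb, h⟩ := H.hCt a ha ha1 g h1 h2
  rcases h with h | h | h | h
  · exact ⟨1, H.E.one_mem, b, hb, by rw [h, one_mul]⟩
  · exact ⟨t, H.E_t, b, hb, h⟩
  · exact ⟨i, H.E_i, b, hb, h⟩
  · exact ⟨t * i, Or.inr (Or.inr (Or.inr rfl)), b, hb, h⟩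

theorem hCs {a : G} (ha : a ∈ A) (ha1 : a ≠ 1) {s : G} (hs : s ∈ H.E) (hs1 : s ≠ 1) {g : G}
    (h1 : Commute g s) (h2 : Commute g a) : ∃ e ∈ H.E, ∃ b ∈ A, g = e * b := by
  rcases hs with rfl | rfl | rfl | rfl
  · exact absurd rfl hs1
  · exact H.hCt' ha ha1 h1 h2
  · have ha' : ρ⁻¹ * a * ρ ∈ A := H.ρA' a ha
    have ha1' : ρ⁻¹ * a * ρ ≠ 1 := by
      intro h; apply ha1
      have : a = ρ * (ρ⁻¹ * a * ρ) * ρ⁻¹ := by group
      rw [this, h]; group
    have c1 := H.cconj ρ⁻¹ h1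
    have c2 := H.cconj ρ⁻¹ h2
    simp only [inv_inv] at c1 c2
    rw [H.ρ'i] at c1
    obtain ⟨e, he, b, hb, h⟩ := H.hCt' ha' ha1' c1 c2
    refine ⟨ρ * e * ρ⁻¹, H.ρE he, ρ * b * ρ⁻¹, H.hρA b hb, ?_⟩
    have : g = ρ * (ρ⁻¹ * g * ρ) * ρ⁻¹ := by group
    rw [this, h]; group
  · have ha' : ρ * a * ρ⁻¹ ∈ A := H.hρA a ha
    have ha1' : ρ * a * ρ⁻¹ ≠ 1 := by
      intro h; apply ha1
      have : a = ρ⁻¹ * (ρ * a * ρ⁻¹) * ρ := by group
      rw [this, h]; group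
    have c1 := H.cconj ρ h1
    have c2 := H.cconj ρ h2
    rw [H.ρti] at c1
    obtain ⟨e, he, b, hb, h⟩ := H.hCt' ha' ha1' c1 c2
    refine ⟨ρ⁻¹ * e * ρ, H.ρE' he, ρ⁻¹ * b * ρ, H.ρA' b hb, ?_⟩
    have : g = ρ⁻¹ * (ρ * g * ρ⁻¹) * ρ := by group
    rw [this, h]; group

theorem mem_norm {g : G} (h : ∀ e ∈ H.E, g * e * g⁻¹ ∈ H.E) : g ∈ normalizer ((H.E : Subgroup G) : Set G) := by
  classical
  let f : G →* G := (MulAut.conj g).toMonoidHom
  have hf : Function.Injective f := (MulAut.conj g).injective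
  have hle : H.E.map f ≤ H.E := by
    rintro _ ⟨e, he, rfl⟩
    exact h e he
  have hcard : Nat.card H.E ≤ Nat.card (H.E.map f) := by
    rw [Subgroup.card_map_of_injective hf]
  have heq : H.E.map f = H.E := Subgroup.eq_of_le_of_card_ge hle hcard
  rw [mem_normalizer_iff]
  intro x
  constructor
  · exact h x
  · intro hx
    rw [← heq] at hx
    obtain ⟨y, hy, hxy⟩ := hx
    have : y = x := hf hxy
    rwa [← this]

theorem E_two : IsPGroup 2 H.E := by
  intro e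
  refine ⟨1, Subtype.ext ?_⟩
  simp only [pow_one, pow_two, Subgroup.coe_mul, Subgroup.coe_one]
  exact H.E_sq e.2

/-- No transposition on `E4`. -/
theorem noinv {g : G} (hgt : g * t * g⁻¹ ∈ H.E) (hgi : g * i * g⁻¹ ∈ H.E)
    (h2t : Commute (g * g) t) (h2i : Commute (g * g) i) : Commute g t ∧ Commute g i := by
  have hall : ∀ e ∈ H.E, g * e * g⁻¹ ∈ H.E := by
    intro e he
    rcases he with rfl | rfl | rfl | rfl
    · simp [H.E.one_mem]
    · exact hgt
    · exact hgi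
    · have : g * (t * i) * g⁻¹ = (g * t * g⁻¹) * (g * i * g⁻¹) := by group
      rw [this]; exact H.E.mul_mem hgt hgi
  have hnorm := H.mem_norm hall
  obtain ⟨k, n, hn, hk⟩ := Nat.exists_eq_two_pow_mul_odd (orderOf_pos g).ne'
  have hh : (g ^ n) ^ (2 ^ k) = 1 := by
    rw [← pow_mul, mul_comm, ← hk]; exact pow_orderOf_eq_one g
  have hp : IsPGroup 2 (zpowers (g ^ n)) := by
    have h1 : orderOf (g ^ n) ∣ 2 ^ k := orderOf_dvd_of_pow_eq_one hh
    obtain ⟨j, -, hj⟩ := (Nat.dvd_prime_pow Nat.prime_two).1 h1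
    exact IsPGroup.of_card (n := j) (by rw [Nat.card_zpowers, hj])
  have hsup := hp.to_sup_of_normal_right' H.E_two
    ((zpowers_le.2 (Subgroup.pow_mem _ hnorm n)))
  obtain ⟨R, hR⟩ := hsup.exists_le_sylow
  have hgR : g ^ n ∈ R := hR (Subgroup.mem_sup_left (mem_zpowers _))
  have htR : t ∈ R := hR (Subgroup.mem_sup_right H.E_t)
  have hiR : i ∈ R := hR (Subgroup.mem_sup_right H.E_i)
  have c1 : g ^ n * t = t * g ^ n := congrArg Subtype.val (H.hab R ⟨_, hgR⟩ ⟨_, htR⟩)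
  have c2 : g ^ n * i = i * g ^ n := congrArg Subtype.val (H.hab R ⟨_, hgR⟩ ⟨_, hiR⟩)
  obtain ⟨l, hl⟩ := hn
  have e1 : g ^ n = (g * g) ^ l * g := by
    rw [hl, pow_succ, pow_mul, pow_two]
  rw [e1] at c1 c2
  have hct : Commute ((g * g) ^ l) t := h2t.pow_left l
  have hci : Commute ((g * g) ^ l) i := h2i.pow_left l
  constructor
  · show g * t = t * g
    have : (g * g) ^ l * (g * t) = (g * g) ^ l * (t * g) := by
      rw [← mul_assoc, c1, ← mul_assoc, hct.symm.eq, mul_assoc]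
    exact mul_left_cancel this
  · show g * i = i * g
    have : (g * g) ^ l * (g * i) = (g * g) ^ l * (i * g) := by
      rw [← mul_assoc, c2, ← mul_assoc, hci.symm.eq, mul_assoc]
    exact mul_left_cancel this

/-- The action of `g` on `E4` is a power of `ρ`. -/
theorem exists_pow {g : G} (hgt : g * t * g⁻¹ ∈ H.E) (hgi : g * i * g⁻¹ ∈ H.E) :
    ∃ k < 3, Commute ((ρ ^ k)⁻¹ * g) t ∧ Commute ((ρ ^ k)⁻¹ * g) i := by
  have hinj : ∀ x y : G, g * x * g⁻¹ = g * y * g⁻¹ → x = y := fun x y h =>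
    mul_left_cancel (mul_right_cancel h)
  have hone : ∀ x : G, g * x * g⁻¹ = 1 → x = 1 := fun x h => by
    have : x = g⁻¹ * (g * x * g⁻¹) * g := by group
    rw [this, h]; group
  have hsq : ∀ x : G, g * (g * x * g⁻¹) * g⁻¹ = x → Commute (g * g) x := fun x h => by
    apply comm_of_conj
    have : g * g * x * (g * g)⁻¹ = g * (g * x * g⁻¹) * g⁻¹ := by group
    rw [this]; exact h
  have hmul : g * (t * i) * g⁻¹ = (g * t * g⁻¹) * (g * i * g⁻¹) := by group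
  have ht1 := H.t1
  have hi1 := H.i1
  have htt := H.tt
  have hii := H.ii
  have htine := H.hne
  have hti := H.hti
  have e1 : t * (t * i) = i := by rw [← mul_assoc, htt, one_mul]
  have e2 : t * i * i = t := by rw [mul_assoc, hii, mul_one]
  have k0 : (ρ ^ 0)⁻¹ * g = g := by simp
  have k1 : (ρ ^ 1)⁻¹ * g = ρ⁻¹ * g := by simp
  have k2 : (ρ ^ 2)⁻¹ * g = ρ * g := by
    rw [pow_two, ← H.ρinv, inv_inv]
  rcases hgt with h1 | h1 | h1 | h1 <;> rcases hgi with h2 | h2 | h2 | h2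
  · exact absurd (hone _ h1) ht1
  · exact absurd (hone _ h1) ht1
  · exact absurd (hone _ h1) ht1
  · exact absurd (hone _ h1) ht1
  · exact absurd (hone _ h2) hi1
  · exact absurd (hinj _ _ (h1.trans h2.symm)) (by exact htine)
  · -- identity
    refine ⟨0, by norm_num, ?_, ?_⟩ <;> rw [k0] <;> apply comm_of_conj
    · exact h1
    · exact h2
  · -- `t ↦ t`, `i ↦ t i`: transposition
    have c1 : Commute (g * g) t := hsq t (by rw [h1, h1])
    have c2 : Commute (g * g) i := hsq i (by rw [h2, hmul, h1, h2, e1])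
    obtain ⟨-, h3⟩ := H.noinv (by rw [h1]; exact H.E_t) (by rw [h2]; exact Or.inr (Or.inr (Or.inr rfl))) c1 c2
    exfalso
    have : g * i * g⁻¹ = i := by rw [h3.eq]; group
    rw [this] at h2
    apply ht1
    have h4 : 1 * i = t * i := by rw [one_mul]; exact h2
    exact (mul_right_cancel h4).symm
  · exact absurd (hone _ h2) hi1
  · -- `t ↦ i`, `i ↦ t`: transposition
    have c1 : Commute (g * g) t := hsq t (by rw [h1, h2])
    have c2 : Commute (g * g) i := hsq i (by rw [h2, h1])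
    obtain ⟨h3, -⟩ := H.noinv (by rw [h1]; exact H.E_i) (by rw [h2]; exact H.E_t) c1 c2
    exfalso
    have : g * t * g⁻¹ = t := by rw [h3.eq]; group
    rw [this] at h1
    exact htine h1
  · exact absurd (hinj _ _ (h1.trans h2.symm)) (by exact htine)
  · -- `t ↦ i`, `i ↦ t i`: `ρ`
    refine ⟨1, by norm_num, ?_, ?_⟩ <;> rw [k1] <;> apply comm_of_conj
    · have : ρ⁻¹ * g * t * (ρ⁻¹ * g)⁻¹ = ρ⁻¹ * (g * t * g⁻¹) * ρ := by group
      rw [this, h1, H.ρ'i]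
    · have : ρ⁻¹ * g * i * (ρ⁻¹ * g)⁻¹ = ρ⁻¹ * (g * i * g⁻¹) * ρ := by group
      rw [this, h2, H.ρ'ti]
  · exact absurd (hone _ h2) hi1
  · -- `t ↦ t i`, `i ↦ t`: `ρ²`
    refine ⟨2, by norm_num, ?_, ?_⟩ <;> rw [k2] <;> apply comm_of_conj
    · have : ρ * g * t * (ρ * g)⁻¹ = ρ * (g * t * g⁻¹) * ρ⁻¹ := by group
      rw [this, h1, H.ρti]
    · have : ρ * g * i * (ρ * g)⁻¹ = ρ * (g * i * g⁻¹) * ρ⁻¹ := by group
      rw [this, h2, H.hρt]
  · -- `t ↦ t i`, `i ↦ i`: transposition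
    have c1 : Commute (g * g) t := hsq t (by rw [h1, hmul, h1, h2, e2])
    have c2 : Commute (g * g) i := hsq i (by rw [h2, h2])
    obtain ⟨h3, -⟩ := H.noinv (by rw [h1]; exact Or.inr (Or.inr (Or.inr rfl))) (by rw [h2]; exact H.E_i) c1 c2
    exfalso
    have : g * t * g⁻¹ = t := by rw [h3.eq]; group
    rw [this] at h1
    apply hi1
    have h4 : t * 1 = t * i := by rw [mul_one]; exact h1
    exact (mul_left_cancel h4).symm
  · exact absurd (hinj _ _ (h1.trans h2.symm)) (by exact htine)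

theorem fix_pow {a : G} (ha : a ∈ A) (ha1 : a ≠ 1) {j : ℕ} (hj : ¬ 3 ∣ j)
    (h : ρ ^ j * a * (ρ ^ j)⁻¹ = a) : False := by
  have hr : ρ ^ 3 = 1 := by rw [← H.hρ]; exact pow_orderOf_eq_one ρ
  have h1 : Commute a (ρ ^ j) := (comm_of_conj h).symm
  have h2 : Commute a ρ :=
    Cfsg.Agent.Lib.Rank3Case.comm_of_pow Nat.prime_three hr hj h1
  apply ha1
  apply H.hρfix a ha
  rw [h2.symm.eq, mul_assoc, mul_inv_cancel, mul_one]

/-- Elements normalizing `E4` and centralizing `a ∈ A^#` centralize `E4`. -/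
theorem step {a : G} (ha : a ∈ A) (ha1 : a ≠ 1) {g : G} (hg : Commute g a)
    (hgt : g * t * g⁻¹ ∈ H.E) (hgi : g * i * g⁻¹ ∈ H.E) : Commute g t ∧ Commute g i := by
  obtain ⟨k, hk, h1, h2⟩ := H.exists_pow hgt hgi
  have hk3 : k = 0 ∨ k = 1 ∨ k = 2 := by omega
  by_cases hk0 : k = 0
  · subst hk0; simpa using And.intro h1 h2
  exfalso
  obtain ⟨b, hb, s, hs, hc⟩ := H.hCE4 _ h1 h2
  have hs' : s ∈ H.E := hs
  have hgeq : g = ρ ^ k * ((ρ ^ k)⁻¹ * g) := by group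
  have hconj : ρ ^ k * ((ρ ^ k)⁻¹ * g * a * ((ρ ^ k)⁻¹ * g)⁻¹) * (ρ ^ k)⁻¹ = a := by
    have : ρ ^ k * ((ρ ^ k)⁻¹ * g * a * ((ρ ^ k)⁻¹ * g)⁻¹) * (ρ ^ k)⁻¹ = g * a * g⁻¹ := by group
    rw [this, hg.eq, mul_assoc, mul_inv_cancel, mul_one]
  have hsa := H.E_comm_A hs' ha
  have hba : Commute b a := H.hAcomm b hb a ha
  rcases hc with hc | hc
  · have e : (ρ ^ k)⁻¹ * g * a * ((ρ ^ k)⁻¹ * g)⁻¹ = a := by
      rw [hc]
      have hcc : Commute (s * b) a := hsa.mul_left hba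
      rw [hcc.eq, mul_assoc, mul_inv_cancel, mul_one]
    rw [e] at hconj
    exact H.fix_pow ha ha1 (j := k) (by omega) hconj
  · have e : (ρ ^ k)⁻¹ * g * a * ((ρ ^ k)⁻¹ * g)⁻¹ = a⁻¹ := by
      rw [hc]
      have e2 : s * b * j' * a * (s * b * j')⁻¹ = (s * b) * (j' * a * j'⁻¹) * (s * b)⁻¹ := by group
      rw [e2, H.hjA a ha]
      have hcc : Commute (s * b) a⁻¹ := (hsa.mul_left hba).inv_right
      rw [hcc.eq, mul_assoc, mul_inv_cancel, mul_one]
    rw [e] at hconj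
    have h3 : ρ ^ k * a * (ρ ^ k)⁻¹ = a⁻¹ := by
      have h4 : ρ ^ k * a⁻¹ * (ρ ^ k)⁻¹ = (ρ ^ k * a * (ρ ^ k)⁻¹)⁻¹ := by group
      rw [h4] at hconj
      exact inv_eq_iff_eq_inv.1 hconj
    have h5 : ρ ^ (2 * k) * a * (ρ ^ (2 * k))⁻¹ = a := by
      have h6 : ρ ^ (2 * k) * a * (ρ ^ (2 * k))⁻¹ = ρ ^ k * (ρ ^ k * a * (ρ ^ k)⁻¹) * (ρ ^ k)⁻¹ := by
        rw [two_mul, pow_add]; group
      rw [h6, h3, hconj]
    exact H.fix_pow ha ha1 (j := 2 * k) (by omega) h5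

/-- `hC` of `LocalData`. -/
theorem hC {a : G} (ha : a ∈ A) (ha1 : a ≠ 1) {g : G} (hg : g * a = a * g) :
    ∃ b ∈ A, g = b ∨ g = t * b ∨ g = i * b ∨ g = t * i * b := by
  classical
  let M : Subgroup G := centralizer ({a} : Set G)
  have hMmem : ∀ x : G, x ∈ M ↔ x * a = a * x := by
    intro x
    rw [Subgroup.mem_centralizer_singleton_iff]
  have hEM : ∀ e ∈ H.E, e ∈ M := fun e he => (hMmem e).2 (H.E_comm_A he ha).eq
  have hEMp : IsPGroup 2 (H.E.subgroupOf M) := by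
    intro x
    refine ⟨1, Subtype.ext (Subtype.ext ?_)⟩
    have hx : ((x : M) : G) ∈ H.E := x.2
    simpa [pow_two] using H.E_sq hx
  obtain ⟨Q, hQ⟩ := hEMp.exists_le_sylow
  have hEQ : ∀ e (he : e ∈ H.E), (⟨e, hEM e he⟩ : M) ∈ (Q : Subgroup M) := fun e he =>
    hQ (show (⟨e, hEM e he⟩ : M) ∈ H.E.subgroupOf M from he)
  have hQE : ∀ y : M, y ∈ (Q : Subgroup M) → (y : G) ∈ H.E := by
    intro y hy
    have hmp : IsPGroup 2 ((Q : Subgroup M).map M.subtype) := Q.2.map _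
    obtain ⟨R, hR⟩ := hmp.exists_le_sylow
    have hyR : (y : G) ∈ R := hR ⟨y, hy, rfl⟩
    have htR : t ∈ R := hR ⟨_, hEQ t H.E_t, rfl⟩
    have c : (y : G) * t = t * y := congrArg Subtype.val (H.hab R ⟨_, hyR⟩ ⟨_, htR⟩)
    obtain ⟨e, he, b, hb, hyeq⟩ := H.hCs ha ha1 H.E_t H.t1 c ((hMmem y).1 y.2)
    obtain ⟨m, hm⟩ := Q.2 ⟨y, hy⟩
    have hm' : (y : G) ^ (2 ^ m) = 1 := by
      have := congrArg (fun z : (Q : Subgroup M) => ((z : M) : G)) hm
      simpa using this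
    rw [hyeq] at hm'
    have hb1 := H.two_part he hb hm'
    rw [hyeq, hb1, mul_one]
    exact he
  have hP : normalizer ((Q : Subgroup M) : Set M) ≤ centralizer ((Q : Subgroup M) : Set M) := by
    intro x hx
    rw [mem_centralizer_iff]
    intro y hy
    have hyE := hQE y hy
    rw [mem_normalizer_iff] at hx
    have h1 : ((x : G) * t * (x : G)⁻¹) ∈ H.E := by
      have := hQE _ ((hx _).1 (hEQ t H.E_t))
      simpa using this
    have h2 : ((x : G) * i * (x : G)⁻¹) ∈ H.E := by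
      have := hQE _ ((hx _).1 (hEQ i H.E_i))
      simpa using this
    obtain ⟨c1, c2⟩ := H.step ha ha1 (show Commute (x : G) a from (hMmem x).1 x.2) h1 h2
    apply Subtype.ext
    show (y : G) * x = x * y
    rcases hyE with h | h | h | h
    · rw [h]; simp
    · rw [h]; exact c1.symm.eq
    · rw [h]; exact c2.symm.eq
    · rw [h]; exact ((c1.mul_right c2).symm).eq
  have hc := MonoidHom.ker_transferSylow_isComplement' Q hP
  have hKodd : ¬ 2 ∣ Nat.card (MonoidHom.transferSylow Q hP).ker :=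
    MonoidHom.not_dvd_card_ker_transferSylow Q hP
  obtain ⟨K, hK⟩ : ∃ K, K = (MonoidHom.transferSylow Q hP).ker := ⟨_, rfl⟩
  rw [← hK] at hc hKodd
  have hKn : K.Normal := by rw [hK]; infer_instance
  obtain ⟨X, hX⟩ : ∃ X, X = K.map M.subtype := ⟨_, rfl⟩
  have hXM : ∀ x ∈ X, x ∈ M := by
    rw [hX]; rintro _ ⟨y, -, rfl⟩; exact y.2
  have hXodd : ¬ 2 ∣ Nat.card X := by
    rw [hX, Subgroup.card_map_of_injective M.subtype_injective]; exact hKodd
  have hEnorm : H.E ≤ normalizer ((X : Subgroup G) : Set G) := by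
    intro e he
    rw [mem_normalizer_iff]
    intro y
    let e' : M := ⟨e, hEM e he⟩
    constructor
    · intro hy
      rw [hX] at hy ⊢
      obtain ⟨k, hk, rfl⟩ := hy
      exact ⟨e' * k * e'⁻¹, hKn.conj_mem k hk e', by simp [e']⟩
    · intro hy
      rw [hX] at hy ⊢
      obtain ⟨k, hk, hke⟩ := hy
      refine ⟨e'⁻¹ * k * e'⁻¹⁻¹, hKn.conj_mem k hk e'⁻¹, ?_⟩
      have : ((e'⁻¹ * k * e'⁻¹⁻¹ : M) : G) = e⁻¹ * (k : G) * e := by simp [e']
      simp only [Subgroup.coe_subtype] at hke ⊢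
      rw [this, hke]; group
  have hEel : Cfsg.IsElementaryAbelian 2 H.E := by
    refine ⟨⟨⟨?_⟩⟩, ?_⟩
    · intro x y
      apply Subtype.ext
      have hx : (x : G) ∈ H.E := x.2
      have hy : (y : G) ∈ H.E := y.2
      have hxy : (x : G) * y ∈ H.E := H.E.mul_mem hx hy
      have h1 := H.E_sq hx
      have h2 := H.E_sq hy
      have h3 := H.E_sq hxy
      show (x : G) * y = y * x
      have hxi : (x : G)⁻¹ = x := inv_eq_of_mul_eq_one_left h1
      have hyi : (y : G)⁻¹ = y := inv_eq_of_mul_eq_one_left h2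
      have h4 : ((x : G) * y)⁻¹ = x * y := inv_eq_of_mul_eq_one_left h3
      rw [mul_inv_rev, hxi, hyi] at h4
      exact h4.symm
    · intro e he
      rw [pow_two]; exact H.E_sq he
  haveI : Fact (Nat.Prime 2) := ⟨Nat.prime_two⟩
  have hgen := Cfsg.Agent.Lib.CoprimeGen.Basic.eq_hyperJoin hEel hXodd hEnorm
  have hXA : X ≤ A := by
    rw [hgen]
    refine iSup_le ?_
    rintro ⟨B, hBE, hBi⟩ g₀ ⟨hg₀X, hg₀B⟩
    -- `B ≠ ⊥`
    have hBne : B ≠ ⊥ := by
      rintro rfl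
      rw [Subgroup.relIndex_bot_left] at hBi
      have h3 : ({1, t, i} : Set G).ncard = 3 := by
        rw [Set.ncard_eq_three]
        exact ⟨1, t, i, H.t1.symm, H.i1.symm, H.hne, rfl⟩
      have h4 : ({1, t, i} : Set G) ⊆ (H.E : Set G) := by
        rintro x (rfl | rfl | rfl)
        · exact H.E.one_mem
        · exact H.E_t
        · exact H.E_i
      have h5 := Set.ncard_le_ncard h4 (Set.toFinite _)
      rw [h3] at h5
      have h6 : Nat.card H.E = ((H.E : Subgroup G) : Set G).ncard := (Nat.card_coe_set_eq _)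
      omega
    obtain ⟨⟨s, hsB⟩, hs1⟩ := (Subgroup.ne_bot_iff_exists_ne_one).1 hBne
    have hs1' : s ≠ 1 := fun h => hs1 (Subtype.ext h)
    have hcs : Commute g₀ s := by
      have := (mem_centralizer_iff.1 hg₀B) s hsB
      exact this.symm
    have hca : Commute g₀ a := (hMmem g₀).1 (hXM g₀ hg₀X)
    obtain ⟨e, he, b, hb, hgeq⟩ := H.hCs ha ha1 (hBE hsB) hs1' hcs hca
    have hodd : Odd (orderOf (e * b)) := by
      rw [← hgeq]
      have h1 : orderOf g₀ ∣ Nat.card X := Subgroup.orderOf_dvd_natCard X hg₀X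
      rw [← Nat.not_even_iff_odd]
      intro hev
      exact hXodd ((even_iff_two_dvd.1 hev).trans h1)
    have he1 := H.odd_part he hb hodd
    rw [hgeq, he1, one_mul]
    exact hb
  -- assembly
  have hgM : g ∈ M := (hMmem g).2 hg
  obtain ⟨⟨k, q⟩, hkq, -⟩ := hc.existsUnique ⟨g, hgM⟩
  have hkq' : ((k : M) : G) * ((q : M) : G) = g := congrArg Subtype.val hkq
  have hkA : ((k : M) : G) ∈ A := hXA (by rw [hX]; exact ⟨k, k.2, rfl⟩)
  have hqE : ((q : M) : G) ∈ H.E := hQE _ q.2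
  have hcomm := H.E_comm_A hqE hkA
  refine ⟨_, hkA, ?_⟩
  rw [← hkq', ← hcomm.eq]
  rcases hqE with h | h | h | h <;> rw [h]
  · left; rw [one_mul]
  · right; left; rfl
  · right; right; left; rfl
  · right; right; right; rfl

/-- `hTI` of `LocalData`. -/
theorem hTI {a a' : G} (ha : a ∈ A) (ha' : a' ∈ A) (ha1 : a ≠ 1) (ha1' : a' ≠ 1) {g : G}
    (hg : g * a * g⁻¹ = a') :
    ∃ b ∈ A, ∃ s ∈ ({1, t, i, t * i} : Set G), ∃ k < 6, g = s * b * (j' * ρ) ^ k := by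
  -- `g` normalizes `E4`
  have hnorm : ∀ x ∈ H.E, g * x * g⁻¹ ∈ H.E := by
    intro x hx
    have hc : (g * x * g⁻¹) * a' = a' * (g * x * g⁻¹) := by
      rw [← hg]
      exact (H.cconj g (H.E_comm_A hx ha)).eq
    obtain ⟨b, hb, h⟩ := H.hC ha' ha1' hc
    have hsq : (g * x * g⁻¹) ^ (2 ^ 1) = 1 := by
      have : (g * x * g⁻¹) ^ (2 ^ 1) = g * (x * x) * g⁻¹ := by
        rw [pow_one, pow_two]; group
      rw [this, H.E_sq hx]; simp
    rcases h with h | h | h | h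
    · have h1 : g * x * g⁻¹ = 1 * b := by rw [h, one_mul]
      rw [h1] at hsq
      have := H.two_part H.E.one_mem hb hsq
      rw [h1, this]; simp [H.E.one_mem]
    · rw [h] at hsq
      have := H.two_part H.E_t hb hsq
      rw [h, this, mul_one]; exact H.E_t
    · rw [h] at hsq
      have := H.two_part H.E_i hb hsq
      rw [h, this, mul_one]; exact H.E_i
    · rw [h] at hsq
      have := H.two_part (e := t * i) (Or.inr (Or.inr (Or.inr rfl))) hb hsq
      rw [h, this, mul_one]; exact Or.inr (Or.inr (Or.inr rfl))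
  obtain ⟨k, hk, h1, h2⟩ := H.exists_pow (hnorm t H.E_t) (hnorm i H.E_i)
  obtain ⟨b, hb, s, hs, hc⟩ := H.hCE4 _ h1 h2
  have hs' : s ∈ H.E := hs
  have hr3 : ρ ^ 3 = 1 := by rw [← H.hρ]; exact pow_orderOf_eq_one ρ
  have hjj : j' * j' = 1 := by
    have := pow_orderOf_eq_one j'; rwa [H.hj, pow_two] at this
  have hjρ : Commute j' ρ := H.hρj.symm
  have hpow : ∀ n : ℕ, (j' * ρ) ^ n = j' ^ n * ρ ^ n := fun n => hjρ.mul_pow n
  -- powers of `ρ` preserve `E` and `A`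
  have hEk : ∀ n : ℕ, ∀ x ∈ H.E, ρ ^ n * x * (ρ ^ n)⁻¹ ∈ H.E := by
    intro n
    induction n with
    | zero => intro x hx; simpa using hx
    | succ n ih =>
      intro x hx
      have : ρ ^ (n + 1) * x * (ρ ^ (n + 1))⁻¹ = ρ ^ n * (ρ * x * ρ⁻¹) * (ρ ^ n)⁻¹ := by
        rw [pow_succ]; group
      rw [this]; exact ih _ (H.ρE hx)
  have hAk : ∀ n : ℕ, ∀ x ∈ A, ρ ^ n * x * (ρ ^ n)⁻¹ ∈ A := by
    intro n
    induction n with
    | zero => intro x hx; simpa using hx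
    | succ n ih =>
      intro x hx
      have : ρ ^ (n + 1) * x * (ρ ^ (n + 1))⁻¹ = ρ ^ n * (ρ * x * ρ⁻¹) * (ρ ^ n)⁻¹ := by
        rw [pow_succ]; group
      rw [this]; exact ih _ (H.hρA x hx)
  have hgeq : g = ρ ^ k * ((ρ ^ k)⁻¹ * g) := by group
  refine ⟨ρ ^ k * b * (ρ ^ k)⁻¹, hAk k b hb, ρ ^ k * s * (ρ ^ k)⁻¹, hEk k s hs', ?_⟩
  have hgen : ∀ w : G, (ρ ^ k)⁻¹ * g = s * b * w →
      g = (ρ ^ k * s * (ρ ^ k)⁻¹) * (ρ ^ k * b * (ρ ^ k)⁻¹) * (ρ ^ k * w) := by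
    intro w hw
    rw [hgeq, hw]; group
  rcases hc with hc | hc
  · have h3 := hgen 1 (by rw [hc, mul_one])
    rw [mul_one] at h3
    have hk3 : k = 0 ∨ k = 1 ∨ k = 2 := by omega
    rcases hk3 with rfl | rfl | rfl
    · refine ⟨0, by norm_num, ?_⟩
      rw [pow_zero]; simpa using h3
    · refine ⟨4, by norm_num, ?_⟩
      have : (j' * ρ) ^ 4 = ρ ^ 1 := by
        rw [hpow]
        have e1 : j' ^ 4 = 1 := by
          rw [show (4 : ℕ) = 2 * 2 from rfl, pow_mul, show j' ^ 2 = 1 by rw [pow_two, hjj], one_pow]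
        have e2 : ρ ^ 4 = ρ ^ 1 := by
          rw [show (4 : ℕ) = 3 + 1 from rfl, pow_add, hr3, one_mul]
        rw [e1, e2, one_mul]
      rw [this]; exact h3
    · refine ⟨2, by norm_num, ?_⟩
      have : (j' * ρ) ^ 2 = ρ ^ 2 := by
        rw [hpow, pow_two j', hjj, one_mul]
      rw [this]; exact h3
  · have h3 := hgen j' hc
    have hk3 : k = 0 ∨ k = 1 ∨ k = 2 := by omega
    rcases hk3 with rfl | rfl | rfl
    · refine ⟨3, by norm_num, ?_⟩
      have : (j' * ρ) ^ 3 = ρ ^ 0 * j' := by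
        rw [hpow, hr3, mul_one, pow_zero, one_mul, pow_succ, pow_two, hjj, one_mul]
      rw [this]; exact h3
    · refine ⟨1, by norm_num, ?_⟩
      have : (j' * ρ) ^ 1 = ρ ^ 1 * j' := by
        rw [pow_one, pow_one, hjρ.eq]
      rw [this]; exact h3
    · refine ⟨5, by norm_num, ?_⟩
      have : (j' * ρ) ^ 5 = ρ ^ 2 * j' := by
        rw [hpow]
        have e1 : j' ^ 5 = j' := by
          rw [show (5 : ℕ) = 2 * 2 + 1 from rfl, pow_succ, pow_mul, show j' ^ 2 = 1 by rw [pow_two, hjj], one_pow, one_mul]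
        have e2 : ρ ^ 5 = ρ ^ 2 := by
          rw [show (5 : ℕ) = 3 + 2 from rfl, pow_add, hr3, one_mul]
        rw [e1, e2]
        exact ((hjρ.pow_right 2).eq)
      rw [this]; exact h3

end LHyp

end Cfsg.Agent.Lib.JT.LCent
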