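import Cfsg.Agent.Lib.JT.LMNum

/-! # Block L, module M (helper60): the structure of `M = C_G(a)` when `ρ` centralizes `a`; input of L5, L6.

Abstract setting `MHyp E A ρ` in a finite group `M`: `E` Klein four, `A` abelian of odd order, `[E, A] = 1`, `ρ` of order `3` normalizing `E` and `A`, fixed-point-free on
`E^#`, and `C_M(s) = E A` for every `s ∈ E^#`. Conclusion: `|M : E A| ∈ {3, 15}`, and `C_M(ρ) = C_A(ρ) × ⟨ρ⟩`.

FULL PAPER PROOF.
(0) `E` is Sylow: a `2`-group `Q > E` has `x ∈ N_Q(E) \ E`; `x` permutes the `3` points of `E^#`, so fixes `s`; `x ∈ C_M(s) = E A` and `x` is a `2`-element so `x ∈ E`.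
(1) TI / normalizer: if `g ∈ M`, `s ∈ E^#`, `g s g⁻¹ ∈ E` then `g E g⁻¹ = E`: `g E g⁻¹ ≤ C_M(g s g⁻¹) = E A`, and `E` is the unique Sylow of `E A`. `N_M(E) = E A ⟨ρ⟩`, of order `12 |A|` (`x ∈ N_M(E)`: `ρ^k x` fixes `s`).
All involutions of `M` are conjugate (Sylow, `ρ`).
(2) [numbers] Apply S0948 to `M`: principal `2`-block `{1, ζ₂, ζ₃, ζ₄}` with `ζ₂(z) = 1`, `ζ₃(z) = ε`, `ζ₄(z) = -1` on involutions, degrees `≡ 1, ε, -1 mod 4`, `1 + ζ₂(1) + ε ζ₃(1) - ζ₄(1) = 0`.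
Put `D₂ = ζ₂(1)`, `D₃ = ε ζ₃(1)`, `D₄ = -ζ₄(1)`: `D_i ≡ 1 mod 4`, `1 + ΣD_i = 0`.
Fix `s ∈ E^#`, `C = C_M(s) = E × A` abelian. Blocks of `C` (`p = 2`): `b_μ = {λ ⊗ μ : λ ∈ Irr E}` for `μ ∈ Irr A`; `b_1` principal. For `χ ∈ Irr M` let `θ(c) = χ(s c)` on `C`, `n_μ = Σ_λ ⟨θ, λ ⊗ μ⟩`, so
`θ(y) = Σ_μ n_μ μ(y)` for `y ∈ A`. S0936: `b_μ` induces `B₀(M)` iff `μ = 1`. S0923: if `χ ∈ B₀(M)`, then `n_μ = 0` for `μ ≠ 1`, so `χ(s b) = χ(s)` for `b ∈ A`. If `χ ∉ B₀(M)`, then `n_1 = 0`, so `Σ_{b ∈ A} χ(s b) = |A| n_1 = 0`.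
Class sum formula with `K` = class of `s`, `h = |K| = |M| / (4 |A|)`: `a(g) = #{(x, y) ∈ K² : x y = g} = (h / (4 |A|)) Σ_χ χ(s)² conj χ(g) / χ(1)` (`Lib/Char/ClassProd`).
`a(s) = 2`; `a(s b) = 0` for `b ∈ A^#`: `x y = s b` means `x` inverts `s b`, so `x` (and `y`) fixes its `2`-part `s`: `x, y ∈ C_M(s)` are involutions of `E A`, so in `E`; `x y ∈ E`. (`a(s)`: `x, y ∈ E^#`, `x y = s`: `2` pairs.)
Sum over `b ∈ A`: `2 = (h / (4 |A|)) Σ_{χ ∈ B₀} (χ(s)² / χ(1)) |A| conj χ(s) = (h / 4) (1 + 1/D₂ + 1/D₃ + 1/D₄)`. So `|M| (1 + Σ 1/D_i) = 32 |A|`.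
(3) [arith] `n = |M : N_M(E)|` satisfies `n ≡ 1 mod 4` (`E` acts on the other conjugates of `E` freely: (1)), `|M| = 12 |A| n`, so `3 n (1 + Σ 1/D_i) = 8`. `D_i` odd, `≡ 1 mod 4`, sum `-1`: values `1, -3, 5, -7, ...`; if exactly one `D` is positive
(`-p, -r, p + r - 1`; `p, r ≥ 3`) `1 + Σ ≥ 8/15`; if two are positive `1 + Σ ≥ 1`; three negative or three positive impossible. So `3 n ≤ 15`, `n ∈ {1, 5}`.
(4) [centr] `g` commuting with `ρ`. If `g ∈ N_M(E)`: `g = e b ρ^k`, with `e ∈ E`, `b ∈ A`; then `e' = e` commutes with `ρ` modulo `A`: `e = 1` (`ρ` f.p.f. on `E^#`, `E ∩ A = 1`). So `g ∈ A ⟨ρ⟩`. If `n = 1` done.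
If `n = 5`: `Ω` = conjugates of `E`, `|Ω| = 5`. Kernel `K₀`: odd (involutions fix exactly one point), `[K₀, E] ≤ K₀ ∩ E = 1`, so `K₀ ≤ C_M(E) = E A`, `K₀ ≤ A`. `M / K₀ ≤ S₅` with Sylow `2` of order `4`, so `|M / K₀| ≤ 60`, `|K₀| ≥ |A|`, `K₀ = A`. So `A ⊴ M`, `A` acts trivially on `Ω`.
`ρ` fixes `E`, acts on the other `4` points (`E`-regular) with a fixed point `E'`, and `ρ ∉ K₀`: `Fix(ρ) = {E, E'}`. `g` permutes `Fix(ρ)`. Suppose `g E g⁻¹ = E'`. Then `g` swaps them, `|g|` is even: a power `z` of `g` is an involution commuting with `ρ`,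
`z ∈ m E m⁻¹`, `ρ ∈ C_M(z) = m E A m⁻¹ = (m E m⁻¹) A`, `ρ` has odd order so `ρ ∈ A`: contradiction with `ρ` moving `E^#`. So `g ∈ N_M(E)`. -/

set_option autoImplicit false
set_option linter.unusedVariables false

namespace Cfsg.Agent.Lib.JT.LM

universe u
variable {M : Type u} [Group M] [Finite M]

variable {E A : Subgroup M} {ρ : M}

namespace CardAux

/-- Odd elements of `A` with square one are trivial. -/
lemma A_sq (H : MHyp E A ρ) {b : M} (hb : b ∈ A) {m : ℕ} (h2 : b ^ (2 ^ m) = 1) : b = 1 := by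
  have h1 : b ^ Nat.card A = 1 := orderOf_dvd_iff_pow_eq_one.mp (Subgroup.orderOf_dvd_natCard A hb)
  have h3 : orderOf b ∣ Nat.gcd (Nat.card A) (2 ^ m) :=
    Nat.dvd_gcd (orderOf_dvd_of_pow_eq_one h1) (orderOf_dvd_of_pow_eq_one h2)
  have h4 : Nat.gcd (Nat.card A) (2 ^ m) = 1 := by
    have : Nat.Coprime (2 ^ m) (Nat.card A) :=
      Nat.Coprime.pow_left _ (Nat.coprime_two_left.mpr H.hAodd)
    rw [Nat.gcd_comm]
    exact this
  rw [h4] at h3
  exact orderOf_eq_one_iff.mp (Nat.dvd_one.mp h3)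

/-- A `2`-element `s * b` is `s`. -/
lemma two_elt (H : MHyp E A ρ) {s b : M} (hs : s ∈ E) (hb : b ∈ A) {m : ℕ} (hx : (s * b) ^ (2 ^ m) = 1) :
    b = 1 := by
  have hc : Commute s b := H.hEA s hs b hb
  have h1 : (s * b) ^ (2 ^ (m + 1)) = 1 := by
    rw [pow_succ, pow_mul, hx, one_pow]
  rw [hc.mul_pow] at h1
  have h2 : s ^ (2 ^ (m + 1)) = 1 := by
    rw [pow_succ', pow_mul, sq, H.hEinv s hs, one_pow]
  rw [h2, one_mul] at h1
  exact A_sq H hb h1

lemma exists_ne_one (H : MHyp E A ρ) : ∃ s ∈ E, s ≠ 1 := by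
  rcases E.bot_or_exists_ne_one with h | h
  · exfalso
    have := H.hE4
    rw [h] at this
    simp at this
  · exact h

/-- `E` is a maximal `2`-subgroup. -/
lemma hSyl (H : MHyp E A ρ) (Q : Subgroup M) (hQ : IsPGroup 2 Q) (hEQ : E ≤ Q) : Q ≤ E := by
  haveI : Fact (Nat.Prime 2) := ⟨Nat.prime_two⟩
  obtain ⟨s, hs, hs1⟩ := exists_ne_one H
  haveI : Nontrivial Q := ⟨⟨⟨s, hEQ hs⟩, 1, fun h => hs1 (congrArg Subtype.val h)⟩⟩
  haveI := hQ.center_nontrivial
  obtain ⟨z, hz⟩ := exists_ne (1 : Subgroup.center Q)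
  set z' : M := ((z : Q) : M) with hz'
  have hz'1 : z' ≠ 1 := fun h => hz (Subtype.ext (Subtype.ext h))
  have hcomm : ∀ x : Q, (x : M) * z' = z' * x := by
    intro x
    have := (Subgroup.mem_center_iff.mp z.2) x
    exact congrArg Subtype.val this
  have hz1 : z' * s = s * z' := (hcomm ⟨s, hEQ hs⟩).symm
  obtain ⟨s', hs', b, hb, hzb⟩ := H.hC s hs hs1 z' hz1
  obtain ⟨k, hk⟩ := hQ (z : Q)
  have hzk : z' ^ (2 ^ k) = 1 := congrArg Subtype.val hk
  rw [hzb] at hzk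
  have hb1 := two_elt H hs' hb hzk
  rw [hb1, mul_one] at hzb
  have hzE : z' ∈ E := hzb ▸ hs'
  intro x hx
  obtain ⟨s2, hs2, b2, hb2, hxb⟩ := H.hC z' hzE hz'1 x (hcomm ⟨x, hx⟩)
  obtain ⟨k2, hk2⟩ := hQ ⟨x, hx⟩
  have hxk : x ^ (2 ^ k2) = 1 := congrArg Subtype.val hk2
  rw [hxb] at hxk
  have hb21 := two_elt H hs2 hb2 hxk
  rw [hxb, hb21, mul_one]
  exact hs2

/-- `E` is abelian. -/
lemma E_comm (H : MHyp E A ρ) {x y : M} (hx : x ∈ E) (hy : y ∈ E) : x * y = y * x := by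
  have h1 := H.hEinv _ (E.mul_mem hx hy)
  have h2 := H.hEinv _ hx
  have h3 := H.hEinv _ hy
  calc x * y = x * (x * y * (x * y)) * y := by rw [h1]; simp
    _ = (x * x) * y * x * (y * y) := by group
    _ = y * x := by rw [h2, h3]; simp

/-- `E A`. -/
def EA (H : MHyp E A ρ) : Subgroup M where
  carrier := {g | ∃ s ∈ E, ∃ b ∈ A, g = s * b}
  one_mem' := ⟨1, E.one_mem, 1, A.one_mem, by simp⟩
  inv_mem' := by
    rintro _ ⟨s, hs, b, hb, rfl⟩
    refine ⟨s⁻¹, E.inv_mem hs, b⁻¹, A.inv_mem hb, ?_⟩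
    rw [mul_inv_rev, H.hEA _ (E.inv_mem hs) _ (A.inv_mem hb)]
  mul_mem' := by
    rintro _ _ ⟨s, hs, b, hb, rfl⟩ ⟨s', hs', b', hb', rfl⟩
    refine ⟨s * s', E.mul_mem hs hs', b * b', A.mul_mem hb hb', ?_⟩
    rw [mul_assoc, ← mul_assoc b, ← H.hEA s' hs' b hb, mul_assoc, mul_assoc]

lemma card_EA (H : MHyp E A ρ) : Nat.card (EA H) = 4 * Nat.card A := by
  let f : E × A → EA H := fun x => ⟨x.1 * x.2, x.1, x.1.2, x.2, x.2.2, rfl⟩
  have hf : Function.Bijective f := by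
    constructor
    · rintro ⟨⟨s, hs⟩, ⟨b, hb⟩⟩ ⟨⟨s', hs'⟩, ⟨b', hb'⟩⟩ h
      have h1 : s * b = s' * b' := congrArg Subtype.val h
      have h2 : s'⁻¹ * s = b' * b⁻¹ := by
        rw [inv_mul_eq_iff_eq_mul, ← mul_assoc, ← h1]
        group
      have h3 : b' * b⁻¹ ∈ E := by
        rw [← h2]
        exact E.mul_mem (E.inv_mem hs') hs
      have h4 : b' * b⁻¹ ∈ A := A.mul_mem hb' (A.inv_mem hb)
      have h5 : (b' * b⁻¹) ^ (2 ^ 1) = 1 := by
        rw [pow_one, sq]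
        exact H.hEinv _ h3
      have h6 := A_sq H h4 h5
      have h7 : b' = b := by
        rw [mul_inv_eq_one] at h6
        exact h6
      have h8 : s = s' := by
        rw [h7] at h1
        exact mul_right_cancel h1
      subst h7
      subst h8
      rfl
    · rintro ⟨g, s, hs, b, hb, rfl⟩
      exact ⟨(⟨s, hs⟩, ⟨b, hb⟩), rfl⟩
  rw [← Nat.card_congr (Equiv.ofBijective f hf), Nat.card_prod, H.hE4]

/-- Conjugates of a point by powers of `ρ`. -/
lemma rho_cycle (H : MHyp E A ρ) {s : M} (hs : s ∈ E) (hs1 : s ≠ 1) :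
    ∀ x ∈ E, x ≠ 1 → x = s ∨ x = ρ * s * ρ⁻¹ ∨ x = ρ ^ 2 * s * (ρ ^ 2)⁻¹ := by
  classical
  have hρ3 : ρ ^ 3 = 1 := orderOf_dvd_iff_pow_eq_one.mp (by rw [H.hρ])
  set s1 := ρ * s * ρ⁻¹ with hs1d
  have hs1E : s1 ∈ E := H.hρE s hs
  have hs11 : s1 ≠ 1 := by
    intro h
    apply hs1
    have : ρ * s = ρ := by
      have h2 := congrArg (· * ρ) h
      simpa [hs1d] using h2
    exact mul_eq_left.mp this
  set s2 := ρ ^ 2 * s * (ρ ^ 2)⁻¹ with hs2d
  have hs2eq : s2 = ρ * s1 * ρ⁻¹ := by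
    rw [hs2d, hs1d, sq]; group
  have hs2E : s2 ∈ E := by rw [hs2eq]; exact H.hρE s1 hs1E
  have hs21 : s2 ≠ 1 := by
    intro h
    apply hs11
    have : ρ * s1 = ρ := by
      have h2 := congrArg (· * ρ) (hs2eq.symm.trans h)
      simpa using h2
    exact mul_eq_left.mp this
  have hne1 : s1 ≠ s := H.hρmove s hs hs1
  have hne2 : s2 ≠ s1 := by rw [hs2eq]; exact H.hρmove s1 hs1E hs11
  have hne3 : s2 ≠ s := by
    intro h
    -- `ρ s₂ ρ⁻¹ = ρ³ s ρ⁻³ = s`, so `ρ s ρ⁻¹ = s`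
    apply hne1
    have h3 : ρ * s2 * ρ⁻¹ = s := by
      rw [hs2d]
      have : ρ * (ρ ^ 2 * s * (ρ ^ 2)⁻¹) * ρ⁻¹ = ρ ^ 3 * s * (ρ ^ 3)⁻¹ := by group
      rw [this, hρ3]
      simp
    rw [h] at h3
    exact h3
  intro x hx hx1
  by_contra hcon
  push Not at hcon
  obtain ⟨h1, h2, h3⟩ := hcon
  -- `E` contains five elements
  have hcard : (({1, s, s1, s2, x} : Finset M) : Set M) ⊆ (E : Set M) := by
    intro y hy
    simp only [Finset.coe_insert, Finset.coe_singleton, Set.mem_insert_iff, Set.mem_singleton_iff] at hy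
    rcases hy with rfl | rfl | rfl | rfl | rfl
    · exact E.one_mem
    · exact hs
    · exact hs1E
    · exact hs2E
    · exact hx
  have hcard5 : ({1, s, s1, s2, x} : Finset M).card = 5 := by
    rw [Finset.card_insert_of_notMem, Finset.card_insert_of_notMem, Finset.card_insert_of_notMem,
      Finset.card_insert_of_notMem, Finset.card_singleton]
    · simp only [Finset.mem_singleton]; exact fun h => h3 h.symm
    · simp only [Finset.mem_insert, Finset.mem_singleton, not_or]; exact ⟨fun h => hne2 h.symm, fun h => h2 h.symm⟩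
    · simp only [Finset.mem_insert, Finset.mem_singleton, not_or]
      exact ⟨fun h => hne1 h.symm, fun h => hne3 h.symm, fun h => h1 h.symm⟩
    · simp only [Finset.mem_insert, Finset.mem_singleton, not_or]
      exact ⟨fun h => hs1 h.symm, fun h => hs11 h.symm, fun h => hs21 h.symm, fun h => hx1 h.symm⟩
  have h5 : Nat.card ((({1, s, s1, s2, x} : Finset M)) : Set M) ≤ Nat.card (E : Set M) :=
    Nat.card_mono (Set.toFinite _) hcard
  rw [Nat.card_coe_set_eq, Set.ncard_coe_finset, hcard5] at h5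
  have h6 : Nat.card (E : Set M) = 4 := H.hE4
  omega

lemma rho_ne (H : MHyp E A ρ) {s : M} (hs : s ∈ E) (hs1 : s ≠ 1) :
    ρ * s * ρ⁻¹ ≠ s ∧ ρ ^ 2 * s * (ρ ^ 2)⁻¹ ≠ ρ * s * ρ⁻¹ ∧ ρ ^ 2 * s * (ρ ^ 2)⁻¹ ≠ s := by
  have hρ3 : ρ ^ 3 = 1 := orderOf_dvd_iff_pow_eq_one.mp (by rw [H.hρ])
  have hs1E : ρ * s * ρ⁻¹ ∈ E := H.hρE s hs
  have hs11 : ρ * s * ρ⁻¹ ≠ 1 := by
    intro h
    apply hs1
    have : ρ * s = ρ := by
      have h2 := congrArg (· * ρ) h
      simpa using h2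
    exact mul_eq_left.mp this
  have hs2eq : ρ ^ 2 * s * (ρ ^ 2)⁻¹ = ρ * (ρ * s * ρ⁻¹) * ρ⁻¹ := by
    rw [sq]; group
  have hne1 : ρ * s * ρ⁻¹ ≠ s := H.hρmove s hs hs1
  refine ⟨hne1, ?_, ?_⟩
  · rw [hs2eq]; exact H.hρmove _ hs1E hs11
  · intro h
    apply hne1
    have h3 : ρ * (ρ ^ 2 * s * (ρ ^ 2)⁻¹) * ρ⁻¹ = s := by
      have : ρ * (ρ ^ 2 * s * (ρ ^ 2)⁻¹) * ρ⁻¹ = ρ ^ 3 * s * (ρ ^ 3)⁻¹ := by
        rw [pow_succ ρ 2, sq]; group
      rw [this, hρ3]
      simp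
    rw [h] at h3
    exact h3

/-- Elements of `E A` centralize `E`. -/
lemma EA_comm (H : MHyp E A ρ) {h x : M} (hh : h ∈ EA H) (hx : x ∈ E) : h * x = x * h := by
  obtain ⟨s, hs, b, hb, rfl⟩ := hh
  rw [mul_assoc, ← H.hEA x hx b hb, ← mul_assoc, E_comm H hs hx, mul_assoc]

lemma norm_mem_of (H : MHyp E A ρ) {x : M} (h : ∀ y ∈ E, x * y * x⁻¹ ∈ E) :
    x ∈ Subgroup.normalizer (E : Set M) := by
  classical
  rw [Subgroup.mem_normalizer_iff]
  intro y
  refine ⟨h y, fun hy => ?_⟩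
  -- conjugation by `x` is injective on the finite set `E`, so it is onto
  have hinj : Function.Injective (fun z : E => (⟨x * z * x⁻¹, h z z.2⟩ : E)) := by
    intro z z' hzz
    have h1 : x * (z : M) * x⁻¹ = x * z' * x⁻¹ := congrArg Subtype.val hzz
    apply Subtype.ext
    simpa using h1
  obtain ⟨z, hz⟩ := (Finite.injective_iff_surjective.mp hinj) ⟨_, hy⟩
  have h1 : x * (z : M) * x⁻¹ = x * y * x⁻¹ := congrArg Subtype.val hz
  have h2 : (z : M) = y := by simpa using h1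
  exact h2 ▸ z.2

lemma card_N (H : MHyp E A ρ) : Nat.card (Subgroup.normalizer (E : Set M)) = 3 * (4 * Nat.card A) := by
  classical
  obtain ⟨s, hs, hs1⟩ := exists_ne_one H
  obtain ⟨hn1, hn2, hn3⟩ := rho_ne H hs hs1
  have hρN : ∀ k : ℕ, ρ ^ k ∈ Subgroup.normalizer (E : Set M) := by
    intro k
    apply Subgroup.pow_mem
    apply norm_mem_of H
    exact H.hρE
  have hEAN : ∀ h ∈ EA H, h ∈ Subgroup.normalizer (E : Set M) := by
    intro h hh
    apply norm_mem_of H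
    intro y hy
    rw [EA_comm H hh hy]
    simpa using hy
  let f : Fin 3 × EA H → Subgroup.normalizer (E : Set M) :=
    fun x => ⟨ρ ^ (x.1 : ℕ) * x.2, Subgroup.mul_mem _ (hρN _) (hEAN _ x.2.2)⟩
  have hval : ∀ (k : ℕ) (h : M), h ∈ EA H → (ρ ^ k * h) * s * (ρ ^ k * h)⁻¹ = ρ ^ k * s * (ρ ^ k)⁻¹ := by
    intro k h hh
    have h1 : h * s * h⁻¹ = s := by rw [EA_comm H hh hs]; simp
    calc (ρ ^ k * h) * s * (ρ ^ k * h)⁻¹ = ρ ^ k * (h * s * h⁻¹) * (ρ ^ k)⁻¹ := by group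
      _ = ρ ^ k * s * (ρ ^ k)⁻¹ := by rw [h1]
  have hf : Function.Bijective f := by
    constructor
    · rintro ⟨k, ⟨h, hh⟩⟩ ⟨k', ⟨h', hh'⟩⟩ hxy
      have h1 : ρ ^ (k : ℕ) * h = ρ ^ (k' : ℕ) * h' := congrArg Subtype.val hxy
      have h2 : ρ ^ (k : ℕ) * s * (ρ ^ (k : ℕ))⁻¹ = ρ ^ (k' : ℕ) * s * (ρ ^ (k' : ℕ))⁻¹ := by
        rw [← hval k h hh, ← hval k' h' hh', h1]
      have hkk : k = k' := by
        fin_cases k <;> fin_cases k' <;> simp at h2 ⊢
        · exact absurd h2.symm hn1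
        · exact absurd h2.symm hn3
        · exact absurd h2 hn1
        · exact absurd h2.symm hn2
        · exact absurd h2 hn3
        · exact absurd h2 hn2
      subst hkk
      have h3 : h = h' := mul_left_cancel h1
      subst h3
      rfl
    · rintro ⟨x, hx⟩
      have h1 : x * s * x⁻¹ ∈ E := (Subgroup.mem_normalizer_iff.mp hx s).mp hs
      have h2 : x * s * x⁻¹ ≠ 1 := by
        intro h
        apply hs1
        have : x * s = x := by
          have h2 := congrArg (· * x) h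
          simpa using h2
        exact mul_eq_left.mp this
      have key : ∃ k : Fin 3, x * s * x⁻¹ = ρ ^ (k : ℕ) * s * (ρ ^ (k : ℕ))⁻¹ := by
        rcases rho_cycle H hs hs1 _ h1 h2 with h | h | h
        · exact ⟨0, by simpa using h⟩
        · exact ⟨1, by simpa using h⟩
        · exact ⟨2, by simpa using h⟩
      obtain ⟨k, hk⟩ := key
      have hy : ((ρ ^ (k : ℕ))⁻¹ * x) * s = s * ((ρ ^ (k : ℕ))⁻¹ * x) := by
        have h3 : x * s = ρ ^ (k : ℕ) * s * (ρ ^ (k : ℕ))⁻¹ * x := by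
          rw [← hk]; group
        rw [mul_assoc, h3]
        group
      obtain ⟨s', hs', b, hb, hyb⟩ := H.hC s hs hs1 _ hy
      refine ⟨(k, ⟨(ρ ^ (k : ℕ))⁻¹ * x, s', hs', b, hb, hyb⟩), ?_⟩
      apply Subtype.ext
      show ρ ^ (k : ℕ) * ((ρ ^ (k : ℕ))⁻¹ * x) = x
      group
  rw [← Nat.card_congr (Equiv.ofBijective f hf), Nat.card_prod, card_EA]
  simp

/-- The number of Sylow subgroups is `1` mod `4`. -/
lemma mod_four (H : MHyp E A ρ) (P : Sylow 2 M) (hPE : (P : Subgroup M) = E) :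
    Nat.card (Sylow 2 M) % 4 = 1 := by
  classical
  haveI : Fact (Nat.Prime 2) := ⟨Nat.prime_two⟩
  have hE2 : IsPGroup 2 E := IsPGroup.of_card (n := 2) (by rw [H.hE4]; norm_num)
  have hfix : ∀ e : E, e • P = P := by
    intro e
    show (e : M) • P = P
    rw [Sylow.smul_eq_iff_mem_normalizer]
    have hEn : (P : Subgroup M) ≤ Subgroup.normalizer ((P : Subgroup M) : Set M) := Subgroup.le_normalizer
    exact hEn (by rw [hPE]; exact e.2)
  let Y : SubMulAction E (Sylow 2 M) :=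
    { carrier := {Q | Q ≠ P}
      smul_mem' := by
        intro e Q hQ h
        apply hQ
        have h1 : e⁻¹ • (e • Q) = e⁻¹ • P := by rw [h]
        rw [inv_smul_smul, hfix] at h1
        exact h1 }
  have hfree : ∀ b : Y, MulAction.stabilizer E b = ⊥ := by
    rintro ⟨Q, hQ⟩
    rw [eq_bot_iff]
    intro e he
    rw [Subgroup.mem_bot]
    by_contra he1
    have he1' : (e : M) ≠ 1 := fun h => he1 (Subtype.ext h)
    have h1 : e • Q = Q := by
      have := MulAction.mem_stabilizer_iff.mp he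
      exact congrArg Subtype.val this
    have h2 : (e : M) • Q = Q := h1
    rw [Sylow.smul_eq_iff_mem_normalizer] at h2
    have h3 := Subgroup.mem_inf.mpr ⟨e.2, h2⟩
    rw [hE2.inf_normalizer_sylow Q] at h3
    have heQ : (e : M) ∈ (Q : Subgroup M) := h3.2
    have hQc : Nat.card (Q : Subgroup M) = 2 ^ 2 := by
      rw [← Nat.card_congr (P.equiv Q).toEquiv, hPE, H.hE4]
      norm_num
    have hQab := IsPGroup.commutative_of_card_eq_prime_sq hQc
    have hle : (Q : Subgroup M) ≤ (P : Subgroup M) := by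
      intro x hx
      have h4 : x * (e : M) = e * x := congrArg Subtype.val (hQab ⟨x, hx⟩ ⟨e, heQ⟩)
      obtain ⟨s, hs, b, hb, hxb⟩ := H.hC e e.2 he1' x h4
      obtain ⟨k, hk⟩ := Q.isPGroup' ⟨x, hx⟩
      have h5 : x ^ (2 ^ k) = 1 := congrArg Subtype.val hk
      rw [hxb] at h5
      have h6 := two_elt H hs hb h5
      rw [hPE, hxb, h6, mul_one]
      exact hs
    apply hQ
    exact Sylow.ext (Q.is_maximal' P.isPGroup' hle).symm
  have h1 : Nat.card Y = Nat.card (Quotient (MulAction.orbitRel E Y)) * 4 := by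
    rw [Nat.card_congr (MulAction.selfEquivOrbitsQuotientProd hfree), Nat.card_prod, H.hE4]
  have h2 : Nat.card (Sylow 2 M) = Nat.card Y + 1 := by
    have h3 : (Y : Set (Sylow 2 M)) = {P}ᶜ := by
      ext Q
      simp only [Set.mem_compl_iff, Set.mem_singleton_iff]
      exact Iff.rfl
    have h4 : Nat.card Y = Nat.card ((Y : Set (Sylow 2 M))) := rfl
    rw [h4, h3, Nat.card_coe_set_eq, Set.ncard_compl, Set.ncard_singleton]
    have : 0 < Nat.card (Sylow 2 M) := Nat.card_pos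
    omega
  omega

lemma one_pos {p r : ℚ} (hp : 3 ≤ p) (hr : 3 ≤ r) : (8 / 15 : ℚ) ≤ 1 - 1 / p - 1 / r + 1 / (p + r - 1) := by
  obtain ⟨a, ha, rfl⟩ : ∃ a : ℚ, 0 ≤ a ∧ p = 3 + a := ⟨p - 3, by linarith, by ring⟩
  obtain ⟨b, hb, rfl⟩ : ∃ b : ℚ, 0 ≤ b ∧ r = 3 + b := ⟨r - 3, by linarith, by ring⟩
  have h1 : (0 : ℚ) < 3 + a := by linarith
  have h2 : (0 : ℚ) < 3 + b := by linarith
  have h3 : (0 : ℚ) < 3 + a + (3 + b) - 1 := by linarith
  have key : 1 - 1 / (3 + a) - 1 / (3 + b) + 1 / (3 + a + (3 + b) - 1) - 8 / 15 =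
      (48 * a + 48 * b + 6 * a ^ 2 + 6 * b ^ 2 + 62 * a * b + 7 * a ^ 2 * b + 7 * a * b ^ 2) /
        (15 * (3 + a) * (3 + b) * (3 + a + (3 + b) - 1)) := by
    field_simp
    ring
  have h4 : 0 ≤ (48 * a + 48 * b + 6 * a ^ 2 + 6 * b ^ 2 + 62 * a * b + 7 * a ^ 2 * b + 7 * a * b ^ 2) /
        (15 * (3 + a) * (3 + b) * (3 + a + (3 + b) - 1)) := by positivity
  linarith

lemma two_pos {a b : ℚ} (ha : 1 ≤ a) (hb : 1 ≤ b) : (8 / 15 : ℚ) ≤ 1 + 1 / a + 1 / b - 1 / (1 + a + b) := by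
  have h1 : 1 / (1 + a + b) ≤ 1 / a := by
    apply one_div_le_one_div_of_le <;> linarith
  have h2 : 0 ≤ 1 / b := by positivity
  linarith

lemma arith {D₂ D₃ D₄ : ℤ} (h2 : D₂ % 4 = 1) (h3 : D₃ % 4 = 1) (h4 : D₄ % 4 = 1) (hs : 1 + D₂ + D₃ + D₄ = 0) :
    (8 / 15 : ℚ) ≤ 1 + 1 / (D₂ : ℚ) + 1 / (D₃ : ℚ) + 1 / (D₄ : ℚ) := by
  have cases2 : ∀ D : ℤ, D % 4 = 1 → 1 ≤ D ∨ D ≤ -3 := fun D hD => by omega
  have hs' : (1 : ℚ) + D₂ + D₃ + D₄ = 0 := by exact_mod_cast hs
  have cast1 : ∀ D : ℤ, 1 ≤ D → (1 : ℚ) ≤ D := fun D hD => by exact_mod_cast hD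
  have cast3 : ∀ D : ℤ, D ≤ -3 → (3 : ℚ) ≤ -(D : ℚ) := fun D hD => by
    have : (D : ℚ) ≤ -3 := by exact_mod_cast hD
    linarith
  have inv_neg' : ∀ x : ℚ, 1 / x = - (1 / (-x)) := fun x => by
    rw [one_div, one_div, inv_neg, neg_neg]
  rcases cases2 D₂ h2 with a2 | a2 <;> rcases cases2 D₃ h3 with a3 | a3 <;> rcases cases2 D₄ h4 with a4 | a4
  · omega
  · have h := two_pos (cast1 _ a2) (cast1 _ a3)
    have e : (D₄ : ℚ) = -(1 + D₂ + D₃) := by linarith
    rw [e, inv_neg' (-(1 + (D₂ : ℚ) + D₃)), neg_neg]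
    linarith
  · have h := two_pos (cast1 _ a2) (cast1 _ a4)
    have e : (D₃ : ℚ) = -(1 + D₂ + D₄) := by linarith
    rw [e, inv_neg' (-(1 + (D₂ : ℚ) + D₄)), neg_neg]
    linarith
  · have h := one_pos (cast3 _ a3) (cast3 _ a4)
    have e : (D₂ : ℚ) = -(D₃ : ℚ) + -(D₄ : ℚ) - 1 := by linarith
    rw [inv_neg' (D₃ : ℚ), inv_neg' (D₄ : ℚ), e]
    linarith
  · have h := two_pos (cast1 _ a3) (cast1 _ a4)
    have e : (D₂ : ℚ) = -(1 + D₃ + D₄) := by linarith
    rw [e, inv_neg' (-(1 + (D₃ : ℚ) + D₄)), neg_neg]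
    linarith
  · have h := one_pos (cast3 _ a2) (cast3 _ a4)
    have e : (D₃ : ℚ) = -(D₂ : ℚ) + -(D₄ : ℚ) - 1 := by linarith
    rw [inv_neg' (D₂ : ℚ), inv_neg' (D₄ : ℚ), e]
    linarith
  · have h := one_pos (cast3 _ a2) (cast3 _ a3)
    have e : (D₄ : ℚ) = -(D₂ : ℚ) + -(D₃ : ℚ) - 1 := by linarith
    rw [inv_neg' (D₂ : ℚ), inv_neg' (D₃ : ℚ), e]
    linarith
  · omega

end CardAux

/-- [LMb] Step (3) of the header (and (0), (1) for `n`). -/
theorem card_cases (H : MHyp E A ρ) : Nat.card M = 12 * Nat.card A ∨ Nat.card M = 60 * Nat.card A := by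
  classical
  haveI : Fact (Nat.Prime 2) := ⟨Nat.prime_two⟩
  have hE2 : IsPGroup 2 E := IsPGroup.of_card (n := 2) (by rw [H.hE4]; norm_num)
  obtain ⟨P, hP⟩ := hE2.exists_le_sylow
  have hPE : (P : Subgroup M) = E := le_antisymm (CardAux.hSyl H _ P.isPGroup' hP) hP
  have hn4 := CardAux.mod_four H P hPE
  have hn : Nat.card (Sylow 2 M) = (Subgroup.normalizer (E : Set M)).index := by
    have h0 : (P : Set M) = (E : Set M) := by rw [← hPE]; rfl
    rw [P.card_eq_index_normalizer, h0]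
  have hM : Nat.card M = Nat.card (Sylow 2 M) * (12 * Nat.card A) := by
    rw [hn, ← Subgroup.index_mul_card (Subgroup.normalizer (E : Set M)), CardAux.card_N H]
    ring
  obtain ⟨D₂, D₃, D₄, h2, h3, h4, hsum, hS⟩ := numbers H
  have harith := CardAux.arith h2 h3 h4 hsum
  set n := Nat.card (Sylow 2 M) with hn_def
  set S : ℚ := 1 + 1 / (D₂ : ℚ) + 1 / (D₃ : ℚ) + 1 / (D₄ : ℚ) with hS_def
  have hApos : (0 : ℚ) < (Nat.card A : ℚ) := by exact_mod_cast Nat.card_pos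
  have h5 : (3 : ℚ) * n * S = 8 := by
    rw [hM] at hS
    push_cast at hS
    have h6 : (Nat.card A : ℚ) * (12 * (n : ℚ) * S) = (Nat.card A : ℚ) * 32 := by
      linear_combination hS
    have h7 := mul_left_cancel₀ hApos.ne' h6
    linarith
  have hn5 : n ≤ 5 := by
    by_contra hcon
    have h6 : (6 : ℚ) ≤ (n : ℚ) := by
      have : 6 ≤ n := by omega
      exact_mod_cast this
    nlinarith
  have hcase : n = 1 ∨ n = 5 := by omega
  rcases hcase with h | h
  · left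
    rw [hM, h]; ring
  · right
    rw [hM, h]; ring

namespace CentrAux

variable (H : MHyp E A ρ)
include H

theorem sq_A {x : M} (hxA : x ∈ A) (hx : x * x = 1) : x = 1 := by
  have h1 : orderOf (⟨x, hxA⟩ : A) ∣ Nat.card A := orderOf_dvd_natCard _
  have h2 : orderOf (⟨x, hxA⟩ : A) ∣ 2 :=
    orderOf_dvd_of_pow_eq_one (by ext; simp [pow_two, hx])
  have h3 : (orderOf (⟨x, hxA⟩ : A)).Coprime 2 :=
    Nat.Coprime.coprime_dvd_left h1 (Nat.coprime_two_right.2 H.hAodd)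
  have h4 := Nat.Coprime.eq_one_of_dvd h3 h2
  exact congrArg Subtype.val (orderOf_eq_one_iff.1 h4)

theorem E_comm {a b : M} (ha : a ∈ E) (hb : b ∈ E) : a * b = b * a := by
  have h1 := H.hEinv a ha
  have h2 := H.hEinv b hb
  have h3 := H.hEinv (a * b) (mul_mem ha hb)
  have ha' : a⁻¹ = a := inv_eq_of_mul_eq_one_left h1
  have hb' : b⁻¹ = b := inv_eq_of_mul_eq_one_left h2
  have h4 : (a * b)⁻¹ = a * b := inv_eq_of_mul_eq_one_left h3
  rw [mul_inv_rev, ha', hb'] at h4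
  exact h4.symm

theorem e_eq_one_of_odd {e b : M} (he : e ∈ E) (hb : b ∈ A) {m : ℕ} (hm : Odd m)
    (h1 : (e * b) ^ m = 1) : e = 1 := by
  have hc : Commute e b := H.hEA e he b hb
  rw [hc.mul_pow] at h1
  obtain ⟨j, rfl⟩ := hm
  have he2 : e ^ (2 * j + 1) = e := by
    rw [pow_succ, pow_mul, pow_two, H.hEinv e he, one_pow, one_mul]
  rw [he2] at h1
  have h2 : e = (b ^ (2 * j + 1))⁻¹ := eq_inv_of_mul_eq_one_left h1
  have h3 : e ∈ A := by rw [h2]; exact A.inv_mem (A.pow_mem hb _)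
  exact sq_A H h3 (H.hEinv e he)

theorem b_eq_one_of_sq {e b : M} (he : e ∈ E) (hb : b ∈ A) (h1 : (e * b) * (e * b) = 1) : b = 1 := by
  have hc : e * b = b * e := H.hEA e he b hb
  have h2 : b * b = 1 := by
    calc b * b = (e * e) * (b * b) := by rw [H.hEinv e he, one_mul]
      _ = e * (e * b) * b := by simp only [mul_assoc]
      _ = e * (b * e) * b := by rw [hc]
      _ = (e * b) * (e * b) := by simp only [mul_assoc]
      _ = 1 := h1
  exact sq_A H hb h2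

theorem conj_mem_E {g s : M} (hs : s ∈ E) (hs1 : s ≠ 1) (hgs : g * s * g⁻¹ ∈ E) {x : M} (hx : x ∈ E) :
    g * x * g⁻¹ ∈ E := by
  have hs' : g * s * g⁻¹ ≠ 1 := by
    intro h
    apply hs1
    have h3 : s = g⁻¹ * (g * s * g⁻¹) * g := by group
    rw [h3, h, mul_one, inv_mul_cancel]
  have hcomm : (g * x * g⁻¹) * (g * s * g⁻¹) = (g * s * g⁻¹) * (g * x * g⁻¹) := by
    have h3 := E_comm H hx hs
    calc (g * x * g⁻¹) * (g * s * g⁻¹) = g * (x * s) * g⁻¹ := by group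
      _ = g * (s * x) * g⁻¹ := by rw [h3]
      _ = (g * s * g⁻¹) * (g * x * g⁻¹) := by group
  obtain ⟨e, he, b, hb, hg⟩ := H.hC _ hgs hs' _ hcomm
  have hsq : (g * x * g⁻¹) * (g * x * g⁻¹) = 1 := by
    calc (g * x * g⁻¹) * (g * x * g⁻¹) = g * (x * x) * g⁻¹ := by group
      _ = 1 := by rw [H.hEinv x hx]; group
  rw [hg] at hsq
  have hb1 := b_eq_one_of_sq H he hb hsq
  rw [hg, hb1, mul_one]
  exact he

theorem mem_norm {g s : M} (hs : s ∈ E) (hs1 : s ≠ 1) (hgs : g * s * g⁻¹ ∈ E) :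
    g ∈ Subgroup.normalizer (E : Set M) := by
  have hs' : g * s * g⁻¹ ≠ 1 := by
    intro h
    apply hs1
    have h3 : s = g⁻¹ * (g * s * g⁻¹) * g := by group
    rw [h3, h, mul_one, inv_mul_cancel]
  rw [Subgroup.mem_normalizer_iff]
  intro x
  refine ⟨fun hx => conj_mem_E H hs hs1 hgs hx, fun hx => ?_⟩
  have h5 : g⁻¹ * (g * s * g⁻¹) * g⁻¹⁻¹ ∈ E := by
    have : g⁻¹ * (g * s * g⁻¹) * g⁻¹⁻¹ = s := by group
    rw [this]; exact hs
  have h6 := conj_mem_E H (g := g⁻¹) hgs hs' h5 hx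
  have h7 : g⁻¹ * (g * x * g⁻¹) * g⁻¹⁻¹ = x := by group
  rwa [h7] at h6

theorem exists_s0 : ∃ s₀ ∈ E, s₀ ≠ 1 := by
  by_contra hcon
  push Not at hcon
  have hbot : E = ⊥ := (Subgroup.eq_bot_iff_forall E).2 hcon
  have h4 := H.hE4
  rw [hbot, Subgroup.card_bot] at h4
  omega

theorem rho_cube : ρ ^ 3 = 1 := by
  rw [← H.hρ]; exact pow_orderOf_eq_one ρ

theorem rho_norm {s₀ : M} (hs₀ : s₀ ∈ E) (hs₀1 : s₀ ≠ 1) : ρ ∈ Subgroup.normalizer (E : Set M) :=
  mem_norm H hs₀ hs₀1 (H.hρE s₀ hs₀)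

/-- `E^#` is a `ρ`-orbit. -/
theorem rot {s₀ : M} (hs₀ : s₀ ∈ E) (hs₀1 : s₀ ≠ 1) {s : M} (hs : s ∈ E) (hs1 : s ≠ 1) :
    s = s₀ ∨ s = ρ * s₀ * ρ⁻¹ ∨ s = ρ * (ρ * s₀ * ρ⁻¹) * ρ⁻¹ := by
  classical
  letI : Fintype E := Fintype.ofFinite _
  have h1E := H.hρE s₀ hs₀
  have h2E := H.hρE _ h1E
  have hne1 : ρ * s₀ * ρ⁻¹ ≠ 1 := by
    intro h
    apply hs₀1
    have h3 : s₀ = ρ⁻¹ * (ρ * s₀ * ρ⁻¹) * ρ := by group
    rw [h3, h, mul_one, inv_mul_cancel]
  have hne2 : ρ * (ρ * s₀ * ρ⁻¹) * ρ⁻¹ ≠ 1 := by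
    intro h
    apply hne1
    have h3 : ρ * s₀ * ρ⁻¹ = ρ⁻¹ * (ρ * (ρ * s₀ * ρ⁻¹) * ρ⁻¹) * ρ := by group
    rw [h3, h, mul_one, inv_mul_cancel]
  have h12 : s₀ ≠ ρ * s₀ * ρ⁻¹ := (H.hρmove s₀ hs₀ hs₀1).symm
  have h23 : ρ * s₀ * ρ⁻¹ ≠ ρ * (ρ * s₀ * ρ⁻¹) * ρ⁻¹ := (H.hρmove _ h1E hne1).symm
  have h13 : s₀ ≠ ρ * (ρ * s₀ * ρ⁻¹) * ρ⁻¹ := by
    intro h
    apply h12
    have hρ3 := rho_cube H
    have hρ3' : ρ * (ρ * ρ) = 1 := by rw [← pow_two, ← pow_succ', hρ3]
    have e1 : ρ * (ρ * (ρ * s₀ * ρ⁻¹) * ρ⁻¹) * ρ⁻¹ = s₀ := by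
      calc ρ * (ρ * (ρ * s₀ * ρ⁻¹) * ρ⁻¹) * ρ⁻¹ = (ρ * (ρ * ρ)) * s₀ * (ρ⁻¹ * ρ⁻¹ * ρ⁻¹) := by
            simp only [mul_assoc]
        _ = s₀ := by
            rw [hρ3', one_mul]
            have : ρ⁻¹ * ρ⁻¹ * ρ⁻¹ = (ρ * (ρ * ρ))⁻¹ := by simp [mul_assoc]
            rw [this, hρ3', inv_one, mul_one]
    calc s₀ = ρ * (ρ * (ρ * s₀ * ρ⁻¹) * ρ⁻¹) * ρ⁻¹ := e1.symm
      _ = ρ * s₀ * ρ⁻¹ := by rw [← h]
  let a0 : E := ⟨s₀, hs₀⟩
  let a1 : E := ⟨_, h1E⟩
  let a2 : E := ⟨_, h2E⟩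
  have hT : ({1, a0, a1, a2} : Finset E) = Finset.univ := by
    apply Finset.eq_univ_of_card
    rw [← Nat.card_eq_fintype_card, H.hE4]
    rw [Finset.card_insert_of_notMem, Finset.card_insert_of_notMem, Finset.card_insert_of_notMem,
      Finset.card_singleton]
    · simp only [Finset.mem_singleton]
      exact fun h => h23 (congrArg Subtype.val h)
    · simp only [Finset.mem_insert, Finset.mem_singleton, not_or]
      exact ⟨fun h => h12 (congrArg Subtype.val h), fun h => h13 (congrArg Subtype.val h)⟩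
    · simp only [Finset.mem_insert, Finset.mem_singleton, not_or]
      exact ⟨fun h => hs₀1 (congrArg Subtype.val h).symm, fun h => hne1 (congrArg Subtype.val h).symm,
        fun h => hne2 (congrArg Subtype.val h).symm⟩
  have hmem : (⟨s, hs⟩ : E) ∈ ({1, a0, a1, a2} : Finset E) := by rw [hT]; exact Finset.mem_univ _
  simp only [Finset.mem_insert, Finset.mem_singleton] at hmem
  rcases hmem with h | h | h | h
  · exact absurd (congrArg Subtype.val h) hs1
  · exact Or.inl (congrArg Subtype.val h)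
  · exact Or.inr (Or.inl (congrArg Subtype.val h))
  · exact Or.inr (Or.inr (congrArg Subtype.val h))

theorem card_cent {s₀ : M} (hs₀ : s₀ ∈ E) (hs₀1 : s₀ ≠ 1) :
    Nat.card (Subgroup.centralizer ({s₀} : Set M)) = 4 * Nat.card A := by
  let f : E × A → Subgroup.centralizer ({s₀} : Set M) := fun p => ⟨p.1.1 * p.2.1, by
    rw [Subgroup.mem_centralizer_singleton_iff]
    have h1 := E_comm H p.1.2 hs₀
    have h2 := H.hEA s₀ hs₀ p.2.1 p.2.2
    calc p.1.1 * p.2.1 * s₀ = p.1.1 * (p.2.1 * s₀) := by rw [mul_assoc]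
      _ = p.1.1 * (s₀ * p.2.1) := by rw [h2]
      _ = (p.1.1 * s₀) * p.2.1 := by rw [mul_assoc]
      _ = (s₀ * p.1.1) * p.2.1 := by rw [h1]
      _ = s₀ * (p.1.1 * p.2.1) := by rw [mul_assoc]⟩
  have hf : Function.Bijective f := by
    constructor
    · rintro ⟨e, b⟩ ⟨e', b'⟩ he
      have h1 : (e : M) * b = e' * b' := congrArg Subtype.val he
      have h2 : (e' : M)⁻¹ * e = b' * (b : M)⁻¹ := by
        have : (e : M) = e' * b' * (b : M)⁻¹ := eq_mul_inv_of_mul_eq h1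
        rw [this]; group
      have h3 : (e' : M)⁻¹ * e ∈ E := mul_mem (inv_mem e'.2) e.2
      have h4 : (e' : M)⁻¹ * e ∈ A := by rw [h2]; exact mul_mem b'.2 (inv_mem b.2)
      have h5 := sq_A H h4 (H.hEinv _ h3)
      have h6 : (e : M) = e' := (inv_mul_eq_one.1 h5).symm
      have h7 : (b : M) = b' := by
        rw [h6] at h1
        exact mul_left_cancel h1
      exact Prod.ext (Subtype.ext h6) (Subtype.ext h7)
    · rintro ⟨c, hc⟩
      rw [Subgroup.mem_centralizer_singleton_iff] at hc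
      obtain ⟨e, he, b, hb, rfl⟩ := H.hC s₀ hs₀ hs₀1 c hc
      exact ⟨(⟨e, he⟩, ⟨b, hb⟩), rfl⟩
  rw [← Nat.card_eq_of_bijective f hf, Nat.card_prod, H.hE4]

theorem card_norm {s₀ : M} (hs₀ : s₀ ∈ E) (hs₀1 : s₀ ≠ 1) :
    Nat.card (Subgroup.normalizer (E : Set M)) = 12 * Nat.card A := by
  classical
  let φ := E.normalizerMonoidHom
  letI act : MulAction (Subgroup.normalizer (E : Set M)) E := MulAction.compHom E φ
  have hsm : ∀ (x : Subgroup.normalizer (E : Set M)) (a : E), ((x • a : E) : M) = x * a * (x : M)⁻¹ :=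
    fun x a => rfl
  let a0 : E := ⟨s₀, hs₀⟩
  have hρN := rho_norm H hs₀ hs₀1
  let r : Subgroup.normalizer (E : Set M) := ⟨ρ, hρN⟩
  have horb : MulAction.orbit (Subgroup.normalizer (E : Set M)) a0 = {a0, r • a0, r • (r • a0)} := by
    ext a
    simp only [MulAction.mem_orbit_iff, Set.mem_insert_iff, Set.mem_singleton_iff]
    constructor
    · rintro ⟨x, rfl⟩
      have hne : (((x • a0 : E)) : M) ≠ 1 := by
        intro h
        rw [hsm] at h
        apply hs₀1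
        have h3 : s₀ = (x : M)⁻¹ * ((x : M) * s₀ * (x : M)⁻¹) * x := by group
        rw [h3]
        have h4 : (x : M) * s₀ * (x : M)⁻¹ = 1 := h
        rw [h4, mul_one, inv_mul_cancel]
      rcases rot H hs₀ hs₀1 (x • a0).2 hne with h | h | h
      · exact Or.inl (Subtype.ext h)
      · exact Or.inr (Or.inl (Subtype.ext h))
      · exact Or.inr (Or.inr (Subtype.ext h))
    · rintro (rfl | rfl | rfl)
      · exact ⟨1, one_smul _ _⟩
      · exact ⟨r, rfl⟩
      · exact ⟨r * r, mul_smul _ _ _⟩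
  have hρ1 := H.hρmove s₀ hs₀ hs₀1
  have h1E := H.hρE s₀ hs₀
  have hne1 : ρ * s₀ * ρ⁻¹ ≠ 1 := by
    intro h
    apply hs₀1
    have h3 : s₀ = ρ⁻¹ * (ρ * s₀ * ρ⁻¹) * ρ := by group
    rw [h3, h, mul_one, inv_mul_cancel]
  have hρ2 := H.hρmove _ h1E hne1
  have hρ3 : ρ * (ρ * ρ) = 1 := by rw [← pow_two, ← pow_succ', rho_cube H]
  have hinv : ρ⁻¹ = ρ * ρ := inv_eq_of_mul_eq_one_left (by rw [mul_assoc]; exact hρ3)
  have hne13 : s₀ ≠ ρ * (ρ * s₀ * ρ⁻¹) * ρ⁻¹ := by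
    intro h
    apply hρ1
    have e1 : ρ * (ρ * (ρ * s₀ * ρ⁻¹) * ρ⁻¹) * ρ⁻¹ = s₀ := by
      calc ρ * (ρ * (ρ * s₀ * ρ⁻¹) * ρ⁻¹) * ρ⁻¹ = (ρ * (ρ * ρ)) * s₀ * (ρ⁻¹ * ρ⁻¹ * ρ⁻¹) := by
            simp only [mul_assoc]
        _ = s₀ := by
            rw [hρ3, one_mul]
            have : ρ⁻¹ * ρ⁻¹ * ρ⁻¹ = (ρ * (ρ * ρ))⁻¹ := by simp [mul_assoc]
            rw [this, hρ3, inv_one, mul_one]
    calc ρ * s₀ * ρ⁻¹ = ρ * (ρ * (ρ * s₀ * ρ⁻¹) * ρ⁻¹) * ρ⁻¹ := by rw [← h]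
      _ = s₀ := e1
  have hcard3 : (MulAction.orbit (Subgroup.normalizer (E : Set M)) a0).ncard = 3 := by
    rw [Set.ncard_eq_three]
    refine ⟨a0, r • a0, r • (r • a0), ?_, ?_, ?_, horb⟩
    · intro h
      exact hρ1 (congrArg Subtype.val h).symm
    · intro h
      exact hne13 (congrArg Subtype.val h)
    · intro h
      exact hρ2 (congrArg Subtype.val h).symm
  have hidx := Subgroup.index_mul_card (MulAction.stabilizer (Subgroup.normalizer (E : Set M)) a0)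
  rw [MulAction.index_stabilizer, hcard3] at hidx
  have he : MulAction.stabilizer (Subgroup.normalizer (E : Set M)) a0 ≃
      Subgroup.centralizer ({s₀} : Set M) :=
    { toFun := fun a => ⟨a.1.1, by
        rw [Subgroup.mem_centralizer_singleton_iff]
        have h2 : (a.1 : M) * s₀ * (a.1 : M)⁻¹ = s₀ := congrArg Subtype.val a.2
        exact mul_inv_eq_iff_eq_mul.1 h2⟩
      invFun := fun c => ⟨⟨c.1, mem_norm H hs₀ hs₀1 (by
          have h2 := c.2
          rw [Subgroup.mem_centralizer_singleton_iff] at h2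
          rw [h2, mul_inv_cancel_right]; exact hs₀)⟩, by
        have h2 := c.2
        rw [Subgroup.mem_centralizer_singleton_iff] at h2
        apply Subtype.ext
        show (c : M) * s₀ * (c : M)⁻¹ = s₀
        rw [h2, mul_inv_cancel_right]⟩
      left_inv := fun a => by ext; rfl
      right_inv := fun c => by ext; rfl }
  rw [Nat.card_congr he, card_cent H hs₀ hs₀1] at hidx
  rw [← hidx]
  ring

end CentrAux

/-- Three fixed points on five points force the identity, for a permutation of order dividing 3. -/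
theorem perm_all_fixed {X : Type*} [Finite X] (σ : Equiv.Perm X) (hσ : σ ^ 3 = 1)
    (hX : Nat.card X = 5) {a b c : X} (hab : a ≠ b) (hac : a ≠ c) (hbc : b ≠ c)
    (ha : σ a = a) (hb : σ b = b) (hc : σ c = c) (x : X) : σ x = x := by
  classical
  letI : Fintype X := Fintype.ofFinite _
  haveI : Fact (Nat.Prime 3) := ⟨by norm_num⟩
  have h1 := Equiv.Perm.card_compl_support_modEq (p := 3) (n := 1) (σ := σ) (by rw [pow_one]; exact hσ)
  rw [← Nat.card_eq_fintype_card, hX] at h1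
  have hsub : ({a, b, c} : Finset X) ⊆ σ.supportᶜ := by
    intro y hy
    simp only [Finset.mem_insert, Finset.mem_singleton] at hy
    rw [Finset.mem_compl, Equiv.Perm.mem_support, not_not]
    rcases hy with rfl | rfl | rfl <;> assumption
  have h3 : 3 ≤ (σ.supportᶜ).card := by
    have h4 := Finset.card_le_card hsub
    have h5 : ({a, b, c} : Finset X).card = 3 := Finset.card_eq_three.2 ⟨a, b, c, hab, hac, hbc, rfl⟩
    omega
  have h5 : (σ.supportᶜ).card ≤ 5 := by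
    have := Finset.card_le_univ (σ.supportᶜ)
    rw [← Nat.card_eq_fintype_card, hX] at this
    exact this
  have h6 : (σ.supportᶜ).card = 5 := by
    generalize (σ.supportᶜ).card = d at h1 h3 h5
    interval_cases d
    · revert h1; decide
    · revert h1; decide
    · rfl
  have h7 : σ.supportᶜ = Finset.univ := by
    apply Finset.eq_univ_of_card
    rw [h6, ← Nat.card_eq_fintype_card, hX]
  have h8 : x ∈ σ.supportᶜ := by rw [h7]; exact Finset.mem_univ x
  rw [Finset.mem_compl, Equiv.Perm.mem_support, not_not] at h8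
  exact h8

/-- [LMc] Step (4) of the header. -/
theorem centr (H : MHyp E A ρ) (g : M) (hg : g * ρ = ρ * g) : ∃ b ∈ A, ∃ k < 3, g = b * ρ ^ k := by
  classical
  haveI h2F : Fact (Nat.Prime 2) := ⟨Nat.prime_two⟩
  have hρ3 := CentrAux.rho_cube H
  obtain ⟨s₀, hs₀, hs₀1⟩ := CentrAux.exists_s0 H
  have hcases := card_cases H
  have hcardN := CentrAux.card_norm H hs₀ hs₀1
  have hAo := H.hAodd
  have hfact : (Nat.card M).factorization 2 = 2 := by
    have key : ∀ c : ℕ, Odd c → (2 ^ 2 * c).factorization 2 = 2 := by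
      intro c hc
      rw [Nat.factorization_mul (by norm_num) hc.pos.ne', Nat.Prime.factorization_pow Nat.prime_two]
      simp [Nat.factorization_eq_zero_of_not_dvd hc.not_two_dvd_nat]
    rcases hcases with h | h
    · rw [h, show 12 * Nat.card A = 2 ^ 2 * (3 * Nat.card A) by ring]
      exact key _ (Odd.mul (by decide) hAo)
    · rw [h, show 60 * Nat.card A = 2 ^ 2 * (15 * Nat.card A) by ring]
      exact key _ (Odd.mul (by decide) hAo)
  let E₀ : Sylow 2 M := Sylow.ofCard E (by rw [H.hE4, hfact]; norm_num)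
  have hE₀ : (E₀ : Subgroup M) = E := Sylow.coe_ofCard _ _
  have hsmE : ∀ x : M, x • E₀ = E₀ ↔ x ∈ Subgroup.normalizer (E : Set M) := by
    intro x
    rw [Sylow.smul_eq_iff_mem_normalizer]
    show x ∈ Subgroup.normalizer ((E₀ : Subgroup M) : Set M) ↔ _
    rw [hE₀]
  by_cases hgE : g • E₀ = E₀
  · -- `g` normalizes `E`
    have hgN := (hsmE g).1 hgE
    have h1 := (Subgroup.mem_normalizer_iff.1 hgN s₀).1 hs₀
    have hne : g * s₀ * g⁻¹ ≠ 1 := by
      intro h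
      apply hs₀1
      have h3 : s₀ = g⁻¹ * (g * s₀ * g⁻¹) * g := by group
      rw [h3, h, mul_one, inv_mul_cancel]
    have hρinv : ρ⁻¹ = ρ * ρ := inv_eq_of_mul_eq_one_left (by
      rw [← pow_two, ← pow_succ, hρ3])
    have hρcube : ρ * (ρ * ρ) = 1 := by rw [← pow_two, ← pow_succ', hρ3]
    -- `ρ ^ k * g` commutes with `s₀`
    obtain ⟨k, hk, hks⟩ : ∃ k < 3, (ρ ^ k * g) * s₀ = s₀ * (ρ ^ k * g) := by
      rcases CentrAux.rot H hs₀ hs₀1 h1 hne with h | h | h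
      · refine ⟨0, by norm_num, ?_⟩
        simpa using mul_inv_eq_iff_eq_mul.1 h
      · refine ⟨2, by norm_num, ?_⟩
        have h2 : g * s₀ = ρ * s₀ * ρ⁻¹ * g := mul_inv_eq_iff_eq_mul.1 h
        calc (ρ ^ 2 * g) * s₀ = ρ ^ 2 * (g * s₀) := by rw [mul_assoc]
          _ = ρ ^ 2 * (ρ * s₀ * ρ⁻¹ * g) := by rw [h2]
          _ = (ρ * (ρ * ρ)) * s₀ * (ρ * ρ) * g := by rw [hρinv, pow_two]; simp only [mul_assoc]
          _ = s₀ * (ρ ^ 2 * g) := by rw [hρcube, one_mul, pow_two, mul_assoc]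
      · refine ⟨1, by norm_num, ?_⟩
        have h2 : g * s₀ = ρ * (ρ * s₀ * ρ⁻¹) * ρ⁻¹ * g := mul_inv_eq_iff_eq_mul.1 h
        calc (ρ ^ 1 * g) * s₀ = ρ * (g * s₀) := by rw [pow_one, mul_assoc]
          _ = ρ * (ρ * (ρ * s₀ * ρ⁻¹) * ρ⁻¹ * g) := by rw [h2]
          _ = (ρ * (ρ * ρ)) * s₀ * (ρ⁻¹ * ρ⁻¹) * g := by simp only [mul_assoc]
          _ = s₀ * (ρ ^ 1 * g) := by
            rw [hρcube, one_mul, pow_one, hρinv]
            have h5 : ρ * ρ * (ρ * ρ) = ρ := by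
              calc ρ * ρ * (ρ * ρ) = (ρ * (ρ * ρ)) * ρ := by simp only [mul_assoc]
                _ = ρ := by rw [hρcube, one_mul]
            rw [h5, mul_assoc]
    obtain ⟨e, he, b, hb, hkg⟩ := H.hC s₀ hs₀ hs₀1 _ hks
    -- `e * b` commutes with `ρ`
    have hcρ : (e * b) * ρ = ρ * (e * b) := by
      rw [← hkg]
      have hc : Commute (ρ ^ k) ρ := (Commute.refl ρ).pow_left k
      calc ρ ^ k * g * ρ = ρ ^ k * (g * ρ) := by rw [mul_assoc]
        _ = ρ ^ k * (ρ * g) := by rw [hg]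
        _ = (ρ ^ k * ρ) * g := by rw [mul_assoc]
        _ = (ρ * ρ ^ k) * g := by rw [hc.eq]
        _ = ρ * (ρ ^ k * g) := by rw [mul_assoc]
    have he1 : e = 1 := by
      by_contra hne1
      apply H.hρmove e he hne1
      have h2 : (ρ * e * ρ⁻¹) * (ρ * b * ρ⁻¹) = e * b := by
        calc (ρ * e * ρ⁻¹) * (ρ * b * ρ⁻¹) = ρ * (e * b) * ρ⁻¹ := by group
          _ = (e * b) * ρ * ρ⁻¹ := by rw [hcρ]
          _ = e * b := by rw [mul_inv_cancel_right]
      have h3E := H.hρE e he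
      have h3A := H.hρA b hb
      have h4 : e⁻¹ * (ρ * e * ρ⁻¹) = b * (ρ * b * ρ⁻¹)⁻¹ := by
        have h5 : ρ * e * ρ⁻¹ = e * b * (ρ * b * ρ⁻¹)⁻¹ := eq_mul_inv_of_mul_eq h2
        rw [h5]
        group
      have h5E : e⁻¹ * (ρ * e * ρ⁻¹) ∈ E := mul_mem (inv_mem he) h3E
      have h5A : e⁻¹ * (ρ * e * ρ⁻¹) ∈ A := by rw [h4]; exact mul_mem hb (inv_mem h3A)
      have h6 := CentrAux.sq_A H h5A (H.hEinv _ h5E)
      exact (inv_mul_eq_one.1 h6).symm
    rw [he1, one_mul] at hkg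
    -- `ρ ^ k * g = b`
    have hgk : g * ρ ^ k = b := by
      have hc : Commute g (ρ ^ k) := (show Commute g ρ from hg).pow_right k
      rw [hc.eq]
      exact hkg
    have hinvk : g = b * (ρ ^ k)⁻¹ := by rw [← hgk, mul_inv_cancel_right]
    interval_cases k
    · exact ⟨b, hb, 0, by norm_num, by simpa using hinvk⟩
    · refine ⟨b, hb, 2, by norm_num, ?_⟩
      rw [hinvk, pow_one, hρinv, pow_two]
    · refine ⟨b, hb, 1, by norm_num, ?_⟩
      have : (ρ ^ 2)⁻¹ = ρ := by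
        apply inv_eq_of_mul_eq_one_left
        rw [pow_two]
        exact hρcube
      rw [hinvk, this, pow_one]
  · -- `g` moves `E`: contradiction
    exfalso
    have hΩ : Nat.card (Sylow 2 M) = (Subgroup.normalizer (E : Set M)).index := by
      have h1 := Sylow.card_eq_index_normalizer E₀
      have h2 : Subgroup.normalizer ((E₀ : Subgroup M) : Set M) = Subgroup.normalizer (E : Set M) := by
        rw [hE₀]
      exact h1.trans (congrArg Subgroup.index h2)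
    have hidx := Subgroup.index_mul_card (Subgroup.normalizer (E : Set M))
    rw [hcardN] at hidx
    have hApos : 0 < Nat.card A := Nat.card_pos
    have hΩ5 : Nat.card (Sylow 2 M) = 5 ∧ Nat.card M = 60 * Nat.card A := by
      rcases hcases with h | h
      · exfalso
        rw [h] at hidx
        have h1 : (Subgroup.normalizer (E : Set M)).index = 1 := by
          have h3 : (Subgroup.normalizer (E : Set M)).index * (12 * Nat.card A) = 1 * (12 * Nat.card A) := by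
            rw [hidx, one_mul]
          exact Nat.eq_of_mul_eq_mul_right (Nat.mul_pos (by norm_num) hApos) h3
        rw [h1] at hΩ
        haveI : Subsingleton (Sylow 2 M) := (Nat.card_eq_one_iff_unique.1 hΩ).1
        exact hgE (Subsingleton.elim _ _)
      · refine ⟨?_, h⟩
        rw [h] at hidx
        rw [hΩ]
        have h2 : (Subgroup.normalizer (E : Set M)).index * (12 * Nat.card A) = 5 * (12 * Nat.card A) := by
          rw [hidx]; ring
        exact Nat.eq_of_mul_eq_mul_right (Nat.mul_pos (by norm_num) hApos) h2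
    obtain ⟨hΩ5', hM60⟩ := hΩ5
    let φ := MulAction.toPermHom M (Sylow 2 M)
    have hker : ∀ k : M, k ∈ φ.ker ↔ ∀ R : Sylow 2 M, k • R = R := by
      intro k
      rw [MonoidHom.mem_ker]
      constructor
      · intro h R
        have := congrArg (fun σ : Equiv.Perm (Sylow 2 M) => σ R) h
        exact this
      · intro h
        ext1 R
        exact h R
    -- the kernel has odd order
    have hKodd : ¬ 2 ∣ Nat.card φ.ker := by
      intro hd
      obtain ⟨z, hz⟩ := exists_prime_orderOf_dvd_card' 2 hd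
      have hzo : orderOf (z : M) = 2 := (Subgroup.orderOf_coe z).trans hz
      have hzz : (z : M) ^ 2 = 1 := by
        have h5 := pow_orderOf_eq_one (z : M)
        rwa [hzo] at h5
      have hzp : IsPGroup 2 (Subgroup.zpowers (z : M)) := by
        rintro ⟨h, w, rfl⟩
        refine ⟨1, ?_⟩
        ext
        simp only [SubgroupClass.coe_pow, OneMemClass.coe_one]
        show ((z : M) ^ w) ^ 2 ^ 1 = 1
        rw [pow_one, ← zpow_natCast, ← zpow_mul, mul_comm, zpow_mul, zpow_natCast, hzz, one_zpow]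
      have hmemR : ∀ R : Sylow 2 M, (z : M) ∈ (R : Subgroup M) := by
        intro R
        have hn : (z : M) ∈ Subgroup.normalizer ((R : Subgroup M) : Set M) :=
          Sylow.smul_eq_iff_mem_normalizer.1 ((hker _).1 z.2 R)
        have hle : Subgroup.zpowers (z : M) ≤ Subgroup.normalizer ((R : Subgroup M) : Set M) :=
          Subgroup.zpowers_le.2 hn
        have h2 := IsPGroup.to_sup_of_normal_left' R.isPGroup' hzp hle
        have h3 := R.is_maximal' h2 le_sup_left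
        have h4 : (z : M) ∈ (R : Subgroup M) ⊔ Subgroup.zpowers (z : M) :=
          Subgroup.mem_sup_right (Subgroup.mem_zpowers _)
        rwa [h3] at h4
      have hzE : (z : M) ∈ E := by rw [← hE₀]; exact hmemR E₀
      have hzg := hmemR (g • E₀)
      obtain ⟨e, he, hez⟩ := hzg
      have hez' : g * e * g⁻¹ = (z : M) := hez
      have heE : e ∈ E := by rw [← hE₀]; exact he
      have he1 : e ≠ 1 := by
        rintro rfl
        have : (z : M) = 1 := by rw [← hez']; group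
        rw [this, orderOf_one] at hzo
        omega
      apply hgE
      rw [hsmE]
      exact CentrAux.mem_norm H heE he1 (by rw [hez']; exact hzE)
    -- the kernel is contained in `A`
    have hKle : φ.ker ≤ A := by
      intro k hk
      have hkN : k ∈ Subgroup.normalizer (E : Set M) := (hsmE k).1 ((hker k).1 hk E₀)
      have hx : k * s₀ * k⁻¹ * s₀⁻¹ ∈ E := mul_mem ((Subgroup.mem_normalizer_iff.1 hkN s₀).1 hs₀) (inv_mem hs₀)
      have hxK : k * s₀ * k⁻¹ * s₀⁻¹ ∈ φ.ker := by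
        have h1 : s₀ * k⁻¹ * s₀⁻¹ ∈ φ.ker := (MonoidHom.normal_ker φ).conj_mem _ (inv_mem hk) s₀
        have h2 := mul_mem hk h1
        have h3 : k * (s₀ * k⁻¹ * s₀⁻¹) = k * s₀ * k⁻¹ * s₀⁻¹ := by group
        rwa [h3] at h2
      have hx1 : k * s₀ * k⁻¹ * s₀⁻¹ = 1 := by
        have h2 := H.hEinv _ hx
        have h3 : orderOf (⟨_, hxK⟩ : φ.ker) ∣ 2 := orderOf_dvd_of_pow_eq_one (by ext; simp [pow_two, h2])
        have h4 : orderOf (⟨_, hxK⟩ : φ.ker) ∣ Nat.card φ.ker := orderOf_dvd_natCard _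
        have h5 : (orderOf (⟨_, hxK⟩ : φ.ker)).Coprime 2 :=
          Nat.Coprime.coprime_dvd_left h4 (Nat.coprime_two_right.2 (by
            rcases Nat.even_or_odd (Nat.card φ.ker) with h6 | h6
            · exact absurd h6.two_dvd hKodd
            · exact h6))
        have h6 := Nat.Coprime.eq_one_of_dvd h5 h3
        exact congrArg Subtype.val (orderOf_eq_one_iff.1 h6)
      have hks : k * s₀ = s₀ * k := by
        have h2 : k * s₀ * k⁻¹ = s₀ := mul_inv_eq_one.1 hx1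
        exact mul_inv_eq_iff_eq_mul.1 h2
      obtain ⟨e, he, b, hb, rfl⟩ := H.hC s₀ hs₀ hs₀1 k hks
      have hKoddN : Odd (Nat.card φ.ker) := by
        rcases Nat.even_or_odd (Nat.card φ.ker) with h6 | h6
        · exact absurd h6.two_dvd hKodd
        · exact h6
      have hpow : (e * b) ^ Nat.card φ.ker = 1 := by
        have h2 : ((⟨e * b, hk⟩ : φ.ker)) ^ Nat.card φ.ker = 1 := pow_card_eq_one'
        exact congrArg Subtype.val h2
      have he1 := CentrAux.e_eq_one_of_odd H he hb hKoddN hpow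
      rw [he1, one_mul]
      exact hb
    -- the order of the kernel
    have hKA : φ.ker = A := by
      apply Subgroup.eq_of_le_of_card_ge hKle
      have h1 := Subgroup.card_mul_index φ.ker
      rw [Subgroup.index_ker] at h1
      have h2 : Nat.card φ.range ∣ 120 := by
        have h3 := Subgroup.card_subgroup_dvd_card φ.range
        rw [Nat.card_perm, hΩ5'] at h3
        simpa [Nat.factorial] using h3
      have h3 : ¬ 8 ∣ Nat.card φ.range := by
        intro h8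
        have h4 : 8 ∣ Nat.card M := by
          rw [← h1]
          exact h8.trans (dvd_mul_left _ _)
        rw [hM60, show 60 * Nat.card A = 4 * (15 * Nat.card A) by ring,
          show (8 : ℕ) = 4 * 2 by norm_num] at h4
        have h5 := Nat.dvd_of_mul_dvd_mul_left (by norm_num) h4
        have h6 : Odd (15 * Nat.card A) := Odd.mul (by decide) hAo
        exact h6.not_two_dvd_nat h5
      have h4 : Nat.card φ.range ≤ 60 := by
        obtain ⟨c, hc⟩ := h2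
        have hc0 : c ≠ 0 := by
          rintro rfl
          omega
        have hc1 : c ≠ 1 := by
          rintro rfl
          apply h3
          rw [mul_one] at hc
          rw [← hc]
          norm_num
        have hc2 : 2 ≤ c := by omega
        nlinarith
      have h5 : 60 * Nat.card A ≤ 60 * Nat.card φ.ker := by
        rw [← hM60, ← h1]
        rw [mul_comm]
        exact Nat.mul_le_mul_right _ h4
      omega
    have hAn : A.Normal := by rw [← hKA]; exact MonoidHom.normal_ker φ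
    have hρA : ρ ∉ A := by
      intro h
      apply H.hρmove s₀ hs₀ hs₀1
      have h2 : s₀ * ρ = ρ * s₀ := H.hEA s₀ hs₀ ρ h
      rw [← h2, mul_inv_cancel_right]
    have hρK : ρ ∉ φ.ker := by rw [hKA]; exact hρA
    -- `g` swaps
    have hρE₀ : ρ • E₀ = E₀ := (hsmE ρ).2 (CentrAux.rho_norm H hs₀ hs₀1)
    have hfixg : ∀ R : Sylow 2 M, ρ • R = R → ρ • (g • R) = g • R := by
      intro R hR
      rw [← mul_smul, ← hg, mul_smul, hR]
    have hσ3 : (φ ρ) ^ 3 = 1 := by rw [← map_pow, hρ3, map_one]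
    have hsw : g • (g • E₀) = E₀ := by
      by_contra hne
      have h1 : g • (g • E₀) ≠ g • E₀ := by
        intro h
        exact hgE (smul_left_cancel _ h)
      apply hρK
      rw [hker]
      intro R
      exact perm_all_fixed (φ ρ) hσ3 hΩ5' (a := E₀) (b := g • E₀) (c := g • (g • E₀))
        (Ne.symm hgE) (Ne.symm hne) (Ne.symm h1) hρE₀ (hfixg _ hρE₀) (hfixg _ (hfixg _ hρE₀)) R
    -- an involution commuting with `ρ`
    have hev : 2 ∣ orderOf g := by
      by_contra hnd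
      obtain ⟨j, hj⟩ : Odd (orderOf g) := by
        rcases Nat.even_or_odd (orderOf g) with h6 | h6
        · exact absurd h6.two_dvd hnd
        · exact h6
      have h1 : g ^ (2 * j + 1) = 1 := by rw [← hj]; exact pow_orderOf_eq_one g
      have h2 : g * g ∈ MulAction.stabilizer M E₀ := by
        show (g * g) • E₀ = E₀
        rw [mul_smul]; exact hsw
      have h3 : (g * g) ^ j • E₀ = E₀ := (MulAction.stabilizer M E₀).pow_mem h2 j
      have h4 : g ^ (2 * j + 1) = g * (g * g) ^ j := by rw [pow_succ', pow_mul, pow_two]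
      apply hgE
      have h5 : (g * (g * g) ^ j) • E₀ = g • E₀ := by rw [mul_smul, h3]
      rw [← h5, ← h4, h1, one_smul]
    let z : M := g ^ (orderOf g / 2)
    have hzo : orderOf z = 2 := orderOf_pow_orderOf_div (orderOf_pos g).ne' hev
    have hzρ : z * ρ = ρ * z := ((show Commute g ρ from hg).pow_left _).eq
    have hzz : z ^ 2 = 1 := by
      have h5 := pow_orderOf_eq_one z
      rwa [hzo] at h5
    have hzp : IsPGroup 2 (Subgroup.zpowers z) := by
      rintro ⟨h, w, rfl⟩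
      refine ⟨1, ?_⟩
      ext
      simp only [SubgroupClass.coe_pow, OneMemClass.coe_one]
      show (z ^ w) ^ 2 ^ 1 = 1
      rw [pow_one, ← zpow_natCast, ← zpow_mul, mul_comm, zpow_mul, zpow_natCast, hzz, one_zpow]
    obtain ⟨Q, hQ⟩ := hzp.exists_le_sylow
    have hzQ : z ∈ (Q : Subgroup M) := hQ (Subgroup.mem_zpowers z)
    obtain ⟨x, rfl⟩ := MulAction.exists_smul_eq M E₀ Q
    obtain ⟨e, he, hez⟩ := hzQ
    have hez' : x * e * x⁻¹ = z := hez
    have heE : e ∈ E := by rw [← hE₀]; exact he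
    have he1 : e ≠ 1 := by
      rintro rfl
      have : z = 1 := by rw [← hez']; group
      rw [this, orderOf_one] at hzo
      omega
    have hcomm : (x⁻¹ * ρ * x) * e = e * (x⁻¹ * ρ * x) := by
      have h1 : (x * e * x⁻¹) * ρ = ρ * (x * e * x⁻¹) := by rw [hez']; exact hzρ
      calc (x⁻¹ * ρ * x) * e = x⁻¹ * (ρ * (x * e * x⁻¹)) * x := by group
        _ = x⁻¹ * ((x * e * x⁻¹) * ρ) * x := by rw [h1]
        _ = e * (x⁻¹ * ρ * x) := by group
    obtain ⟨s', hs', b, hb, hρ'⟩ := H.hC e heE he1 _ hcomm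
    have hpow : (s' * b) ^ 3 = 1 := by
      rw [← hρ']
      have h1 : (x⁻¹ * ρ * x) ^ 3 = x⁻¹ * ρ ^ 3 * x := by
        have := conj_pow (a := x⁻¹) (b := ρ) (i := 3)
        simpa using this
      rw [h1, hρ3]
      group
    have hs1 := CentrAux.e_eq_one_of_odd H hs' hb (by decide) hpow
    rw [hs1, one_mul] at hρ'
    apply hρA
    have h1 : ρ = x * b * x⁻¹ := by
      rw [← hρ']
      group
    rw [h1]
    exact hAn.conj_mem b hb x

end Cfsg.Agent.Lib.JT.LM
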