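import Cfsg.Agent.Lib.JT.Defs

/-! # Block L, part L1+L2 (helper92): the algebraic skeleton of `LocalData`.
`LPre S` = all the fields of `LocalData S` except `hρfix`, `hC`, `hTI`, plus the facts that `C_G(E4) = E4 × A⟨j'⟩`, `A` = odd part of `C_G(E4)`,
`S₈ = E4 × ⟨j'⟩` of order 8 is a Sylow 2-subgroup of `C(t)`.  Proof in `LPreProof.lean`/below. -/
set_option autoImplicit false
namespace Cfsg.Agent.Lib.JT
universe u v

/-- The algebraic skeleton of `LocalData`. -/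
structure LPre {G : Type u} [Group G] {F : Type v} [Field F] [Fintype F] (S : Std G F) where
  i : G
  j' : G
  ρ : G
  A : Subgroup G
  hiL : i ∈ S.L
  hi : orderOf i = 2
  hAL : A ≤ S.L
  hAcyc : IsCyclic A
  hAcard : (Nat.card A : ℤ) = aa S.q
  hA1 : Nat.card A ≠ 1
  hiA : ∀ a ∈ A, i * a = a * i
  hj : orderOf j' = 2
  hjt : j' * S.t = S.t * j'
  hji : j' * i = i * j'
  hjA : ∀ a ∈ A, j' * a * j'⁻¹ = a⁻¹
  hρ : orderOf ρ = 3
  hρj : ρ * j' = j' * ρ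
  hρt : ρ * S.t * ρ⁻¹ = i
  hρi : ρ * i * ρ⁻¹ = S.t * i
  hρA : ∀ a ∈ A, ρ * a * ρ⁻¹ ∈ A
  /-- `j' ∉ E4`. -/
  hjE : j' ≠ 1 ∧ j' ≠ S.t ∧ j' ≠ i ∧ j' ≠ S.t * i
  /-- `A` has odd order. -/
  hAodd : Odd (Nat.card A)
  /-- `A` = elements of odd order of `C_G(E4)`. -/
  hAchar : ∀ g : G, g * S.t = S.t * g → g * i = i * g → Odd (orderOf g) → g ∈ A
  /-- `C_G(E4) = E4 × A⟨j'⟩`. -/
  hCE : ∀ g : G, g * S.t = S.t * g → g * i = i * g → ∃ s ∈ ({1, S.t, i, S.t * i} : Set G), ∃ a ∈ A, g = s * a ∨ g = s * a * j'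

variable {G : Type u} [Group G] [Finite G] {F : Type v} [Field F] [Fintype F]

/-- L1 + L2. -/
theorem exists_pre (S : Std G F) (hq : 11 ≤ Fintype.card F) : Nonempty (LPre S) := by
  sorry

end Cfsg.Agent.Lib.JT
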