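import Mathlib

/-! # Block L, L6: abstract group lemmas for `rho_fix` (helper69). -/

set_option autoImplicit false

namespace Cfsg.Agent.Lib.JT.LocFixAb

open Subgroup
open scoped Pointwise

/-- Burnside's normal complement as the set of `p'`-elements. -/
theorem normal_compl {Y : Type*} [Group Y] [Finite Y] (p : ℕ) [hpf : Fact p.Prime] (Q : Sylow p Y)
    (hcent : normalizer ((Q : Subgroup Y) : Set Y) ≤ centralizer ((Q : Subgroup Y) : Set Y)) :
    ∃ N : Subgroup Y, (∀ g, g ∈ N ↔ ¬ p ∣ orderOf g) ∧ ¬ p ∣ Nat.card N := by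
  classical
  have hl : p.Prime := hpf.out
  have hc := MonoidHom.ker_transferSylow_isComplement' Q hcent
  set N : Subgroup Y := (MonoidHom.transferSylow Q hcent).ker with hN
  have hcard : Nat.card N * Nat.card Q = Nat.card Y := hc.card_mul_card
  have hidx : (Q : Subgroup Y).index = Nat.card N := by
    have h := (Q : Subgroup Y).card_mul_index
    have hQ : 0 < Nat.card (Q : Subgroup Y) := Nat.card_pos
    have h2 : Nat.card (Q : Subgroup Y) * (Q : Subgroup Y).index = Nat.card (Q : Subgroup Y) * Nat.card N := by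
      rw [h, ← hcard, mul_comm]
    exact Nat.eq_of_mul_eq_mul_left hQ h2
  have hlN : ¬ p ∣ Nat.card N := by
    rw [← hidx]
    exact Q.not_dvd_index
  refine ⟨N, ?_, hlN⟩
  intro g
  constructor
  · intro hg hd
    apply hlN
    have h3' : orderOf (⟨g, hg⟩ : N) ∣ Nat.card N := orderOf_dvd_natCard _
    rw [Subgroup.orderOf_mk] at h3'
    exact hd.trans h3'
  · intro hgo
    have hq : IsPGroup p (Q : Subgroup Y) := Q.isPGroup'
    set φ := MonoidHom.transferSylow Q hcent with hφ
    change φ g = 1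
    obtain ⟨m, hm⟩ := hq (φ g)
    have hpow : (φ g) ^ (orderOf g) = 1 := by
      rw [← map_pow, pow_orderOf_eq_one, map_one]
    have hcop : Nat.Coprime (p ^ m) (orderOf g) := Nat.Coprime.pow_left m ((Nat.Prime.coprime_iff_not_dvd hl).mpr hgo)
    have h6 := orderOf_dvd_of_pow_eq_one hpow
    have h7 := orderOf_dvd_of_pow_eq_one hm
    have h8 : orderOf (φ g) = 1 := by
      have := Nat.dvd_gcd h7 h6
      rw [hcop.gcd_eq_one] at this
      exact Nat.dvd_one.mp this
    exact orderOf_eq_one_iff.mp h8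

/-- A fixed-point-free involutive automorphism forces commutativity. -/
theorem comm_of_fpf {H : Type*} [Group H] [Finite H] (σ : H → H) (hσ : ∀ a b, σ (a * b) = σ a * σ b)
    (hσ2 : ∀ a, σ (σ a) = a) (hfix : ∀ a, σ a = a → a = 1) : ∀ a b : H, a * b = b * a := by
  have h1 : σ 1 = 1 := by
    have := hσ 1 1
    rw [mul_one] at this
    exact (mul_eq_left.mp this.symm)
  have hinv : ∀ a, σ a⁻¹ = (σ a)⁻¹ := by
    intro a
    apply eq_inv_of_mul_eq_one_left
    rw [← hσ, inv_mul_cancel, h1]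
  have hinj : Function.Injective (fun h : H => h⁻¹ * σ h) := by
    intro u v huv
    have huv' : u⁻¹ * σ u = v⁻¹ * σ v := huv
    have hf : σ (v * u⁻¹) = v * u⁻¹ := by
      rw [hσ, hinv]
      have : σ u = u * (v⁻¹ * σ v) := by rw [← huv', mul_inv_cancel_left]
      rw [this]
      group
    have := hfix _ hf
    exact (mul_inv_eq_one.mp this).symm
  have hsurj := Finite.injective_iff_surjective.mp hinj
  have hinvert : ∀ y, σ y = y⁻¹ := by
    intro y
    obtain ⟨h, rfl⟩ := hsurj y
    change σ (h⁻¹ * σ h) = (h⁻¹ * σ h)⁻¹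
    rw [hσ, hσ2, hinv]
    group
  intro a b
  have h2 := hσ a b
  rw [hinvert, hinvert, hinvert, mul_inv_rev] at h2
  have h3 : (a * b)⁻¹ = (b * a)⁻¹ := by
    rw [mul_inv_rev, mul_inv_rev]
    exact h2
  exact inv_injective h3

/-- All Sylow `l`-subgroups of `K` are abelian when an involution normalizing `K` has no nontrivial `l`-element fixed in `K`. -/
theorem sylow_abelian {X : Type*} [Group X] [Finite X] (K : Subgroup X) (hK : Odd (Nat.card K)) (l : ℕ) [hlf : Fact l.Prime]
    (j : X) (hj2 : j * j = 1) (hKj : ∀ k ∈ K, j * k * j⁻¹ ∈ K)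
    (hfp : ∀ g ∈ K, j * g * j⁻¹ = g → (∃ n : ℕ, g ^ (l ^ n) = 1) → g = 1) (Q : Sylow l K) :
    ∀ y z : K, y ∈ (Q : Subgroup K) → z ∈ (Q : Subgroup K) → y * z = z * y := by
  classical
  haveI : Fact (Nat.Prime 2) := ⟨Nat.prime_two⟩
  have hjinv : j⁻¹ = j := inv_eq_of_mul_eq_one_left hj2
  -- the automorphism
  let σ : K ≃* K :=
    { toFun := fun k => ⟨j * k * j⁻¹, hKj k k.2⟩
      invFun := fun k => ⟨j * k * j⁻¹, hKj k k.2⟩
      left_inv := fun k => Subtype.ext (by
        change j * (j * (k : X) * j⁻¹) * j⁻¹ = k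
        rw [hjinv]
        calc j * (j * (k : X) * j) * j = (j * j) * (k : X) * (j * j) := by group
          _ = k := by rw [hj2]; group)
      right_inv := fun k => Subtype.ext (by
        change j * (j * (k : X) * j⁻¹) * j⁻¹ = k
        rw [hjinv]
        calc j * (j * (k : X) * j) * j = (j * j) * (k : X) * (j * j) := by group
          _ = k := by rw [hj2]; group)
      map_mul' := fun u v => Subtype.ext (by
        change j * ((u : X) * v) * j⁻¹ = (j * u * j⁻¹) * (j * v * j⁻¹)
        group) }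
  have hσσ : σ * σ = 1 := by
    ext k
    change j * (j * (k : X) * j⁻¹) * j⁻¹ = k
    rw [hjinv]
    calc j * (j * (k : X) * j) * j = (j * j) * (k : X) * (j * j) := by group
      _ = k := by rw [hj2]; group
  letI : Fintype (Sylow l K) := Fintype.ofFinite _
  let f : Function.End (Sylow l K) := fun P => σ • P
  have hf : f ^ 2 ^ 1 = 1 := by
    funext P
    change σ • σ • P = P
    rw [smul_smul, hσσ, one_smul]
  have hmod := Equiv.Perm.card_fixedPoints_modEq hf
  have hoddS : Odd (Fintype.card (Sylow l K)) := by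
    rw [← Nat.card_eq_fintype_card]
    have h1 : Nat.card (Sylow l K) ∣ (Q : Subgroup K).index := Q.card_dvd_index
    have h2 : (Q : Subgroup K).index ∣ Nat.card K := (Q : Subgroup K).index_dvd_card
    exact Odd.of_dvd_nat hK (h1.trans h2)
  have hne : Nonempty (Function.fixedPoints f) := by
    by_contra hemp
    rw [not_nonempty_iff] at hemp
    have h0 : Fintype.card (Function.fixedPoints f) = 0 := Fintype.card_eq_zero
    rw [h0] at hmod
    have := Nat.odd_iff.mp hoddS
    have h5 : Fintype.card (Sylow l K) % 2 = 0 % 2 := hmod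
    omega
  obtain ⟨⟨Q₀, hQ₀⟩⟩ := hne
  have hQ₀' : σ • Q₀ = Q₀ := hQ₀
  have hmem : ∀ y : K, y ∈ (Q₀ : Subgroup K) → σ y ∈ (Q₀ : Subgroup K) := by
    intro y hy
    have h1 : σ • y ∈ σ • (Q₀ : Subgroup K) := Subgroup.smul_mem_pointwise_smul y σ _ hy
    rw [← Sylow.pointwise_smul_def, hQ₀'] at h1
    exact h1
  let σ' : ↥(Q₀ : Subgroup K) → ↥(Q₀ : Subgroup K) := fun y => ⟨σ (y : K), hmem (y : K) y.2⟩
  have hcomm := comm_of_fpf σ' (fun a b => Subtype.ext (map_mul σ _ _))
    (fun a => Subtype.ext (by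
      change σ (σ a) = a
      exact congrFun (congrArg DFunLike.coe hσσ) (a : K)))
    (fun a ha => by
      have h1 : σ (a : K) = a := congrArg Subtype.val ha
      have h2 : j * ((a : K) : X) * j⁻¹ = ((a : K) : X) := congrArg Subtype.val h1
      obtain ⟨n, hn⟩ := Q₀.isPGroup' a
      have h3 := hfp _ (a : K).2 h2 ⟨n, by
        have := congrArg (fun z : ↥(Q₀ : Subgroup K) => (((z : K) : X))) hn
        simpa using this⟩
      exact Subtype.ext (Subtype.ext h3))
  obtain ⟨g, hg⟩ := MulAction.exists_smul_eq K Q₀ Q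
  intro y z hy hz
  rw [← hg, Sylow.coe_subgroup_smul, Subgroup.mem_smul_pointwise_iff_exists] at hy hz
  obtain ⟨y', hy', rfl⟩ := hy
  obtain ⟨z', hz', rfl⟩ := hz
  have := hcomm ⟨y', hy'⟩ ⟨z', hz'⟩
  have h2 : y' * z' = z' * y' := congrArg Subtype.val this
  rw [← smul_mul', ← smul_mul', h2]

/-- A `2`-subgroup of a group whose `2`-part is `4` is conjugate into a subgroup of order `4`. -/
theorem conj_into {M : Type*} [Group M] [Finite M] (E E' : Subgroup M) (hE : Nat.card E = 4)
    (h8 : ¬ 8 ∣ Nat.card M) (hE' : IsPGroup 2 E') : ∃ m : M, ∀ g ∈ E', m * g * m⁻¹ ∈ E := by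
  classical
  haveI : Fact (Nat.Prime 2) := ⟨Nat.prime_two⟩
  have h4 : 4 ∣ Nat.card M := hE ▸ Subgroup.card_subgroup_dvd_card E
  have hpos : Nat.card M ≠ 0 := Nat.card_pos.ne'
  have hfac : (Nat.card M).factorization 2 = 2 := by
    apply le_antisymm
    · by_contra hlt
      push Not at hlt
      apply h8
      have : 2 ^ 3 ∣ Nat.card M := (Nat.prime_two.pow_dvd_iff_le_factorization hpos).mpr hlt
      simpa using this
    · exact (Nat.prime_two.pow_dvd_iff_le_factorization hpos).mp (by simpa using h4)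
  let P : Sylow 2 M := Sylow.ofCard E (by rw [hfac, hE]; norm_num)
  obtain ⟨P', hP'⟩ := hE'.exists_le_sylow
  obtain ⟨m, hm⟩ := MulAction.exists_smul_eq M P' P
  refine ⟨m, fun g hg => ?_⟩
  have h1 : MulAut.conj m • g ∈ MulAut.conj m • ((P' : Subgroup M)) :=
    Subgroup.smul_mem_pointwise_smul g _ _ (hP' hg)
  have h2 : MulAut.conj m • ((P' : Subgroup M)) = (P : Subgroup M) := by
    rw [← hm, Sylow.coe_subgroup_smul]
  rw [h2] at h1
  exact h1

end Cfsg.Agent.Lib.JT.LocFixAb
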