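import Mathlib

/-! # Block L, L6, end of `rho_fix` (helper69): Burnside, `K = K' Q`, then the dihedral formula and the congruence.
Abstract.  `K` odd, `a ∈ K` of prime order `l`, `j` an involution inverting `a`, normalizing `K`; `Q` a Sylow `l`-subgroup of `K` with
`N_K(Q) ≤ C_K(Q)`.  `τ = |C_K(j)|` prime to `l`, `|C_K(a) ∩ C_K(j)| = 3`, `l ≠ 3`.  Then `l ∣ τ² - 9`.
The dihedral formula (`LocFix.dihedral_formula`) is taken as a hypothesis `hdih` to keep this file free of imports.  -/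

set_option autoImplicit false

namespace Cfsg.Agent.Lib.JT.LocFixEnd

open Subgroup

variable {X : Type*} [Group X] [Finite X]

theorem end_lemma (K : Subgroup X) (hK : Odd (Nat.card K)) (l : ℕ) [hlf : Fact l.Prime] (hl2 : l ≠ 2) (hl3 : l ≠ 3)
    (a j : X) (ha : orderOf a = l) (haK : a ∈ K) (hj : orderOf j = 2) (hja : j * a * j⁻¹ = a⁻¹)
    (hKj : ∀ k ∈ K, j * k * j⁻¹ ∈ K)
    (hdih : ∀ K' : Subgroup X, Odd (Nat.card K') → ¬ l ∣ Nat.card K' → (∀ k ∈ K', a * k * a⁻¹ ∈ K') →
      (∀ k ∈ K', j * k * j⁻¹ ∈ K') →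
      Nat.card K' * (Nat.card (K' ⊓ centralizer ({a} : Set X) ⊓ centralizer ({j} : Set X) : Subgroup X)) ^ 2 =
        Nat.card (K' ⊓ centralizer ({a} : Set X) : Subgroup X) *
          (Nat.card (K' ⊓ centralizer ({j} : Set X) : Subgroup X)) ^ 2)
    (Q : Sylow l K) (hcent : normalizer ((Q : Subgroup K) : Set K) ≤ centralizer ((Q : Subgroup K) : Set K))
    (τ : ℕ) (hτ : Nat.card (K ⊓ centralizer ({j} : Set X) : Subgroup X) = τ) (hlτ : ¬ l ∣ τ)
    (h3 : Nat.card (K ⊓ centralizer ({a} : Set X) ⊓ centralizer ({j} : Set X) : Subgroup X) = 3) :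
    (l : ℤ) ∣ (τ : ℤ) ^ 2 - 9 := by
  classical
  have hl : l.Prime := hlf.out
  haveI : Fintype X := Fintype.ofFinite X
  -- the normal complement
  have hc := MonoidHom.ker_transferSylow_isComplement' Q hcent
  set N : Subgroup K := (MonoidHom.transferSylow Q hcent).ker with hN
  have hNn : N.Normal := MonoidHom.normal_ker _
  have hcard : Nat.card N * Nat.card Q = Nat.card K := hc.card_mul_card
  have hidx : (Q : Subgroup K).index = Nat.card N := by
    have h := (Q : Subgroup K).card_mul_index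
    have hQ : 0 < Nat.card (Q : Subgroup K) := Nat.card_pos
    have h2 : Nat.card (Q : Subgroup K) * (Q : Subgroup K).index = Nat.card (Q : Subgroup K) * Nat.card N := by
      rw [h, ← hcard, mul_comm]
    exact Nat.eq_of_mul_eq_mul_left hQ h2
  have hlN : ¬ l ∣ Nat.card N := by
    rw [← hidx]
    exact Q.not_dvd_index
  set K' : Subgroup X := N.map K.subtype with hK'
  have hcardK' : Nat.card K' = Nat.card N := by
    rw [hK']
    exact Nat.card_congr (Subgroup.equivMapOfInjective N K.subtype K.subtype_injective).toEquiv.symm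
  have hlK' : ¬ l ∣ Nat.card K' := by rwa [hcardK']
  have hK'odd : Odd (Nat.card K') := by
    have hdvd : Nat.card K' ∣ Nat.card K := by
      rw [hcardK', ← hcard]
      exact dvd_mul_right _ _
    exact Odd.of_dvd_nat hK hdvd
  -- membership
  have hmem : ∀ g : X, g ∈ K' ↔ g ∈ K ∧ ¬ l ∣ orderOf g := by
    intro g
    constructor
    · rintro h
      obtain ⟨k, hk, rfl⟩ := (Subgroup.mem_map).mp h
      refine ⟨k.2, fun hd => hlK' ?_⟩
      have h1 : orderOf (k : X) = orderOf k := Subgroup.orderOf_coe k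
      have h2 : orderOf (⟨k, hk⟩ : N) = orderOf k := Subgroup.orderOf_mk k hk
      have h3' : orderOf (⟨k, hk⟩ : N) ∣ Nat.card N := orderOf_dvd_natCard _
      rw [hcardK']
      have h4 : l ∣ orderOf k := by
        have : K.subtype k = (k : X) := rfl
        rw [this, h1] at hd
        exact hd
      rw [← h2] at h4
      exact h4.trans h3'
    · rintro ⟨hgK, hgo⟩
      refine (Subgroup.mem_map).mpr ⟨⟨g, hgK⟩, ?_, rfl⟩
      -- the image in the quotient is an `l`-element
      have hq : IsPGroup l (Q : Subgroup K) := Q.isPGroup'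
      set φ := MonoidHom.transferSylow Q hcent with hφ
      change φ ⟨g, hgK⟩ = 1
      obtain ⟨n, hn⟩ := hq.exists_card_eq
      obtain ⟨m, hm⟩ := (hq (φ ⟨g, hgK⟩))
      have hpow : (φ ⟨g, hgK⟩) ^ (orderOf g) = 1 := by
        rw [← map_pow]
        have h5 : (⟨g, hgK⟩ : K) ^ orderOf g = 1 := by
          apply Subtype.ext
          simp [pow_orderOf_eq_one]
        rw [h5, map_one]
      have hcop : Nat.Coprime (l ^ m) (orderOf g) := (Nat.Coprime.pow_left m ((Nat.Prime.coprime_iff_not_dvd hl).mpr hgo))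
      have h6 := orderOf_dvd_of_pow_eq_one hpow
      have h7 := orderOf_dvd_of_pow_eq_one hm
      have h8 : orderOf (φ ⟨g, hgK⟩) = 1 := by
        have := Nat.dvd_gcd h7 h6
        rw [hcop.gcd_eq_one] at this
        exact Nat.dvd_one.mp this
      exact orderOf_eq_one_iff.mp h8
  -- invariance
  have hKa' : ∀ k ∈ K', a * k * a⁻¹ ∈ K' := by
    intro k hk
    obtain ⟨h1, h2⟩ := (hmem k).mp hk
    refine (hmem _).mpr ⟨K.mul_mem (K.mul_mem haK h1) (K.inv_mem haK), ?_⟩
    have h3' : orderOf (a * k * a⁻¹) = orderOf k := by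
      rw [← MulAut.conj_apply]
      exact MulEquiv.orderOf_eq _ _
    rw [h3']
    exact h2
  have hKj' : ∀ k ∈ K', j * k * j⁻¹ ∈ K' := by
    intro k hk
    obtain ⟨h1, h2⟩ := (hmem k).mp hk
    refine (hmem _).mpr ⟨hKj k h1, ?_⟩
    have h3' : orderOf (j * k * j⁻¹) = orderOf k := by
      rw [← MulAut.conj_apply]
      exact MulEquiv.orderOf_eq _ _
    rw [h3']
    exact h2
  have hd := hdih K' hK'odd hlK' hKa' hKj'
  -- the centralizers
  have hCj : (K' ⊓ centralizer ({j} : Set X) : Subgroup X) = K ⊓ centralizer ({j} : Set X) := by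
    apply le_antisymm
    · intro g hg
      obtain ⟨h1, h2⟩ := Subgroup.mem_inf.mp hg
      exact Subgroup.mem_inf.mpr ⟨((hmem g).mp h1).1, h2⟩
    · intro g hg
      obtain ⟨h1, h2⟩ := Subgroup.mem_inf.mp hg
      refine Subgroup.mem_inf.mpr ⟨(hmem g).mpr ⟨h1, fun hd => hlτ ?_⟩, h2⟩
      have h4 := orderOf_dvd_natCard (⟨g, hg⟩ : (K ⊓ centralizer ({j} : Set X) : Subgroup X))
      rw [Subgroup.orderOf_mk, hτ] at h4
      exact hd.trans h4
  have hCaj : (K' ⊓ centralizer ({a} : Set X) ⊓ centralizer ({j} : Set X) : Subgroup X) =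
      K ⊓ centralizer ({a} : Set X) ⊓ centralizer ({j} : Set X) := by
    apply le_antisymm
    · intro g hg
      obtain ⟨h0, h5⟩ := Subgroup.mem_inf.mp hg
      obtain ⟨h1, h2⟩ := Subgroup.mem_inf.mp h0
      exact Subgroup.mem_inf.mpr ⟨Subgroup.mem_inf.mpr ⟨((hmem g).mp h1).1, h2⟩, h5⟩
    · intro g hg
      obtain ⟨h0, h5⟩ := Subgroup.mem_inf.mp hg
      obtain ⟨h1, h2⟩ := Subgroup.mem_inf.mp h0
      refine Subgroup.mem_inf.mpr ⟨Subgroup.mem_inf.mpr ⟨(hmem g).mpr ⟨h1, fun hd => ?_⟩, h2⟩, h5⟩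
      have h4 := orderOf_dvd_natCard (⟨g, hg⟩ : (K ⊓ centralizer ({a} : Set X) ⊓ centralizer ({j} : Set X) : Subgroup X))
      rw [Subgroup.orderOf_mk, h3] at h4
      have h6 := hd.trans h4
      exact hl3 ((Nat.prime_dvd_prime_iff_eq hl Nat.prime_three).mp h6)
  rw [hCj, hCaj, h3, hτ] at hd
  -- the congruence
  set c := Nat.card (K' ⊓ centralizer ({a} : Set X) : Subgroup X) with hc'
  letI : Fintype K' := Fintype.ofFinite _
  let f : Function.End K' := fun k => ⟨a * k * a⁻¹, hKa' k k.2⟩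
  have hapow : ∀ (n : ℕ) (k : K'), (((f ^ n) k : K') : X) = a ^ n * k * (a ^ n)⁻¹ := by
    intro n k
    induction n with
    | zero =>
      change ((k : K') : X) = a ^ 0 * k * (a ^ 0)⁻¹
      simp
    | succ n ih =>
      rw [pow_succ']
      change a * (((f ^ n) k : K') : X) * a⁻¹ = _
      rw [ih]
      group
  have hf : f ^ l ^ 1 = 1 := by
    funext k
    apply Subtype.ext
    rw [pow_one, hapow]
    have : a ^ l = 1 := by rw [← ha]; exact pow_orderOf_eq_one a
    change _ = ((k : K') : X)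
    rw [this]
    simp
  have hmod := Equiv.Perm.card_fixedPoints_modEq hf
  have hfix : Fintype.card (Function.fixedPoints f) = c := by
    rw [hc', ← Nat.card_eq_fintype_card]
    refine Nat.card_congr ⟨fun k => ⟨k.1.1, Subgroup.mem_inf.mpr ⟨k.1.2, ?_⟩⟩,
      fun k => ⟨⟨k.1, (Subgroup.mem_inf.mp k.2).1⟩, ?_⟩, fun k => rfl, fun k => rfl⟩
    · have h1 : a * k.1.1 * a⁻¹ = k.1.1 := congrArg Subtype.val k.2
      rw [Subgroup.mem_centralizer_singleton_iff]
      exact mul_inv_eq_iff_eq_mul.mp h1 |>.symm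
    · apply Subtype.ext
      have h1 := Subgroup.mem_centralizer_singleton_iff.mp (Subgroup.mem_inf.mp k.2).2
      change a * k.1 * a⁻¹ = k.1
      rw [← h1]
      simp
  rw [hfix, ← Nat.card_eq_fintype_card] at hmod
  have hmodz : (l : ℤ) ∣ (Nat.card K' : ℤ) - c := by
    exact (Nat.modEq_iff_dvd.mp hmod.symm)
  have hcdvd : c ∣ Nat.card K' := by
    rw [hc']
    exact Subgroup.card_dvd_of_le inf_le_left
  have hlc : ¬ l ∣ c := fun h => hlK' (h.trans hcdvd)
  have hz : (Nat.card K' : ℤ) * 9 = c * (τ : ℤ) ^ 2 := by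
    have h9 : Nat.card K' * 3 ^ 2 = c * τ ^ 2 := hd
    have h10 : Nat.card K' * 9 = c * τ ^ 2 := h9
    exact_mod_cast h10
  have hkey : (l : ℤ) ∣ (c : ℤ) * ((τ : ℤ) ^ 2 - 9) := by
    have e : (c : ℤ) * ((τ : ℤ) ^ 2 - 9) = 9 * ((Nat.card K' : ℤ) - c) := by linear_combination -hz
    rw [e]
    exact Dvd.dvd.mul_left hmodz 9
  have hlp : Prime (l : ℤ) := Nat.prime_iff_prime_int.mp hl
  rcases hlp.dvd_or_dvd hkey with h | h
  · exact absurd (Int.natCast_dvd_natCast.mp h) hlc
  · exact h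

end Cfsg.Agent.Lib.JT.LocFixEnd
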