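import Mathlib

/-! # Block L, `3 ∤ |A|`: the elementary abelian core.
`order4_false`: in a group all of whose 2-elements are involutions, no element has a square inverting an element `u`, `u² ≠ 1`.
`transvection_pair`: two transvections with distinct fixed lines on `E9` generate `SL₂(3)`, so contradict `order4_false`.
`e9_false`: the case `|A₃| = 3` of `three_not_dvd`.
-/
set_option autoImplicit false
namespace Cfsg.Agent.Lib.JT
namespace LocThreeE9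
universe u
variable {G : Type u} [Group G]

theorem order4_false [Finite G] (hexp : ∀ g : G, (∃ k : ℕ, g ^ (2 ^ k) = 1) → g ^ 2 = 1) {u g : G}
    (h : g ^ 2 * u * (g ^ 2)⁻¹ = u⁻¹) (hu : u ^ 2 ≠ 1) : False := by
  have hpos : 0 < orderOf g := orderOf_pos g
  obtain ⟨k, n, hn, hkn⟩ := Nat.exists_eq_two_pow_mul_odd hpos.ne'
  have h1 : (g ^ n) ^ (2 ^ k) = 1 := by
    rw [← pow_mul, mul_comm, ← hkn, pow_orderOf_eq_one]
  have h2 : (g ^ n) ^ 2 = 1 := hexp _ ⟨k, h1⟩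
  have h3 : (g ^ 2) ^ n = 1 := by rw [← pow_mul, mul_comm, pow_mul, h2]
  have h4 : ∀ m : ℕ, (g ^ 2) ^ m * u * ((g ^ 2) ^ m)⁻¹ = u ^ ((-1 : ℤ) ^ m) := by
    intro m
    induction m with
    | zero => simp
    | succ m ih =>
      rw [pow_succ, show (g ^ 2) ^ m * g ^ 2 * u * ((g ^ 2) ^ m * g ^ 2)⁻¹ =
        (g ^ 2) ^ m * (g ^ 2 * u * (g ^ 2)⁻¹) * ((g ^ 2) ^ m)⁻¹ by group, h]
      rw [show (g ^ 2) ^ m * u⁻¹ * ((g ^ 2) ^ m)⁻¹ = ((g ^ 2) ^ m * u * ((g ^ 2) ^ m)⁻¹)⁻¹ by group, ih]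
      rw [pow_succ (-1 : ℤ) m]
      simp [zpow_neg]
  have h5 := h4 n
  rw [h3, hn.neg_one_pow] at h5
  have h6 : u = u⁻¹ := by simpa using h5
  exact hu (by rw [pow_two]; nth_rewrite 2 [h6]; exact mul_inv_cancel u)

theorem tp_core [Finite G] (hexp : ∀ g : G, (∃ k : ℕ, g ^ (2 ^ k) = 1) → g ^ 2 = 1) {b c x y : G}
    (hbc : b * c = c * b) (hb3 : b ^ 3 = 1) (hb : b ≠ 1)
    (hx1 : x * b * x⁻¹ = b) (hx2 : x * c * x⁻¹ = c * b)
    (hy1 : y * c * y⁻¹ = c) (hy2 : y * b * y⁻¹ = b * c) : False := by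
  have hbb : b * b = b⁻¹ := by
    rw [eq_inv_iff_mul_eq_one]
    simpa [pow_succ] using hb3
  have hg1 : (x * y) * b * (x * y)⁻¹ = b⁻¹ * c := by
    calc (x * y) * b * (x * y)⁻¹ = x * (y * b * y⁻¹) * x⁻¹ := by group
      _ = x * (b * c) * x⁻¹ := by rw [hy2]
      _ = (x * b * x⁻¹) * (x * c * x⁻¹) := by group
      _ = b * (c * b) := by rw [hx1, hx2]
      _ = (b * b) * c := by rw [← hbc, mul_assoc]
      _ = b⁻¹ * c := by rw [hbb]
  have hg2 : (x * y) * c * (x * y)⁻¹ = c * b := by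
    calc (x * y) * c * (x * y)⁻¹ = x * (y * c * y⁻¹) * x⁻¹ := by group
      _ = x * c * x⁻¹ := by rw [hy1]
      _ = c * b := hx2
  have hg3 : (x * y) ^ 2 * b * ((x * y) ^ 2)⁻¹ = b⁻¹ := by
    calc (x * y) ^ 2 * b * ((x * y) ^ 2)⁻¹ = (x * y) * ((x * y) * b * (x * y)⁻¹) * (x * y)⁻¹ := by
          rw [pow_two, mul_inv_rev]; simp only [mul_assoc]
      _ = (x * y) * (b⁻¹ * c) * (x * y)⁻¹ := by rw [hg1]
      _ = ((x * y) * b * (x * y)⁻¹)⁻¹ * ((x * y) * c * (x * y)⁻¹) := by group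
      _ = (b⁻¹ * c)⁻¹ * (c * b) := by rw [hg1, hg2]
      _ = c⁻¹ * (b * c) * b := by group
      _ = c⁻¹ * (c * b) * b := by rw [hbc]
      _ = b * b := by group
      _ = b⁻¹ := hbb
  refine order4_false hexp hg3 ?_
  intro h2
  apply hb
  have : b ^ 3 = b ^ 2 * b := pow_succ b 2
  rw [hb3, h2, one_mul] at this
  exact this.symm

/-- Two transvections with distinct fixed lines. -/
theorem transvection_pair [Finite G] (hexp : ∀ g : G, (∃ k : ℕ, g ^ (2 ^ k) = 1) → g ^ 2 = 1) {b c x y : G}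
    (hbc : b * c = c * b) (hb3 : b ^ 3 = 1) (hb : b ≠ 1)
    (hx1 : x * b * x⁻¹ = b) (hx2 : x * c * x⁻¹ = c * b ∨ x * c * x⁻¹ = c * b⁻¹)
    (hy1 : y * c * y⁻¹ = c) (hy2 : y * b * y⁻¹ = b * c ∨ y * b * y⁻¹ = b * c⁻¹) : False := by
  have hxinv : x * c * x⁻¹ = c * b⁻¹ → x⁻¹ * c * x = c * b := by
    intro h
    have hb' : x⁻¹ * b * x = b := by
      calc x⁻¹ * b * x = x⁻¹ * (x * b * x⁻¹) * x := by rw [hx1]
        _ = b := by group
    calc x⁻¹ * c * x = x⁻¹ * (c * b⁻¹ * b) * x := by group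
      _ = x⁻¹ * (x * c * x⁻¹ * b) * x := by rw [h]
      _ = c * (x⁻¹ * b * x) := by group
      _ = c * b := by rw [hb']
  have hyinv : y * b * y⁻¹ = b * c⁻¹ → y⁻¹ * b * y = b * c := by
    intro h
    have hc' : y⁻¹ * c * y = c := by
      calc y⁻¹ * c * y = y⁻¹ * (y * c * y⁻¹) * y := by rw [hy1]
        _ = c := by group
    calc y⁻¹ * b * y = y⁻¹ * (b * c⁻¹ * c) * y := by group
      _ = y⁻¹ * (y * b * y⁻¹ * c) * y := by rw [h]
      _ = b * (y⁻¹ * c * y) := by group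
      _ = b * c := by rw [hc']
  have hx1' : x⁻¹ * b * x⁻¹⁻¹ = b := by
    calc x⁻¹ * b * x⁻¹⁻¹ = x⁻¹ * (x * b * x⁻¹) * x := by rw [hx1, inv_inv]
      _ = b := by group
  have hy1' : y⁻¹ * c * y⁻¹⁻¹ = c := by
    calc y⁻¹ * c * y⁻¹⁻¹ = y⁻¹ * (y * c * y⁻¹) * y := by rw [hy1, inv_inv]
      _ = c := by group
  rcases hx2 with hx2 | hx2 <;> rcases hy2 with hy2 | hy2
  · exact tp_core hexp hbc hb3 hb hx1 hx2 hy1 hy2
  · exact tp_core hexp hbc hb3 hb hx1 hx2 hy1' (by rw [inv_inv]; exact hyinv hy2)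
  · exact tp_core hexp hbc hb3 hb hx1' (by rw [inv_inv]; exact hxinv hx2) hy1 hy2
  · exact tp_core hexp hbc hb3 hb hx1' (by rw [inv_inv]; exact hxinv hx2) hy1'
      (by rw [inv_inv]; exact hyinv hy2)

/-! ### Coordinates on `E9` -/

/-- The coordinates. -/
def e (a ρ : G) (u v : ZMod 3) : G := a ^ u.val * ρ ^ v.val

theorem pow_val_add {a : G} (ha : a ^ 3 = 1) (u v : ZMod 3) : a ^ (u + v).val = a ^ u.val * a ^ v.val := by
  rw [ZMod.val_add, ← pow_add]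
  exact (pow_eq_pow_mod _ ha).symm

section coord
variable {a ρ : G} (ha : a ^ 3 = 1) (hρ : ρ ^ 3 = 1) (hc : a * ρ = ρ * a)
include ha hρ hc

theorem e_add (u v u' v' : ZMod 3) : e a ρ (u + u') (v + v') = e a ρ u v * e a ρ u' v' := by
  unfold e
  rw [pow_val_add ha, pow_val_add hρ]
  have h : Commute (ρ ^ v.val) (a ^ u'.val) := ((show Commute a ρ from hc).pow_pow _ _).symm
  rw [mul_assoc, mul_assoc]
  congr 1
  rw [← mul_assoc, ← mul_assoc, h.eq]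

omit ha hρ hc in
theorem e_zero : e a ρ 0 0 = 1 := by simp [e]

omit ha hρ hc in
theorem e_one_zero : e a ρ 1 0 = a := by
  have : (1 : ZMod 3).val = 1 := rfl
  simp [e, this]

omit ha hρ hc in
theorem e_zero_one : e a ρ 0 1 = ρ := by
  have : (1 : ZMod 3).val = 1 := rfl
  simp [e, this]

theorem e_pow (u v : ZMod 3) (n : ℕ) : e a ρ u v ^ n = e a ρ (n • u) (n • v) := by
  induction n with
  | zero => simp [e_zero]
  | succ n ih => rw [pow_succ, ih, ← e_add ha hρ hc, succ_nsmul, succ_nsmul]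

theorem e_comm (u v u' v' : ZMod 3) : e a ρ u v * e a ρ u' v' = e a ρ u' v' * e a ρ u v := by
  rw [← e_add ha hρ hc, ← e_add ha hρ hc, add_comm u, add_comm v]

theorem e_inv (u v : ZMod 3) : (e a ρ u v)⁻¹ = e a ρ (-u) (-v) := by
  rw [inv_eq_iff_mul_eq_one, ← e_add ha hρ hc]
  simp [e_zero]

/-- The subgroup `E9`. -/
def T : Subgroup G where
  carrier := {w | ∃ u v, w = e a ρ u v}
  mul_mem' := by
    rintro _ _ ⟨u, v, rfl⟩ ⟨u', v', rfl⟩
    exact ⟨u + u', v + v', (e_add ha hρ hc _ _ _ _).symm⟩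
  one_mem' := ⟨0, 0, e_zero.symm⟩
  inv_mem' := by
    rintro _ ⟨u, v, rfl⟩
    exact ⟨-u, -v, e_inv ha hρ hc _ _⟩

theorem mem_T {w : G} : w ∈ T ha hρ hc ↔ ∃ u v, w = e a ρ u v := Iff.rfl

theorem e_mem (u v : ZMod 3) : e a ρ u v ∈ T ha hρ hc := ⟨u, v, rfl⟩

end coord

section act
variable {a ρ : G} (ha : a ^ 3 = 1) (hρ : ρ ^ 3 = 1) (hc : a * ρ = ρ * a)

abbrev Mat := Matrix (Fin 2) (Fin 2) (ZMod 3)

/-- The matrix of the action. -/
def Acts (a ρ x : G) (m : Mat) : Prop :=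
  x * a * x⁻¹ = e a ρ (m 0 0) (m 1 0) ∧ x * ρ * x⁻¹ = e a ρ (m 0 1) (m 1 1)

include ha hρ hc

theorem Acts.apply {x : G} {m : Mat} (h : Acts a ρ x m) (u v : ZMod 3) :
    x * e a ρ u v * x⁻¹ = e a ρ (m 0 0 * u + m 0 1 * v) (m 1 0 * u + m 1 1 * v) := by
  have h1 : x * e a ρ u v * x⁻¹ = (x * a * x⁻¹) ^ u.val * (x * ρ * x⁻¹) ^ v.val := by
    unfold e
    rw [conj_pow, conj_pow]
    group
  rw [h1, h.1, h.2, e_pow ha hρ hc, e_pow ha hρ hc, ← e_add ha hρ hc]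
  simp only [nsmul_eq_mul, ZMod.natCast_zmod_val]
  congr 1 <;> ring

theorem Acts.mul {x y : G} {m m' : Mat} (h : Acts a ρ x m) (h' : Acts a ρ y m') : Acts a ρ (x * y) (m * m') := by
  constructor
  · calc (x * y) * a * (x * y)⁻¹ = x * (y * a * y⁻¹) * x⁻¹ := by group
      _ = _ := by
        rw [h'.1, h.apply ha hρ hc]
        simp [Matrix.mul_apply, Fin.sum_univ_two]
  · calc (x * y) * ρ * (x * y)⁻¹ = x * (y * ρ * y⁻¹) * x⁻¹ := by group
      _ = _ := by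
        rw [h'.2, h.apply ha hρ hc]
        simp [Matrix.mul_apply, Fin.sum_univ_two]

omit ha hρ hc in
theorem Acts.one : Acts a ρ 1 1 := by
  constructor
  · simp [e_one_zero]
  · simp [e_zero_one]

theorem Acts.pow {x : G} {m : Mat} (h : Acts a ρ x m) (n : ℕ) : Acts a ρ (x ^ n) (m ^ n) := by
  induction n with
  | zero => simpa using Acts.one
  | succ n ih => rw [pow_succ, pow_succ]; exact ih.mul ha hρ hc h

end act

section inj
variable {a ρ : G} (ha : orderOf a = 3) (hρ : orderOf ρ = 3) (hc : a * ρ = ρ * a)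
  (hind : ρ ∉ Subgroup.zpowers a)

include ha hρ hc hind

theorem e_eq_one {u v : ZMod 3} (h : e a ρ u v = 1) : u = 0 ∧ v = 0 := by
  have ha3 : a ^ 3 = 1 := ha ▸ pow_orderOf_eq_one a
  have hρ3 : ρ ^ 3 = 1 := hρ ▸ pow_orderOf_eq_one ρ
  have hv : v = 0 := by
    by_contra hv
    have h1 : ρ ^ v.val = (a ^ u.val)⁻¹ := by
      have hcm : Commute (a ^ u.val) (ρ ^ v.val) := (show Commute a ρ from hc).pow_pow _ _
      rw [eq_inv_iff_mul_eq_one, ← hcm.eq]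
      exact h
    have h2 : ρ ^ v.val ∈ Subgroup.zpowers a := by
      rw [h1]
      exact Subgroup.inv_mem _ (Subgroup.pow_mem _ (Subgroup.mem_zpowers a) _)
    apply hind
    have hv' : ∀ v : ZMod 3, v ≠ 0 → v = 1 ∨ v = 2 := by decide
    rcases hv' v hv with rfl | rfl
    · have : (1 : ZMod 3).val = 1 := rfl
      rwa [this, pow_one] at h2
    · have : (2 : ZMod 3).val = 2 := rfl
      rw [this] at h2
      have h3 : ρ = (ρ ^ 2) ^ 2 := by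
        rw [← pow_mul]
        have : ρ ^ 4 = ρ ^ 3 * ρ := pow_succ ρ 3
        rw [show 2 * 2 = 4 from rfl, this, hρ3, one_mul]
      rw [h3]
      exact Subgroup.pow_mem _ h2 _
  subst hv
  refine ⟨?_, rfl⟩
  have h1 : a ^ u.val = 1 := by simpa [e] using h
  have h2 : orderOf a ∣ u.val := orderOf_dvd_of_pow_eq_one h1
  rw [ha] at h2
  have h3 : u.val < 3 := ZMod.val_lt u
  have h4 : u.val = 0 := by omega
  exact (ZMod.val_eq_zero u).1 h4

theorem e_inj {u v u' v' : ZMod 3} (h : e a ρ u v = e a ρ u' v') : u = u' ∧ v = v' := by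
  have ha3 : a ^ 3 = 1 := ha ▸ pow_orderOf_eq_one a
  have hρ3 : ρ ^ 3 = 1 := hρ ▸ pow_orderOf_eq_one ρ
  have h1 : e a ρ (u - u') (v - v') = 1 := by
    rw [sub_eq_add_neg, sub_eq_add_neg, e_add ha3 hρ3 hc, ← e_inv ha3 hρ3 hc, h]
    simp
  have h2 := e_eq_one ha hρ hc hind h1
  exact ⟨sub_eq_zero.1 h2.1, sub_eq_zero.1 h2.2⟩

theorem Acts.uniq {x : G} {m m' : Mat} (h : Acts a ρ x m) (h' : Acts a ρ x m') : m = m' := by
  have h1 := e_inj ha hρ hc hind (h.1.symm.trans h'.1)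
  have h2 := e_inj ha hρ hc hind (h.2.symm.trans h'.2)
  ext i j
  fin_cases i <;> fin_cases j
  · exact h1.1
  · exact h2.1
  · exact h1.2
  · exact h2.2

theorem card_T : Nat.card (T (ha ▸ pow_orderOf_eq_one a) (hρ ▸ pow_orderOf_eq_one ρ) hc) = 9 := by
  have ha3 : a ^ 3 = 1 := ha ▸ pow_orderOf_eq_one a
  have hρ3 : ρ ^ 3 = 1 := hρ ▸ pow_orderOf_eq_one ρ
  let f : ZMod 3 × ZMod 3 → T ha3 hρ3 hc := fun w => ⟨e a ρ w.1 w.2, e_mem ha3 hρ3 hc _ _⟩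
  have hf : Function.Bijective f := by
    constructor
    · rintro ⟨u, v⟩ ⟨u', v'⟩ h
      have := e_inj ha hρ hc hind (congrArg Subtype.val h)
      exact Prod.ext this.1 this.2
    · rintro ⟨_, u, v, rfl⟩
      exact ⟨(u, v), rfl⟩
  rw [← Nat.card_congr (Equiv.ofBijective f hf), Nat.card_prod, Nat.card_zmod]

end inj

theorem mat_cube (m : Mat) (h : (m ^ 3) ^ 3 = 1) : m ^ 3 = 1 := by
  revert m
  decide +kernel

theorem mat_pow : ∀ (k : ℕ) (m : Mat), m ^ (3 ^ k) = 1 → m ^ 3 = 1 := by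
  intro k
  induction k with
  | zero =>
    intro m h
    have : m = 1 := by simpa using h
    rw [this, one_pow]
  | succ k ih =>
    intro m h
    apply mat_cube
    apply ih
    rw [← pow_mul, ← pow_succ']
    exact h

theorem mat_fix : ∀ m : Mat, m ^ 3 = 1 → m ≠ 1 → (m 0 0 = 1 ∧ m 1 0 = 0) ∨ (m 0 1 = 0 ∧ m 1 1 = 1) ∨
    ∃ ε : ZMod 3, ε ≠ 0 ∧ m 0 0 * 1 + m 0 1 * ε = 1 ∧ m 1 0 * 1 + m 1 1 * ε = ε ∧
      ((m 0 0 * 2 + m 0 1 * ε = 2 + 1 ∧ m 1 0 * 2 + m 1 1 * ε = ε + ε) ∨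
       (m 0 0 * 2 + m 0 1 * ε = 2 + -1 ∧ m 1 0 * 2 + m 1 1 * ε = ε + -ε)) := by
  decide +kernel

theorem mat_final : ∀ p q : ZMod 3, q ≠ 0 →
    ((!![p, 1; q, 0] : Mat) ^ 2 = !![2, 0; 0, 2] ∨ (((!![p, 1; q, 0] : Mat) ^ 2) ^ 3 = 1 ∧ (!![p, 1; q, 0] : Mat) ^ 2 ≠ 1)) ∨
    (((!![p, 1; q, 0] : Mat) * !![2, 0; 0, 1]) ^ 2 = !![2, 0; 0, 2] ∨
      ((((!![p, 1; q, 0] : Mat) * !![2, 0; 0, 1]) ^ 2) ^ 3 = 1 ∧ ((!![p, 1; q, 0] : Mat) * !![2, 0; 0, 1]) ^ 2 ≠ 1)) := by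
  decide +kernel

theorem mem_normalizer_of_conj_le [Finite G] (T : Subgroup G) (x : G) (h : ∀ w ∈ T, x * w * x⁻¹ ∈ T) :
    x ∈ Subgroup.normalizer (T : Set G) := by
  rw [Subgroup.mem_normalizer_iff]
  intro w
  refine ⟨h w, fun hw => ?_⟩
  have hpow : ∀ n : ℕ, ∀ w ∈ T, x ^ n * w * (x ^ n)⁻¹ ∈ T := by
    intro n
    induction n with
    | zero => intro w hw; simpa using hw
    | succ n ih =>
      intro w hw
      have := ih _ (h w hw)
      rw [pow_succ]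
      convert this using 1
      group
  have ho : 0 < orderOf x := orderOf_pos x
  have h1 : x ^ (orderOf x - 1) * x = 1 := by
    rw [← pow_succ, Nat.sub_add_cancel ho, pow_orderOf_eq_one]
  have h2 := hpow (orderOf x - 1) _ hw
  have h3 : x ^ (orderOf x - 1) * (x * w * x⁻¹) * (x ^ (orderOf x - 1))⁻¹ = w := by
    have h4 : (x ^ (orderOf x - 1))⁻¹ = x := (eq_inv_of_mul_eq_one_right h1).symm
    rw [h4]
    calc x ^ (orderOf x - 1) * (x * w * x⁻¹) * x = (x ^ (orderOf x - 1) * x) * w * (x⁻¹ * x) := by group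
      _ = w := by rw [h1]; simp
  rwa [h3] at h2

open scoped Pointwise in
theorem conj_of_card_nine [Finite G] (M X Y : Subgroup G) (hM : ¬ 27 ∣ Nat.card M) (hX : X ≤ M) (hY : Y ≤ M)
    (cX : Nat.card X = 9) (cY : Nat.card Y = 9) : ∃ m ∈ M, ∀ w ∈ Y, m * w * m⁻¹ ∈ X := by
  have : Fact (Nat.Prime 3) := ⟨Nat.prime_three⟩
  have key : ∀ Z : Subgroup G, Z ≤ M → Nat.card Z = 9 → ∃ Q : Sylow 3 M, (Q : Subgroup M) = Z.subgroupOf M := by
    intro Z hZ cZ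
    have cZ' : Nat.card (Z.subgroupOf M) = 9 := by
      rw [Nat.card_congr (Subgroup.subgroupOfEquivOfLe hZ).toEquiv, cZ]
    have hp : IsPGroup 3 (Z.subgroupOf M) := IsPGroup.of_card (n := 2) (by rw [cZ']; norm_num)
    obtain ⟨Q, hQ⟩ := hp.exists_le_sylow
    refine ⟨Q, ?_⟩
    obtain ⟨n, hn⟩ := IsPGroup.iff_card.1 Q.isPGroup'
    have h1 : Nat.card (Z.subgroupOf M) ∣ Nat.card Q := Subgroup.card_dvd_of_le hQ
    have h2 : Nat.card Q ∣ Nat.card M := Subgroup.card_subgroup_dvd_card _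
    have hn2 : n < 3 := by
      by_contra hn3
      apply hM
      have : 27 ∣ 3 ^ n := by
        have : (3 : ℕ) ^ 3 ∣ 3 ^ n := pow_dvd_pow 3 (by omega)
        simpa using this
      exact this.trans (hn ▸ h2)
    have hn3 : Nat.card Q ≤ 9 := by
      rw [hn]
      have : (3 : ℕ) ^ n ≤ 3 ^ 2 := Nat.pow_le_pow_right (by norm_num) (by omega)
      simpa using this
    exact (Subgroup.eq_of_le_of_card_ge hQ (by rw [cZ']; exact hn3)).symm
  obtain ⟨Q₁, hQ₁⟩ := key X hX cX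
  obtain ⟨Q₂, hQ₂⟩ := key Y hY cY
  obtain ⟨m, hm⟩ := MulAction.exists_smul_eq M Q₂ Q₁
  refine ⟨m, m.2, fun w hw => ?_⟩
  have hw' : (⟨w, hY hw⟩ : M) ∈ (Q₂ : Subgroup M) := by
    rw [hQ₂]; exact hw
  have h1 : m * (⟨w, hY hw⟩ : M) * m⁻¹ ∈ (Q₁ : Subgroup M) := by
    rw [← hm, Sylow.coe_subgroup_smul]
    exact Subgroup.smul_mem_pointwise_smul _ _ _ hw'
  rw [hQ₁] at h1
  exact h1

section main
variable [Finite G] {a ρ j : G}

theorem acts_exists (ha : a ^ 3 = 1) (hρ : ρ ^ 3 = 1) (hc : a * ρ = ρ * a) {y : G} (hy : y ∈ Subgroup.normalizer (T ha hρ hc : Set G)) :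
    ∃ m : Mat, Acts a ρ y m := by
  have h1 : a ∈ T ha hρ hc := ⟨1, 0, e_one_zero.symm⟩
  have h2 : ρ ∈ T ha hρ hc := ⟨0, 1, e_zero_one.symm⟩
  obtain ⟨p, q, hpq⟩ := (Subgroup.mem_normalizer_iff.1 hy a).1 h1
  obtain ⟨r, s, hrs⟩ := (Subgroup.mem_normalizer_iff.1 hy ρ).1 h2
  exact ⟨!![p, r; q, s], by simpa [Acts] using hpq, by simpa [Acts] using hrs⟩

theorem acts_of_mem (ha : a ^ 3 = 1) (hρ : ρ ^ 3 = 1) (hc : a * ρ = ρ * a) {y : G} (hy : y ∈ T ha hρ hc) :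
    Acts a ρ y 1 := by
  obtain ⟨u, v, rfl⟩ := hy
  constructor
  · have := e_comm ha hρ hc u v 1 0
    rw [e_one_zero] at this
    simp only [Matrix.one_apply_eq, Matrix.one_apply_ne (show (1 : Fin 2) ≠ 0 by decide), e_one_zero]
    rw [this]
    group
  · have := e_comm ha hρ hc u v 0 1
    rw [e_zero_one] at this
    simp only [Matrix.one_apply_eq, Matrix.one_apply_ne (show (0 : Fin 2) ≠ 1 by decide), e_zero_one]
    rw [this]
    group

theorem step_mem (ha : orderOf a = 3) (hρ : orderOf ρ = 3) (hc : a * ρ = ρ * a) (hind : ρ ∉ Subgroup.zpowers a)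
    (hsyl : ¬ 27 ∣ Nat.card (Subgroup.centralizer ({a} : Set G)))
    {y : G} (hy : y ∈ Subgroup.normalizer (T (ha ▸ pow_orderOf_eq_one a) (hρ ▸ pow_orderOf_eq_one ρ) hc : Set G)) {k : ℕ}
    (hk : y ^ (3 ^ k) = 1) (hya : y * a = a * y) :
    y ∈ T (ha ▸ pow_orderOf_eq_one a) (hρ ▸ pow_orderOf_eq_one ρ) hc := by
  have : Fact (Nat.Prime 3) := ⟨Nat.prime_three⟩
  have ha3 : a ^ 3 = 1 := ha ▸ pow_orderOf_eq_one a
  have hρ3 : ρ ^ 3 = 1 := hρ ▸ pow_orderOf_eq_one ρ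
  by_contra hyT
  have hcT := card_T ha hρ hc hind
  have hTp : IsPGroup 3 (T ha3 hρ3 hc) := IsPGroup.of_card (n := 2) (by rw [hcT]; norm_num)
  have hZ : IsPGroup 3 (Subgroup.zpowers y) := by
    have : orderOf y ∣ 3 ^ k := orderOf_dvd_of_pow_eq_one hk
    obtain ⟨n, -, hn⟩ := (Nat.dvd_prime_pow Nat.prime_three).1 this
    exact IsPGroup.of_card (n := n) (by rw [Nat.card_zpowers, hn])
  have hK : IsPGroup 3 (Subgroup.zpowers y ⊔ T ha3 hρ3 hc : Subgroup G) :=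
    hZ.to_sup_of_normal_right' hTp (by
      rw [Subgroup.zpowers_le]; exact hy)
  have hKM : (Subgroup.zpowers y ⊔ T ha3 hρ3 hc : Subgroup G) ≤ Subgroup.centralizer ({a} : Set G) := by
    rw [sup_le_iff, Subgroup.zpowers_le]
    constructor
    · rw [Subgroup.mem_centralizer_singleton_iff]; exact hya
    · rintro _ ⟨u, v, rfl⟩
      rw [Subgroup.mem_centralizer_singleton_iff]
      have := e_comm ha3 hρ3 hc u v 1 0
      rwa [e_one_zero] at this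
  obtain ⟨n, hn⟩ := IsPGroup.iff_card.1 hK
  have h1 : Nat.card (T ha3 hρ3 hc) ∣ Nat.card (Subgroup.zpowers y ⊔ T ha3 hρ3 hc : Subgroup G) :=
    Subgroup.card_dvd_of_le le_sup_right
  rw [hcT, hn] at h1
  have h2 : Nat.card (Subgroup.zpowers y ⊔ T ha3 hρ3 hc : Subgroup G) ∣ Nat.card (Subgroup.centralizer ({a} : Set G)) :=
    Subgroup.card_dvd_of_le hKM
  have hn2 : n < 3 := by
    by_contra hn3
    apply hsyl
    have : 27 ∣ 3 ^ n := by
      have : (3 : ℕ) ^ 3 ∣ 3 ^ n := pow_dvd_pow 3 (by omega)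
      simpa using this
    exact this.trans (hn ▸ h2)
  have hn3 : Nat.card (Subgroup.zpowers y ⊔ T ha3 hρ3 hc : Subgroup G) ≤ 9 := by
    rw [hn]
    have : (3 : ℕ) ^ n ≤ 3 ^ 2 := Nat.pow_le_pow_right (by norm_num) (by omega)
    simpa using this
  have heq := Subgroup.eq_of_le_of_card_ge (le_sup_right : T ha3 hρ3 hc ≤ (Subgroup.zpowers y ⊔ T ha3 hρ3 hc : Subgroup G))
    (by rw [hcT]; exact hn3)
  apply hyT
  rw [heq]
  exact (le_sup_left : Subgroup.zpowers y ≤ _) (Subgroup.mem_zpowers y)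

theorem exists_g' (ha : orderOf a = 3) (hρ : orderOf ρ = 3) (hc : a * ρ = ρ * a) (hind : ρ ∉ Subgroup.zpowers a)
    (hsyl : ¬ 27 ∣ Nat.card (Subgroup.centralizer ({a} : Set G))) {g : G} (hg : g * ρ * g⁻¹ = a) :
    ∃ g' ∈ Subgroup.normalizer (T (ha ▸ pow_orderOf_eq_one a) (hρ ▸ pow_orderOf_eq_one ρ) hc : Set G), g' * ρ * g'⁻¹ = a := by
  have ha3 : a ^ 3 = 1 := ha ▸ pow_orderOf_eq_one a
  have hρ3 : ρ ^ 3 = 1 := hρ ▸ pow_orderOf_eq_one ρ
  have hcT := card_T ha hρ hc hind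
  let f : G ≃* G := MulAut.conj g
  have hf : ∀ x, f x = g * x * g⁻¹ := fun x => rfl
  have hX : T ha3 hρ3 hc ≤ Subgroup.centralizer ({a} : Set G) := by
    rintro _ ⟨u, v, rfl⟩
    rw [Subgroup.mem_centralizer_singleton_iff]
    have := e_comm ha3 hρ3 hc u v 1 0
    rwa [e_one_zero] at this
  have hY : (T ha3 hρ3 hc).map f.toMonoidHom ≤ Subgroup.centralizer ({a} : Set G) := by
    rintro _ ⟨w, ⟨u, v, rfl⟩, rfl⟩
    rw [Subgroup.mem_centralizer_singleton_iff]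
    have h1 := e_comm ha3 hρ3 hc u v 0 1
    rw [e_zero_one] at h1
    show g * e a ρ u v * g⁻¹ * a = a * (g * e a ρ u v * g⁻¹)
    calc g * e a ρ u v * g⁻¹ * a = g * e a ρ u v * g⁻¹ * (g * ρ * g⁻¹) := by rw [hg]
      _ = g * (e a ρ u v * ρ) * g⁻¹ := by group
      _ = g * (ρ * e a ρ u v) * g⁻¹ := by rw [h1]
      _ = (g * ρ * g⁻¹) * (g * e a ρ u v * g⁻¹) := by group
      _ = a * (g * e a ρ u v * g⁻¹) := by rw [hg]
  have cY : Nat.card ((T ha3 hρ3 hc).map f.toMonoidHom) = 9 := by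
    rw [Subgroup.card_map_of_injective f.injective]; exact hcT
  obtain ⟨m, hm, hmw⟩ := conj_of_card_nine _ _ _ hsyl hX hY hcT cY
  refine ⟨m * g, mem_normalizer_of_conj_le _ _ ?_, ?_⟩
  · intro w hw
    have := hmw (g * w * g⁻¹) ⟨w, hw, rfl⟩
    convert this using 1
    group
  · have hm' : m * a = a * m := Subgroup.mem_centralizer_singleton_iff.1 hm
    calc m * g * ρ * (m * g)⁻¹ = m * (g * ρ * g⁻¹) * m⁻¹ := by group
      _ = m * a * m⁻¹ := by rw [hg]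
      _ = a := by rw [hm']; group

theorem three_elt (hexp : ∀ g : G, (∃ k : ℕ, g ^ (2 ^ k) = 1) → g ^ 2 = 1) (ha : orderOf a = 3) (hρ : orderOf ρ = 3)
    (hc : a * ρ = ρ * a) (hind : ρ ∉ Subgroup.zpowers a) (hj2 : j ^ 2 = 1) (hja : j * a * j⁻¹ = a⁻¹) (hjρ : j * ρ = ρ * j)
    (hsyl : ¬ 27 ∣ Nat.card (Subgroup.centralizer ({a} : Set G))) {g' : G}
    (hg' : g' ∈ Subgroup.normalizer (T (ha ▸ pow_orderOf_eq_one a) (hρ ▸ pow_orderOf_eq_one ρ) hc : Set G))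
    (hg'ρ : g' * ρ * g'⁻¹ = a) {y : G}
    (hy : y ∈ Subgroup.normalizer (T (ha ▸ pow_orderOf_eq_one a) (hρ ▸ pow_orderOf_eq_one ρ) hc : Set G)) {k : ℕ}
    (hk : y ^ (3 ^ k) = 1) : Acts a ρ y 1 := by
  have ha3 : a ^ 3 = 1 := ha ▸ pow_orderOf_eq_one a
  have hρ3 : ρ ^ 3 = 1 := hρ ▸ pow_orderOf_eq_one ρ
  obtain ⟨m, hm⟩ := acts_exists ha3 hρ3 hc hy
  have hm1 : m ^ (3 ^ k) = 1 :=
    Acts.uniq ha hρ hc hind (hm.pow ha3 hρ3 hc _) (by rw [hk]; exact Acts.one)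
  have hm3 := mat_pow k m hm1
  by_contra hne
  have hm2 : m ≠ 1 := by
    rintro rfl
    exact hne hm
  rcases mat_fix m hm3 hm2 with ⟨h1, h2⟩ | ⟨h1, h2⟩ | ⟨ε, hε, h1, h2, h3⟩
  · have hya : y * a = a * y := by
      have := hm.1
      rw [h1, h2, e_one_zero] at this
      exact mul_inv_eq_iff_eq_mul.1 this
    exact hne (acts_of_mem ha3 hρ3 hc (step_mem ha hρ hc hind hsyl hy hk hya))
  · have hyρ : y * ρ = ρ * y := by
      have := hm.2
      rw [h1, h2, e_zero_one] at this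
      exact mul_inv_eq_iff_eq_mul.1 this
    have hy'N : g' * y * g'⁻¹ ∈ Subgroup.normalizer (T ha3 hρ3 hc : Set G) :=
      Subgroup.mul_mem _ (Subgroup.mul_mem _ hg' hy) (Subgroup.inv_mem _ hg')
    have hy'k : (g' * y * g'⁻¹) ^ (3 ^ k) = 1 := by
      rw [conj_pow, hk]; group
    have hy'a : (g' * y * g'⁻¹) * a = a * (g' * y * g'⁻¹) := by
      rw [← hg'ρ]
      calc g' * y * g'⁻¹ * (g' * ρ * g'⁻¹) = g' * (y * ρ) * g'⁻¹ := by group
        _ = g' * (ρ * y) * g'⁻¹ := by rw [hyρ]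
        _ = _ := by group
    have h3 := step_mem ha hρ hc hind hsyl hy'N hy'k hy'a
    have h4 : y ∈ T ha3 hρ3 hc := (Subgroup.mem_normalizer_iff.1 hg' y).2 h3
    exact hne (acts_of_mem ha3 hρ3 hc h4)
  · have hJ : Acts a ρ j !![2, 0; 0, 1] := by
      constructor
      · have h20 : e a ρ 2 0 = a⁻¹ := by
          have : (2 : ZMod 3).val = 2 := rfl
          simp only [e, this, ZMod.val_zero, pow_zero, mul_one]
          rw [eq_inv_iff_mul_eq_one]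
          simpa [pow_succ] using ha3
        simpa [h20] using hja
      · have : j * ρ * j⁻¹ = ρ := by rw [hjρ]; group
        simpa [e_zero_one] using this
    have hjinv : j⁻¹ = j := by
      rw [inv_eq_iff_mul_eq_one, ← pow_two, hj2]
    have hjb : j * e a ρ 1 ε * j⁻¹ = e a ρ 2 ε := by
      rw [hJ.apply ha3 hρ3 hc]
      simp
    have hjc : j * e a ρ 2 ε * j⁻¹ = e a ρ 1 ε := by
      rw [hJ.apply ha3 hρ3 hc]
      have : (2 : ZMod 3) * 2 = 1 := by decide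
      simp [this]
    have hyb : y * e a ρ 1 ε * y⁻¹ = e a ρ 1 ε := by
      rw [hm.apply ha3 hρ3 hc]
      congr 1
    have hyc : y * e a ρ 2 ε * y⁻¹ = e a ρ 2 ε * e a ρ 1 ε ∨ y * e a ρ 2 ε * y⁻¹ = e a ρ 2 ε * (e a ρ 1 ε)⁻¹ := by
      rw [hm.apply ha3 hρ3 hc]
      have h2' : (-1 : ZMod 3) = 2 + -1 - 2 := by decide
      rcases h3 with ⟨h3, h4⟩ | ⟨h3, h4⟩
      · left
        rw [← e_add ha3 hρ3 hc]
        exact congrArg₂ _ (by rw [← h3]) (by rw [← h4])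
      · right
        rw [e_inv ha3 hρ3 hc, ← e_add ha3 hρ3 hc]
        exact congrArg₂ _ (by rw [← h3]) (by rw [← h4])
    have hb3 : (e a ρ 1 ε) ^ 3 = 1 := by
      rw [e_pow ha3 hρ3 hc]
      have h5 : ∀ x : ZMod 3, 3 • x = 0 := by decide
      rw [h5, h5, e_zero]
    have hb1 : e a ρ 1 ε ≠ 1 := by
      intro h
      have := (e_eq_one ha hρ hc hind h).1
      exact absurd this (by decide)
    have hy'c : (j * y * j⁻¹) * e a ρ 2 ε * (j * y * j⁻¹)⁻¹ = e a ρ 2 ε := by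
      calc (j * y * j⁻¹) * e a ρ 2 ε * (j * y * j⁻¹)⁻¹ = j * (y * (j⁻¹ * e a ρ 2 ε * j) * y⁻¹) * j⁻¹ := by group
        _ = j * (y * (j * e a ρ 2 ε * j⁻¹) * y⁻¹) * j⁻¹ := by rw [hjinv]
        _ = j * (y * e a ρ 1 ε * y⁻¹) * j⁻¹ := by rw [hjc]
        _ = j * e a ρ 1 ε * j⁻¹ := by rw [hyb]
        _ = e a ρ 2 ε := hjb
    have hy'b0 : (j * y * j⁻¹) * e a ρ 1 ε * (j * y * j⁻¹)⁻¹ = j * (y * e a ρ 2 ε * y⁻¹) * j⁻¹ := by
      calc (j * y * j⁻¹) * e a ρ 1 ε * (j * y * j⁻¹)⁻¹ = j * (y * (j⁻¹ * e a ρ 1 ε * j) * y⁻¹) * j⁻¹ := by group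
        _ = j * (y * (j * e a ρ 1 ε * j⁻¹) * y⁻¹) * j⁻¹ := by rw [hjinv]
        _ = j * (y * e a ρ 2 ε * y⁻¹) * j⁻¹ := by rw [hjb]
    have hy'b : (j * y * j⁻¹) * e a ρ 1 ε * (j * y * j⁻¹)⁻¹ = e a ρ 1 ε * e a ρ 2 ε ∨
        (j * y * j⁻¹) * e a ρ 1 ε * (j * y * j⁻¹)⁻¹ = e a ρ 1 ε * (e a ρ 2 ε)⁻¹ := by
      rw [hy'b0]
      rcases hyc with h | h
      · left
        rw [h]
        calc j * (e a ρ 2 ε * e a ρ 1 ε) * j⁻¹ = (j * e a ρ 2 ε * j⁻¹) * (j * e a ρ 1 ε * j⁻¹) := by group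
          _ = _ := by rw [hjc, hjb]
      · right
        rw [h]
        calc j * (e a ρ 2 ε * (e a ρ 1 ε)⁻¹) * j⁻¹ = (j * e a ρ 2 ε * j⁻¹) * (j * e a ρ 1 ε * j⁻¹)⁻¹ := by group
          _ = _ := by rw [hjc, hjb]
    exact transvection_pair hexp (e_comm ha3 hρ3 hc _ _ _ _) hb3 hb1 hyb hyc hy'c hy'b

theorem act_contra (hexp : ∀ g : G, (∃ k : ℕ, g ^ (2 ^ k) = 1) → g ^ 2 = 1) (ha : orderOf a = 3) (hρ : orderOf ρ = 3)
    (hc : a * ρ = ρ * a) (hind : ρ ∉ Subgroup.zpowers a) (hj2 : j ^ 2 = 1) (hja : j * a * j⁻¹ = a⁻¹) (hjρ : j * ρ = ρ * j)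
    (hsyl : ¬ 27 ∣ Nat.card (Subgroup.centralizer ({a} : Set G))) {g' : G}
    (hg' : g' ∈ Subgroup.normalizer (T (ha ▸ pow_orderOf_eq_one a) (hρ ▸ pow_orderOf_eq_one ρ) hc : Set G))
    (hg'ρ : g' * ρ * g'⁻¹ = a) {x : G}
    (hx : x ∈ Subgroup.normalizer (T (ha ▸ pow_orderOf_eq_one a) (hρ ▸ pow_orderOf_eq_one ρ) hc : Set G))
    {X : Mat} (hX : Acts a ρ x X) (h : X ^ 2 = !![2, 0; 0, 2] ∨ ((X ^ 2) ^ 3 = 1 ∧ X ^ 2 ≠ 1)) : False := by
  have ha3 : a ^ 3 = 1 := ha ▸ pow_orderOf_eq_one a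
  have hρ3 : ρ ^ 3 = 1 := hρ ▸ pow_orderOf_eq_one ρ
  rcases h with h | ⟨h3, h1⟩
  · have h2 := (hX.pow ha3 hρ3 hc 2).1
    rw [h] at h2
    have h20 : e a ρ 2 0 = a⁻¹ := by
      have : (2 : ZMod 3).val = 2 := rfl
      simp only [e, this, ZMod.val_zero, pow_zero, mul_one]
      rw [eq_inv_iff_mul_eq_one]
      simpa [pow_succ] using ha3
    have h4 : x ^ 2 * a * (x ^ 2)⁻¹ = a⁻¹ := by
      rw [h2]
      simpa using h20
    refine order4_false hexp h4 ?_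
    intro h5
    have : orderOf a ∣ 2 := orderOf_dvd_of_pow_eq_one h5
    rw [ha] at this
    omega
  · have hpos : orderOf (x ^ 2) ≠ 0 := (orderOf_pos _).ne'
    obtain ⟨l, n, hn, hln⟩ := Nat.exists_eq_pow_mul_and_not_dvd hpos 3 (by norm_num)
    have hw : ((x ^ 2) ^ n) ^ (3 ^ l) = 1 := by
      rw [← pow_mul, mul_comm, ← hln, pow_orderOf_eq_one]
    have hwN : (x ^ 2) ^ n ∈ Subgroup.normalizer (T ha3 hρ3 hc : Set G) :=
      Subgroup.pow_mem _ (Subgroup.pow_mem _ hx _) _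
    have h2 := three_elt hexp ha hρ hc hind hj2 hja hjρ hsyl hg' hg'ρ hwN hw
    have h4 := ((hX.pow ha3 hρ3 hc 2).pow ha3 hρ3 hc n)
    have h5 : (X ^ 2) ^ n = 1 := Acts.uniq ha hρ hc hind h4 h2
    have h6 : (X ^ 2) ^ (n % 3) = 1 := by
      rw [← pow_eq_pow_mod n h3, h5]
    have h7 : n % 3 = 1 ∨ n % 3 = 2 := by omega
    rcases h7 with h7 | h7
    · rw [h7, pow_one] at h6
      exact h1 h6
    · rw [h7] at h6
      apply h1
      have : (X ^ 2) ^ 3 = (X ^ 2) ^ 2 * X ^ 2 := pow_succ _ 2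
      rw [h3, h6, one_mul] at this
      exact this.symm

/-- The case `|A₃| = 3` of `three_not_dvd`. -/
theorem e9_false (hexp : ∀ g : G, (∃ k : ℕ, g ^ (2 ^ k) = 1) → g ^ 2 = 1) {g : G} (ha : orderOf a = 3) (hρ : orderOf ρ = 3)
    (hc : a * ρ = ρ * a) (hind : ρ ∉ Subgroup.zpowers a) (hj2 : j ^ 2 = 1) (hja : j * a * j⁻¹ = a⁻¹) (hjρ : j * ρ = ρ * j)
    (hg : g * ρ * g⁻¹ = a) (hsyl : ¬ 27 ∣ Nat.card (Subgroup.centralizer ({a} : Set G))) : False := by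
  have ha3 : a ^ 3 = 1 := ha ▸ pow_orderOf_eq_one a
  have hρ3 : ρ ^ 3 = 1 := hρ ▸ pow_orderOf_eq_one ρ
  obtain ⟨g', hg'N, hg'⟩ := exists_g' ha hρ hc hind hsyl hg
  obtain ⟨m, hm⟩ := acts_exists ha3 hρ3 hc hg'N
  have h1 := hm.2
  rw [hg', ← e_one_zero (a := a) (ρ := ρ)] at h1
  rw [e_one_zero] at h1
  nth_rewrite 1 [← e_one_zero (a := a) (ρ := ρ)] at h1
  have h2 := e_inj ha hρ hc hind h1
  have hmeq : m = !![m 0 0, 1; m 1 0, 0] := by
    ext i k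
    fin_cases i <;> fin_cases k
    · rfl
    · exact h2.1.symm
    · rfl
    · exact h2.2.symm
  have hq : m 1 0 ≠ 0 := by
    intro hq
    have h3 := hm.apply ha3 hρ3 hc 1 (-(m 0 0))
    rw [← h2.1, ← h2.2, hq] at h3
    have h4 : e a ρ 1 (-(m 0 0)) = 1 := by
      have h5 : g' * e a ρ 1 (-(m 0 0)) * g'⁻¹ = 1 := by
        rw [h3]
        have : m 0 0 * 1 + 1 * -m 0 0 = 0 := by ring
        simp [this, e_zero]
      have h6 : g' * e a ρ 1 (-(m 0 0)) = g' := by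
        rwa [mul_inv_eq_one] at h5
      simpa using h6
    have := (e_eq_one ha hρ hc hind h4).1
    exact absurd this (by decide)
  have hJ : Acts a ρ j !![2, 0; 0, 1] := by
    constructor
    · have h20 : e a ρ 2 0 = a⁻¹ := by
        have : (2 : ZMod 3).val = 2 := rfl
        simp only [e, this, ZMod.val_zero, pow_zero, mul_one]
        rw [eq_inv_iff_mul_eq_one]
        simpa [pow_succ] using ha3
      simpa [h20] using hja
    · have : j * ρ * j⁻¹ = ρ := by rw [hjρ]; group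
      simpa [e_zero_one] using this
  have hjN : j ∈ Subgroup.normalizer (T ha3 hρ3 hc : Set G) := by
    apply mem_normalizer_of_conj_le
    rintro _ ⟨u, v, rfl⟩
    rw [hJ.apply ha3 hρ3 hc]
    exact e_mem ha3 hρ3 hc _ _
  rw [hmeq] at hm
  rcases mat_final (m 0 0) (m 1 0) hq with h | h
  · exact act_contra hexp ha hρ hc hind hj2 hja hjρ hsyl hg'N hg' hg'N hm h
  · exact act_contra hexp ha hρ hc hind hj2 hja hjρ hsyl hg'N hg' (Subgroup.mul_mem _ hg'N hjN)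
      (hm.mul ha3 hρ3 hc hJ) h

end main

end LocThreeE9
end Cfsg.Agent.Lib.JT
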